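import Groth.Agent.IntMult12.CohTensor
import Groth.Agent.DCK91.TorFlat

/-!
# `D^-_Coh` is closed under derived tensor products
-/

set_option autoImplicit false
set_option backward.isDefEq.respectTransparency false
set_option linter.style.haveILetI false

noncomputable section

universe u

open CategoryTheory Limits AlgebraicGeometry

attribute [local instance] HasDerivedCategory.standard

namespace Groth.Agent.IntMult12

open Groth.Agent.Mod48

theorem isZero_tc_X {C : Type u} [SmallCategory C] {J : GrothendieckTopology C} {O : Sheaf J CommRingCat.{u}}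
    (L F : CC O) {a b : ℤ} (hL : ∀ p, a < p → IsZero (L.X p)) (hF : ∀ q, b < q → IsZero (F.X q)) (i : ℤ)
    (hi : a + b < i) : IsZero ((tc L F).X i) := by
  rw [IsZero.iff_id_eq_zero]
  refine HomologicalComplex.mapBifunctor.hom_ext fun p q h => ?_
  by_cases hp : a < p
  · exact (Functor.map_isZero ((ModSite.tensorBi O).flip.obj (F.X q)) (hL p hp)).eq_of_src _ _
  · exact (Functor.map_isZero ((ModSite.tensorBi O).obj (L.X p)) (hF q (by
      change p + q = i at h; omega))).eq_of_src _ _

variable {X : Scheme.{u}} [IsLocallyNoetherian X] (F : CochainComplex X.Modules ℤ) (b : ℤ)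
  (hb : ∀ i, b < i → IsZero (F.X i)) (hfl : ∀ i, ModSite.IsFlat (O := X.sheaf) (F.X i)) (hF : CohH F)

include hb hfl hF in
/-- Tor sheaves against a coherent module are coherent. -/
theorem cohH_modTens (M : X.Modules) (hM : Coh.IsCoh M) : CohH (modTens F M) := by
  intro i
  refine QC70.isCoh_of_restrict_affine _ fun U => ?_
  haveI : IsAffine U.1 := U.2
  let j := U.1.ι
  let G := Scheme.Modules.pullback j
  let eG : Scheme.Modules.restrictFunctor j ≅ G := Scheme.Modules.restrictFunctorIsoPullback j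
  haveI : PreservesFiniteLimits G := preservesFiniteLimits_of_natIso eG
  haveI : PreservesFiniteColimits G := preservesFiniteColimits_of_natIso eG
  let F' := (G.mapHomologicalComplex (ComplexShape.up ℤ)).obj F
  have hb' : ∀ k, b < k → IsZero (F'.X k) := fun k hk => Functor.map_isZero G (hb k hk)
  have hfl' : ∀ k, ModSite.IsFlat (O := U.1.toScheme.sheaf) (F'.X k) := fun k =>
    DCK91.isFlat_of_flatMod _ (DCK91.isFlat_pullback j _ (DCK91.flatMod_of_isFlat _ (hfl k)))
  have hF' : CohH F' := fun k =>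
    QC70.isCoh_of_iso ((F.sc k).mapHomologyIso G).symm (E4O.isCoh_pullback j _ (hF k))
  have h := isCoh_modTens_affine F' b hb' hfl' hF' (b - i + 1).toNat i (by omega) _ (E4O.isCoh_pullback j M hM)
  let e : (G.mapHomologicalComplex (ComplexShape.up ℤ)).obj (modTens F M) ≅ modTens F' (G.obj M) :=
    HomologicalComplex.Hom.isoOfComponents (fun k => (DCK91.pullTensBi j M (F.X k)).symm) fun k l _ => by
      rw [Iso.symm_hom, Iso.symm_hom, Iso.inv_comp_eq, ← Category.assoc, Iso.eq_comp_inv]
      exact DCK91.pullTens_right j M (F.d k l)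
  exact QC70.isCoh_of_iso
    (((HomologicalComplex.homologyFunctor _ (ComplexShape.up ℤ) i).mapIso e).symm ≪≫
      ((modTens F M).sc i).mapHomologyIso G ≪≫ (eG.app ((modTens F M).homology i)).symm) h

/-- `L ⊗ F` -/
abbrev tensF : CochainComplex X.Modules ℤ ⥤ CochainComplex X.Modules ℤ :=
  (ModSite.tensorCx X.sheaf).flip.obj F

omit [IsLocallyNoetherian X] in
include hb hfl in
theorem isKFlat_F : ModSite.IsKFlat (O := X.sheaf) F :=
  (DCK91.kff_of_le F b hb fun i => DCK91.flatMod_of_isFlat _ (hfl i)).1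

omit [IsLocallyNoetherian X] in
include hb in
theorem isZero_tensF (L : CochainComplex X.Modules ℤ) (a : ℤ) [L.IsStrictlyLE a] (i : ℤ) (hi : a + b < i) :
    IsZero (((tensF F).obj L).X i) :=
  isZero_tc_X (O := X.sheaf) L F (fun p hp => L.isZero_of_isStrictlyLE a p hp) hb i hi

include hb hfl hF in
theorem cohH_tensF_single (M : X.Modules) (hM : Coh.IsCoh M) (n : ℤ) :
    CohH ((tensF F).obj ((HomologicalComplex.single X.Modules (ComplexShape.up ℤ) n).obj M)) := by
  refine CohH.of_iso (DerComp18.tcLIso (O := X.sheaf) M n F) fun i => ?_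
  exact QC70.isCoh_of_iso
    (((HomologicalComplex.homologyFunctor X.Modules (ComplexShape.up ℤ) 0).shiftIso (-n) i (-n + i) rfl).app
      (modTens F M)).symm (cohH_modTens F b hb hfl hF M hM _)

omit [IsLocallyNoetherian X] in
include hb hfl in
theorem homologyIso_tensF {L L' : CochainComplex X.Modules ℤ} (φ : L ⟶ L') [QuasiIso φ] (i : ℤ) :
    Nonempty (((tensF F).obj L).homology i ≅ ((tensF F).obj L').homology i) := by
  haveI := DCK91.quasiIso_right (O := X.sheaf) F (isKFlat_F F b hb hfl) φ ‹_›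
  exact ⟨isoOfQuasiIsoAt ((tensF F).map φ) i⟩

include hb hfl hF in
/-- Dévissage on the cohomology sheaves of `L`. -/
theorem isCoh_tensF : ∀ (d : ℕ) (L : CochainComplex X.Modules ℤ) (a : ℤ), L.IsLE a → CohH L →
    ∀ i, a + b - d < i → Coh.IsCoh (((tensF F).obj L).homology i)
  | 0, L, a, hL, _, i, hi => by
    haveI := hL
    obtain ⟨e⟩ := homologyIso_tensF F b hb hfl (L.ιTruncLE a) i
    exact QC70.isCoh_of_iso e (isCoh_homology_of_isZero (isZero_tensF F b hb _ a i (by omega)))
  | d + 1, L, a, hL, hco, i, hi => by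
    haveI := hL
    obtain ⟨e⟩ := homologyIso_tensF F b hb hfl (L.ιTruncLE a) i
    refine QC70.isCoh_of_iso e ?_
    let L' : CochainComplex X.Modules ℤ := L.truncLE a
    have hL' : CohH L' := fun k => by
      by_cases hk : k ≤ a
      · haveI := CochainComplex.quasiIsoAt_ιTruncLE L a k hk
        exact QC70.isCoh_of_iso (isoOfQuasiIsoAt (L.ιTruncLE a) k).symm (hco k)
      · exact isCoh_homology_of_isZero (L'.isZero_of_isStrictlyLE a k (by omega))
    let S := L'.shortComplexTruncLE (a - 1)
    have hS : S.ShortExact := L'.shortComplexTruncLE_shortExact (a - 1)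
    haveI : (tensF F).Additive := additive_tensorCx_flip_obj (O := X.sheaf) F
    have hT : (S.map (tensF F)).ShortExact :=
      shortExact_map_tensorCx_flip_obj (O := X.sheaf) F S fun p q =>
        haveI := (hfl q).1
        haveI := (hfl q).2
        (hS.map_of_exact (HomologicalComplex.eval X.Modules (ComplexShape.up ℤ) p)).map_of_exact
          ((ModSite.tensorBi X.sheaf).flip.obj (F.X q))
    -- the top piece is a single coherent module
    let T : CochainComplex X.Modules ℤ := L'.truncGE a
    haveI : T.IsStrictlyLE a := by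
      rw [CochainComplex.isStrictlyLE_iff]
      intro k hk
      exact IsZero.of_iso (L'.isZero_of_isStrictlyLE a k hk) (L'.truncGEXIso a k hk)
    obtain ⟨M, ⟨eM⟩⟩ := CochainComplex.exists_iso_single T a
    have hM : Coh.IsCoh M := QC70.isCoh_of_iso
      ((asIso (HomologicalComplex.homologyMap (L'.πTruncGE a) a) ≪≫
        (HomologicalComplex.homologyFunctor X.Modules (ComplexShape.up ℤ) a).mapIso eM) ≪≫
        HomologicalComplex.singleObjHomologySelfIso (ComplexShape.up ℤ) a M) (hL' a)
    have h3 : CohH ((tensF F).obj S.X₃) := fun k => by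
      have ha1 : a - 1 + 1 = a := sub_add_cancel a 1
      haveI : QuasiIso (L'.shortComplexTruncLEX₃ToTruncGE (a - 1) a ha1) := inferInstance
      obtain ⟨e₃⟩ := homologyIso_tensF F b hb hfl (L'.shortComplexTruncLEX₃ToTruncGE (a - 1) a ha1) k
      exact QC70.isCoh_of_iso (e₃ ≪≫ (HomologicalComplex.homologyFunctor X.Modules (ComplexShape.up ℤ) k).mapIso
        ((tensF F).mapIso eM)).symm (cohH_tensF_single F b hb hfl hF M hM a k)
    have h1 : CohH S.X₁ := fun k => by
      by_cases hk : k ≤ a - 1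
      · haveI := CochainComplex.quasiIsoAt_ιTruncLE L' (a - 1) k hk
        exact QC70.isCoh_of_iso (isoOfQuasiIsoAt (L'.ιTruncLE (a - 1)) k).symm (hL' k)
      · exact isCoh_homology_of_isZero ((L'.truncLE (a - 1)).isZero_of_isStrictlyLE (a - 1) k (by omega))
    haveI : S.X₁.IsStrictlyLE (a - 1) := inferInstanceAs ((L'.truncLE (a - 1)).IsStrictlyLE (a - 1))
    haveI : S.X₁.IsLE (a - 1) := inferInstance
    have hd := isCoh_tensF d S.X₁ (a - 1) inferInstance h1
    exact isCoh_of_five' (hT.homology_exact₁ (i - 1) i (sub_add_cancel i 1)) (hT.homology_exact₂ i)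
      (hT.homology_exact₃ i (i + 1) rfl) (preCoh_of_isCoh (h3 (i - 1))) (hd i (by push_cast at hi; omega)) (h3 i)
      (hd (i + 1) (by push_cast at hi; omega))

theorem isCohD_toD_iff (E : CochainComplex X.Modules ℤ) : DCoh.IsCohD (DCoh.toD X E) ↔ CohH E :=
  forall_congr' fun i => ⟨QC70.isCoh_of_iso ((DerivedCategory.homologyFunctorFactors X.Modules i).app E),
    QC70.isCoh_of_iso ((DerivedCategory.homologyFunctorFactors X.Modules i).app E).symm⟩

/-- `D^-_Coh` is closed under the derived tensor product. -/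
theorem isCohD_lTensor (E : CochainComplex X.Modules ℤ) [DCoh.HasLTensorCx E] (L : DCoh.D X)
    (hL : DCoh.IsCohD L) (hLb : ∃ a : ℤ, ∀ i, a < i → IsZero (DCoh.HD L i))
    (hE : DCoh.IsCohD (DCoh.toD X E)) (hEb : ∃ b : ℤ, ∀ i, b < i → IsZero (DCoh.HD (DCoh.toD X E) i)) :
    DCoh.IsCohD ((DCoh.LTensorCx E).obj L) ∧
      ∃ n : ℤ, ∀ i, n < i → IsZero (DCoh.HD ((DCoh.LTensorCx E).obj L) i) := by
  obtain ⟨a, ha⟩ := hLb
  obtain ⟨b, hb⟩ := hEb
  have hEle : CochainComplex.IsLE E b := (CochainComplex.isLE_iff E b).2 fun i hi =>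
    (HomologicalComplex.exactAt_iff_isZero_homology _ _).2
      ((hb i hi).of_iso ((DerivedCategory.homologyFunctorFactors X.Modules i).app E).symm)
  obtain ⟨F, c, hFb, hFfl, hc⟩ := DCK91.exists_flat_res_le (O := X.sheaf) E b hEle
  haveI := hc
  let L₀ : CochainComplex X.Modules ℤ := DerivedCategory.Q.objPreimage L
  let eL : DerivedCategory.Q.obj L₀ ≅ L := DerivedCategory.Q.objObjPreimageIso L
  obtain ⟨P, p, hP, -, hp, -⟩ := exists_resolution (O := X.sheaf) L₀
  haveI := hp
  -- the value of the derived tensor product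
  haveI : ModSite.HasLTensorCx (O := X.sheaf) E := ‹DCoh.HasLTensorCx E›
  haveI := DerComp18.isIso_ltCounit (O := X.sheaf) E P hP
  have h1 : QuasiIso (((ModSite.tensorCx X.sheaf).obj P).map c) :=
    quasiIso_map_of_split _ c (preservesHtp_tensorCx_obj P)
      (fun S _ hσ => shortExact_tensorCx_obj_of_split P S hσ)
      fun S _ _ _ _ h => acyclic_of_iso (tcSymm S.X₃ P) ((isKFlat_iff P).1 hP S.X₃ h)
  have h2 : QuasiIso ((tensF F).map p) := DCK91.quasiIso_right (O := X.sheaf) F
    (isKFlat_F F b hFb hFfl) p hp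
  haveI : IsIso (DerivedCategory.Q.map (C := CochainComplex X.Modules ℤ) p) :=
    (DerivedCategory.isIso_Q_map_iff_quasiIso X.Modules p).2 hp
  haveI : IsIso (DerivedCategory.Q.map (C := CochainComplex X.Modules ℤ) (((ModSite.tensorCx X.sheaf).obj P).map c)) :=
    (DerivedCategory.isIso_Q_map_iff_quasiIso X.Modules _).2 h1
  haveI : IsIso (DerivedCategory.Q.map (C := CochainComplex X.Modules ℤ) ((tensF F).map p)) :=
    (DerivedCategory.isIso_Q_map_iff_quasiIso X.Modules _).2 h2
  let eV : (DCoh.LTensorCx E).obj L ≅ DerivedCategory.Q.obj ((tensF F).obj L₀) :=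
    (DCoh.LTensorCx E).mapIso ((asIso (DerivedCategory.Q.map (C := CochainComplex X.Modules ℤ) p) ≪≫ eL).symm) ≪≫
      asIso ((DerComp18.ltCounit (O := X.sheaf) E).app P) ≪≫
      (asIso (DerivedCategory.Q.map (C := CochainComplex X.Modules ℤ) (((ModSite.tensorCx X.sheaf).obj P).map c))).symm ≪≫
      asIso (DerivedCategory.Q.map (C := CochainComplex X.Modules ℤ) ((tensF F).map p))
  have hL₀le : CochainComplex.IsLE L₀ a := (CochainComplex.isLE_iff L₀ a).2 fun i hi =>
    (HomologicalComplex.exactAt_iff_isZero_homology _ _).2 ((ha i hi).of_iso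
      ((((DerivedCategory.homologyFunctorFactors X.Modules i).app L₀).symm) ≪≫
        (DerivedCategory.homologyFunctor X.Modules i).mapIso eL))
  have hcoL : CohH L₀ := fun i => QC70.isCoh_of_iso
    ((DerivedCategory.homologyFunctor X.Modules i).mapIso eL.symm ≪≫
      (DerivedCategory.homologyFunctorFactors X.Modules i).app L₀) (hL i)
  have hcoF : CohH F := fun i =>
    haveI := hc.quasiIsoAt i
    QC70.isCoh_of_iso (isoOfQuasiIsoAt c i).symm ((isCohD_toD_iff E).1 hE i)
  let eH := fun i : ℤ => (DerivedCategory.homologyFunctor X.Modules i).mapIso eV ≪≫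
    (DerivedCategory.homologyFunctorFactors X.Modules i).app ((tensF F).obj L₀)
  refine ⟨fun i => QC70.isCoh_of_iso (eH i).symm
    (isCoh_tensF F b hFb hFfl hcoF (a + b - i + 1).toNat L₀ a hL₀le hcoL i (by omega)), a + b, fun i hi => ?_⟩
  haveI := hL₀le
  obtain ⟨e⟩ := homologyIso_tensF F b hFb hFfl (L₀.ιTruncLE a) i
  refine IsZero.of_iso ?_ (eH i ≪≫ e.symm)
  exact (HomologicalComplex.exactAt_iff_isZero_homology _ i).1
    (ShortComplex.exact_of_isZero_X₂ _ (isZero_tensF F b hFb _ a i hi))

end Groth.Agent.IntMult12
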