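import Groth.Agent.IntMult12.LocalAlg
import Groth.Agent.CAlg1.Regular

/-!
# Length one intersections: both rings are regular
-/

set_option autoImplicit false
set_option linter.style.haveILetI false

universe u

open IsLocalRing

namespace Groth.Agent.IntMult12

theorem regular_of_sup_eq' : ∀ (n : ℕ) (R : Type u) [CommRing R] [IsRegularLocalRing R] (P₀ P Q : Ideal R)
    [P.IsPrime], P₀ ≤ P → ringKrullDim R = n → P₀ ⊔ Q = maximalIdeal R →
    ringKrullDim R ≤ ringKrullDim (R ⧸ P) + ringKrullDim (R ⧸ Q) → IsRegularLocalRing (R ⧸ P₀) := by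
  intro n
  induction n with
  | zero =>
    intro R _ _ P₀ P Q _ hle hn _ _
    haveI := CAlg1.isDomain_regular R
    have hP : P = ⊥ := by
      by_contra hne
      have h := CAlg1.ringKrullDim_quotient_succ_le_of_domain hne
      have : Nontrivial (R ⧸ P) := Ideal.Quotient.nontrivial_iff.mpr ‹P.IsPrime›.ne_top
      obtain ⟨m, hm⟩ : ∃ m : ℕ∞, ringKrullDim (R ⧸ P) = m :=
        (WithBot.ne_bot_iff_exists.mp (ne_bot_of_le_ne_bot WithBot.coe_ne_bot (ringKrullDim_nonneg_of_nontrivial (R := R ⧸ P)))).imp fun a h => h.symm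
      rw [hn, hm] at h
      have h' : m + 1 ≤ 0 := by exact_mod_cast h
      simp at h'
    obtain rfl : P₀ = ⊥ := le_bot_iff.1 (hP ▸ hle)
    exact IsRegularLocalRing.of_ringEquiv (RingEquiv.quotientBot R).symm
  | succ n ih =>
    intro R _ _ P₀ P Q _ hle hn hsup hdim
    haveI := CAlg1.isDomain_regular R
    by_cases hsq : P₀ ≤ maximalIdeal R ^ 2
    · have hQm : Q = maximalIdeal R := by
        refine le_antisymm (hsup ▸ le_sup_right) ?_
        refine Submodule.le_of_le_smul_of_le_jacobson_bot (maximalIdeal R).fg_of_isNoetherianRing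
          (IsLocalRing.maximalIdeal_le_jacobson _) ?_
        rw [smul_eq_mul, ← pow_two]
        calc maximalIdeal R = P₀ ⊔ Q := hsup.symm
          _ ≤ maximalIdeal R ^ 2 ⊔ Q := sup_le_sup_right hsq _
          _ = _ := sup_comm _ _
      have hP : P = ⊥ := by
        by_contra hne
        have h := CAlg1.ringKrullDim_quotient_succ_le_of_domain hne
        rw [hQm, ringKrullDim_eq_zero_of_isField
          (Ideal.Quotient.maximal_ideal_iff_isField_quotient (maximalIdeal R) |>.1 inferInstance), add_zero] at hdim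
        have h2 := h.trans hdim
        have : Nontrivial (R ⧸ P) := Ideal.Quotient.nontrivial_iff.mpr ‹P.IsPrime›.ne_top
        obtain ⟨m, hm⟩ : ∃ m : ℕ∞, ringKrullDim (R ⧸ P) = m :=
          (WithBot.ne_bot_iff_exists.mp (ne_bot_of_le_ne_bot WithBot.coe_ne_bot (ringKrullDim_nonneg_of_nontrivial (R := R ⧸ P)))).imp fun a h => h.symm
        rw [hm, hn] at h
        rw [hm] at h2
        have h' : m + 1 ≤ ((n + 1 : ℕ) : ℕ∞) := by exact_mod_cast h
        have h2' : m + 1 ≤ m := by exact_mod_cast h2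
        have hmt : m ≠ ⊤ := by rintro rfl; simp at h'
        exact not_lt.2 h2' ((ENat.lt_add_one_iff hmt).2 le_rfl)
      obtain rfl : P₀ = ⊥ := le_bot_iff.1 (hP ▸ hle)
      exact IsRegularLocalRing.of_ringEquiv (RingEquiv.quotientBot R).symm
    · obtain ⟨x, hxP₀, hx2⟩ := SetLike.not_le_iff_exists.1 hsq
      have hxP := hle hxP₀
      have hI₀ : Ideal.span {x} ≤ P₀ := (Ideal.span_singleton_le_iff_mem _).2 hxP₀
      have hxm : x ∈ maximalIdeal R := le_maximalIdeal ‹P.IsPrime›.ne_top hxP
      obtain ⟨hreg, hd⟩ := CAlg1.regular_quotient_singleton hxm hx2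
      have hI : Ideal.span {x} ≤ P := (Ideal.span_singleton_le_iff_mem _).2 hxP
      let mk := Ideal.Quotient.mk (Ideal.span ({x} : Set R))
      have : (P.map mk).IsPrime := Ideal.isPrime_map_quotientMk_of_isPrime hI
      have hn' : ringKrullDim (R ⧸ Ideal.span ({x} : Set R)) = n := by
        rw [hn] at hd
        cases hc : ringKrullDim (R ⧸ Ideal.span ({x} : Set R)) with
        | bot => rw [hc, WithBot.bot_add] at hd; exact absurd hd.symm WithBot.coe_ne_bot
        | coe a =>
          rw [hc] at hd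
          have hd' : a + 1 = ((n + 1 : ℕ) : ℕ∞) := WithBot.coe_inj.mp hd
          push_cast at hd'
          exact congrArg WithBot.some ((WithTop.add_right_inj ENat.one_ne_top).mp hd')
      let eP : (R ⧸ Ideal.span ({x} : Set R)) ⧸ P.map mk ≃+* R ⧸ P :=
        (DoubleQuot.quotQuotEquivQuotSup _ P).trans (Ideal.quotEquivOfEq (sup_eq_right.2 hI))
      let eQ : (R ⧸ Ideal.span ({x} : Set R)) ⧸ Q.map mk ≃+* R ⧸ (Ideal.span ({x} : Set R) ⊔ Q) :=
        DoubleQuot.quotQuotEquivQuotSup _ Q
      have hQdim : ringKrullDim (R ⧸ Q) ≤ ringKrullDim (R ⧸ (Ideal.span ({x} : Set R) ⊔ Q)) + 1 := by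
        have h := Module.supportDim_le_supportDim_quotSMulTop_succ (R := R) (M := R ⧸ Q) hxm
        rw [Module.supportDim_quotient_eq_ringKrullDim,
          Module.supportDim_eq_of_equiv ((Submodule.quotEquivOfEq _ _
            (Submodule.ideal_span_singleton_smul x (⊤ : Submodule R (R ⧸ Q))).symm).trans
            (quotQuot (Ideal.span {x}) Q)), Module.supportDim_quotient_eq_ringKrullDim, sup_comm] at h
        exact h
      have := ih (R ⧸ Ideal.span ({x} : Set R)) (P₀.map mk) (P.map mk) (Q.map mk) (Ideal.map_mono hle) hn'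
        (by rw [← Ideal.map_sup, hsup, CAlg1.maximalIdeal_quotient]) (by
          rw [hn', ringKrullDim_eq_of_ringEquiv eP, ringKrullDim_eq_of_ringEquiv eQ]
          have h3 := hdim.trans (add_le_add le_rfl hQdim)
          rw [hn, ← add_assoc, Nat.cast_add, Nat.cast_one] at h3
          cases hc : ringKrullDim (R ⧸ P) + ringKrullDim (R ⧸ (Ideal.span ({x} : Set R) ⊔ Q)) with
          | bot =>
            rw [hc, WithBot.bot_add] at h3
            exact absurd h3 (not_le.2 (WithBot.bot_lt_coe _))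
          | coe a =>
            rw [hc] at h3
            have h3' : (n : ℕ∞) + 1 ≤ a + 1 := by exact_mod_cast h3
            exact_mod_cast (ENat.add_le_add_iff_right ENat.one_ne_top).mp h3')
      exact IsRegularLocalRing.of_ringEquiv
        ((DoubleQuot.quotQuotEquivQuotSup _ P₀).trans (Ideal.quotEquivOfEq (sup_eq_right.2 hI₀)))

theorem regular_of_sup_eq (n : ℕ) (R : Type u) [CommRing R] [IsRegularLocalRing R] (P Q : Ideal R)
    [P.IsPrime] (hn : ringKrullDim R = n) (hsup : P ⊔ Q = maximalIdeal R)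
    (hdim : ringKrullDim R ≤ ringKrullDim (R ⧸ P) + ringKrullDim (R ⧸ Q)) : IsRegularLocalRing (R ⧸ P) :=
  regular_of_sup_eq' n R P P Q le_rfl hn hsup hdim

variable {A : Type u} [CommRing A] {P Q : Ideal A} [IsRegularLocalRing A]

theorem LocalData.regular_of_length_one (D : LocalData A P Q)
    (h1 : Module.length A (A ⧸ (P ⊔ Q)) = 1) : IsRegularLocalRing (A ⧸ P) := by
  haveI := D.primeP
  obtain ⟨a, b, ha, hP, hQ⟩ := D.dim
  rw [Module.length_eq_one_iff, isSimpleModule_iff_isCoatom, ← Ideal.isMaximal_def] at h1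
  exact regular_of_sup_eq (a + b) A P Q ha (IsLocalRing.eq_maximalIdeal h1) (by
    rw [ha, hP, hQ, Nat.cast_add])

theorem isCM_of_regular (R : Type u) [CommRing R] [IsRegularLocalRing R] :
    LocCoh.IsCohenMacaulayLocalRing R := by
  obtain ⟨d, hd⟩ : ∃ d : ℕ, ringKrullDim R = d :=
    ⟨_, (IsRegularLocalRing.spanFinrank_maximalIdeal (R := R)).symm⟩
  refine { supportDim_eq_depth := ?_ }
  rw [Module.supportDim_self_eq_ringKrullDim, CAlg1.depth_regular R hd, hd]
  rfl

theorem LocalData.mult_one (D : LocalData A P Q) (h1 : Module.length A (A ⧸ (P ⊔ Q)) = 1) :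
    IntMult.chi A (A ⧸ Q) (A ⧸ P) = 1 ∧ IsRegularLocalRing (A ⧸ P) ∧ IsRegularLocalRing (A ⧸ Q) := by
  have hP := D.regular_of_length_one h1
  have hQ := D.symm.regular_of_length_one (by rwa [sup_comm])
  refine ⟨?_, hP, hQ⟩
  rw [D.length_of_CM (isCM_of_regular _) (isCM_of_regular _), h1]
  rfl

end Groth.Agent.IntMult12
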