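import Groth.Agent.IntMult12.LocalAlg
import Groth.Agent.IntMult12.MultOne
import Groth.Agent.EGA4Alg4.CMMod
import Mathlib.RingTheory.Regular.RegularSequence

/-!
# Two ideals generated by complementary parts of a system of parameters
-/

set_option autoImplicit false
set_option linter.style.haveILetI false

universe u

open IsLocalRing RingTheory.Sequence

attribute [local instance] HasDerivedCategory.standard

namespace Groth.Agent.IntMult12

variable {B : Type u} [CommRing B] [IsRegularLocalRing B]

theorem supportDim_quot_eq_zero (J : Ideal B) (hJ : J ≤ maximalIdeal B)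
    (h : ∀ v : Ideal B, v.IsPrime → J ≤ v → v = maximalIdeal B) :
    Module.supportDim B (B ⧸ (J • (⊤ : Submodule B B))) = 0 := by
  rw [show (J • (⊤ : Submodule B B)) = J by rw [smul_eq_mul, Ideal.mul_top],
    Module.supportDim_quotient_eq_ringKrullDim]
  haveI : Nontrivial (B ⧸ J) :=
    Ideal.Quotient.nontrivial_iff.2 (ne_top_of_le_ne_top (maximalIdeal.isMaximal B).ne_top hJ)
  haveI : Ring.KrullDimLE 0 (B ⧸ J) := Ring.krullDimLE_zero_iff.2 fun v hv => by
    have hle : J ≤ v.comap (Ideal.Quotient.mk J) := fun z hz => by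
      rw [Ideal.mem_comap, Ideal.Quotient.eq_zero_iff_mem.2 hz]; exact v.zero_mem
    have hmax := h _ (hv.comap _) hle
    rw [← Ideal.map_comap_of_surjective _ Ideal.Quotient.mk_surjective v, hmax]
    exact Ideal.IsMaximal.map_of_surjective_of_ker_le Ideal.Quotient.mk_surjective
      (by rw [Ideal.mk_ker]; exact hJ)
  exact le_antisymm (Ring.krullDimLE_iff.1 this) ringKrullDim_nonneg_of_nontrivial

theorem isWeaklyRegular_of_finite (l : List B) (hl : ∀ z ∈ l, z ∈ maximalIdeal B)
    (hfin : ∀ v : Ideal B, v.IsPrime → Ideal.ofList l ≤ v → v = maximalIdeal B)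
    (hdim : ringKrullDim B = l.length) : IsWeaklyRegular B l := by
  refine EGA4Alg4.isWeaklyRegular_of_supportDim (A := B) (isCM_of_regular B).supportDim_eq_depth hl ?_
  rw [supportDim_quot_eq_zero (Ideal.ofList l) (Ideal.span_le.2 hl) hfin, Module.supportDim_self_eq_ringKrullDim, hdim,
    zero_add]

/-- `χ` of two quotients by complementary parts of a system of parameters is a length. -/
theorem chi_complementary (l l' : List B) (hl : ∀ z ∈ l, z ∈ maximalIdeal B)
    (hl' : ∀ z ∈ l', z ∈ maximalIdeal B)
    (hfin : ∀ v : Ideal B, v.IsPrime → Ideal.ofList l ⊔ Ideal.ofList l' ≤ v → v = maximalIdeal B)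
    (hdim : ringKrullDim B = (l.length + l'.length : ℕ)) :
    IntMult.chi B (B ⧸ Ideal.ofList l) (B ⧸ Ideal.ofList l') =
      ((Module.length B (B ⧸ (Ideal.ofList l ⊔ Ideal.ofList l'))).toNat : ℤ) := by
  have h1 : IsWeaklyRegular B (l' ++ l) := isWeaklyRegular_of_finite _
    (fun z hz => (List.mem_append.1 hz).elim (hl' z) (hl z))
    (fun v hv h => hfin v hv (by rw [Ideal.ofList_append] at h; rwa [sup_comm]))
    (by rw [hdim, List.length_append, add_comm])
  have h2 : IsWeaklyRegular B (l ++ l') := isWeaklyRegular_of_finite _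
    (fun z hz => (List.mem_append.1 hz).elim (hl z) (hl' z))
    (fun v hv h => hfin v hv (by rwa [Ideal.ofList_append] at h))
    (by rw [hdim, List.length_append])
  have hlreg : IsWeaklyRegular B l := ((isWeaklyRegular_append_iff B l l').1 h2).1
  have hq : IsWeaklyRegular (B ⧸ Ideal.ofList l') l :=
    (LinearEquiv.isWeaklyRegular_congr (Submodule.quotEquivOfEq _ _
      (by rw [smul_eq_mul, Ideal.mul_top])) l).1 ((isWeaklyRegular_append_iff B l' l).1 h1).2
  rw [chi_eq l (Koszul19.kR_of_isWeaklyRegular _ hlreg), chi_eq_length_of_regular l _ hq,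
    (quotQuot (Ideal.ofList l) (Ideal.ofList l')).length_eq, sup_comm]

end Groth.Agent.IntMult12
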