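import Groth.Agent.IntMult12.PullProd
import Groth.Agent.IntMult12.ProdLocal
import Groth.Agent.Cyc90.FieldSetup
import Groth.Agent.Cyc90.AffBundlePoly
import Groth.Agent.FibDim94.BaseChange
import Groth.Agent.S1582

/-!
# The exterior product as an intersection product
-/

set_option autoImplicit false
set_option linter.style.haveILetI false
set_option linter.unusedSectionVars false

universe u

open CategoryTheory CategoryTheory.Limits AlgebraicGeometry IsLocalRing TensorProduct

attribute [local instance] HasDerivedCategory.standard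

namespace Groth.Agent.IntMult12

open CAlgH2 (trdegQuot)

variable {K : Type u} [Field K]

/-- The dimension of a local ring of a smooth variety. -/
theorem exists_dim_stalk {X : Scheme.{u}} (f : X ⟶ Spec (CommRingCat.of K)) [LocallyOfFiniteType f]
    [IsIntegral X] (δ : X → ℤ) (hδ : Cyc.DeltaCompat f δ (fun _ => 0)) (x : X) :
    ∃ d : ℕ, ringKrullDim (X.presheaf.stalk x) = d ∧ δ (genericPoint X) = δ x + d := by
  obtain ⟨U, hU⟩ := Div89.exists_affine_mem x
  letI : Algebra K Γ(X, U.1) := (WC97.kSec f U.2).toAlgebra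
  haveI : Algebra.FiniteType K Γ(X, U.1) := WC97.kSec_finiteType f U.2
  haveI : Nonempty U.1 := ⟨⟨x, hU⟩⟩
  have htr : ∀ (y : X) (hy : y ∈ U.1), δ y = (trdegQuot K (Div89.primeAt U y hy) : ℤ) := fun y hy => by
    rw [WC97.delta_eq_pdim f δ hδ, WC97.pdim_eq f, tdegN_eq_trdegQuot f U hy]
  let w := Div89.primeAt U x hU
  letI := Div89.stalkAlg U.1 x hU
  haveI : IsLocalization.AtPrime (X.presheaf.stalk x) w := Div89.isLocalization_stalk U x hU
  obtain ⟨d, hd, hd'⟩ := ringKrullDim_quot_localization (k := K) (R := X.presheaf.stalk x) w ⊥ bot_le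
  rw [Ideal.map_bot, ringKrullDim_eq_of_ringEquiv (RingEquiv.quotientBot (X.presheaf.stalk x))] at hd
  have hg := (genericPoint_specializes x).mem_open U.1.isOpen hU
  have e1 : δ x = (trdegQuot K w : ℤ) := htr x hU
  refine ⟨d, hd, ?_⟩
  rw [htr _ hg, primeAt_genericPoint U hg, e1]
  omega

theorem hasRelDim_of_isIntegral {Y : Scheme.{u}} (g : Y ⟶ Spec (CommRingCat.of K)) [LocallyOfFiniteType g]
    [IsIntegral Y] (δ : Y → ℤ) (hδ : Cyc.DeltaCompat g δ (fun _ => 0)) (m : ℕ)
    (hm : δ (genericPoint Y) = m) : Cyc.HasRelDim g m := fun y T hT => by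
  obtain ⟨z, -, hmax, hdim⟩ := E4O.exists_of_mem_irreducibleComponents_fiber g hT
  haveI : Subsingleton ↥(Spec (CommRingCat.of K)) := inferInstanceAs (Subsingleton (PrimeSpectrum K))
  have hz : g.fiberι y z = genericPoint Y :=
    (hmax _ (genericPoint_specializes _) (Subsingleton.elim _ _)).symm
  have h := Cyc90.delta_eq_add_fdeg g hδ (g.fiberι y z)
  rw [hz, hm, zero_add] at h
  rw [hdim, hz]
  congr 1
  exact_mod_cast h.symm

variable [IsAlgClosed K] (X Y : Scheme.{u}) (f : X ⟶ Spec (CommRingCat.of K))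
  (g : Y ⟶ Spec (CommRingCat.of K)) [Smooth f] [IsSeparated f] [QuasiCompact f] [IsIntegral X] [Smooth g]
  [IsSeparated g] [QuasiCompact g] [IsIntegral Y] (δX : X → ℤ) (δY : Y → ℤ) (δ : ↥(pullback f g) → ℤ)
  (hX : Cyc.DeltaCompat f δX (fun _ => 0)) (hY : Cyc.DeltaCompat g δY (fun _ => 0))
  (hXY : Cyc.DeltaCompat (pullback.fst f g ≫ f) δ (fun _ => 0))

include hX hXY in
theorem deltaCompat_fst : Cyc.DeltaCompat (pullback.fst f g) δ δX :=
  Cyc90.deltaCompat_of_comp _ f hXY hX

include hY hXY in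
theorem deltaCompat_snd : Cyc.DeltaCompat (pullback.snd f g) δ δY :=
  Cyc90.deltaCompat_of_comp _ g (by rw [← pullback.condition]; exact hXY) hY

include hX hY hXY in
theorem delta_le_add (z : ↥(pullback f g)) :
    δ z ≤ δX (pullback.fst f g z) + δY (pullback.snd f g z) := by
  haveI : LocallyOfFiniteType (pullback.fst f g) := inferInstance
  have h1 := Cyc90.delta_eq_add_fdeg (pullback.fst f g) (deltaCompat_fst X Y f g δX δ hX hXY) z
  have h2 := Cyc90.delta_eq_add_fdeg g hY (pullback.snd f g z)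
  have h3 := E4O.fdeg_le_of_isPullback (IsPullback.of_hasPullback f g).flip z
  omega

include hX hY hXY in
theorem interProd_point (n m : ℕ) (hn : δX (genericPoint X) = n) (hm : δY (genericPoint Y) = m)
    [IsIntegral (pullback f g)] (hng : δ (genericPoint ↥(pullback f g)) = (n : ℤ) + m)
    (hrf : Cyc.HasRelDim (pullback.fst f g) m) (hrs : Cyc.HasRelDim (pullback.snd f g) n)
    (z : ↥(pullback f g)) (hz : δ z = δX (pullback.fst f g z) + δY (pullback.snd f g z)) :
    IntMult.interProd δ ((n : ℤ) + m)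
      (Cyc.pullFun (pullback.fst f g) δ δX m (Set.indicator ({pullback.fst f g z} : Set X) 1))
      (Cyc.pullFun (pullback.snd f g) δ δY n (Set.indicator ({pullback.snd f g z} : Set Y) 1)) z =
      ((Module.length ((pullback f g).presheaf.stalk z)
        (↑((pullback f g).presheaf.stalk z) ⧸
          ((maximalIdeal (X.presheaf.stalk (pullback.fst f g z))).map ((pullback.fst f g).stalkMap z).hom ⊔
            (maximalIdeal (Y.presheaf.stalk (pullback.snd f g z))).map
              ((pullback.snd f g).stalkMap z).hom))).toNat : ℤ) := by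
  classical
  haveI : IsLocallyNoetherian X := (Cyc90.isSetup_of_field f δX hX).1
  haveI : IsLocallyNoetherian Y := (Cyc90.isSetup_of_field g δY hY).1
  have hXs := Cyc90.isSetup_of_field f δX hX
  have hYs := Cyc90.isSetup_of_field g δY hY
  have hPs := Cyc90.isSetup_of_field (pullback.fst f g ≫ f) δ hXY
  set x := pullback.fst f g z with hx
  set y := pullback.snd f g z with hy
  have hc1 := Cyc90.shiftAt_of_hasRelDim (pullback.fst f g) hrf (deltaCompat_fst X Y f g δX δ hX hXY)
  have hc2 := Cyc90.shiftAt_of_hasRelDim (pullback.snd f g) hrs (deltaCompat_snd X Y f g δY δ hY hXY)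
  have hcl : ∀ (W : Scheme.{u}) [IsLocallyNoetherian W] (δW : W → ℤ), Cyc.IsDimFun W δW → ∀ a w : W,
      Nontrivial ((clSheaf a).presheaf.stalk w) → δW w ≤ δW a := fun W _ δW hW a w h => by
    by_cases he : a = w
    · rw [he]
    · exact (hW a w (specializes_of_clSheaf h) he).1.le
  haveI : (clSheaf x).IsQuasicoherent := (isCoh_clSheaf x).1
  haveI : (clSheaf y).IsQuasicoherent := (isCoh_clSheaf y).1
  obtain ⟨hF, hF'⟩ := Cyc90.pullFun_sheafFun (pullback.fst f g) (clSheaf x) hPs.2.2 hc1 (δX x)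
    (hcl X δX hXs.2.2 x)
  obtain ⟨hG, hG'⟩ := Cyc90.pullFun_sheafFun (pullback.snd f g) (clSheaf y) hPs.2.2 hc2 (δY y)
    (hcl Y δY hYs.2.2 y)
  rw [sheafFun_clSheaf δX hXs.2.2 x] at hF'
  rw [sheafFun_clSheaf δY hYs.2.2 y] at hG'
  rw [hF', hG']
  obtain ⟨-, hv⟩ := interProd_sheafFun (pullback f g) (pullback.fst f g ≫ f) δ hPs hXY ((n : ℤ) + m) hng
    _ _ (ConsProp93.isCoh_pullback (pullback.fst f g) (isCoh_clSheaf x))
    (ConsProp93.isCoh_pullback (pullback.snd f g) (isCoh_clSheaf y)) (δX x + m) (δY y + n) hF hG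
    (fun w hwF hwG => by
      have h1 := hcl X δX hXs.2.2 x _ (Cyc90.nontrivial_stalk_of_pullback (pullback.fst f g) (clSheaf x) w hwF)
      have h2 := hcl Y δY hYs.2.2 y _ (Cyc90.nontrivial_stalk_of_pullback (pullback.snd f g) (clSheaf y) w hwG)
      have h3 := delta_le_add X Y f g δX δY δ hX hY hXY w
      omega)
  rw [hv, if_pos (by omega)]
  -- the stalks
  letI algX : Algebra (X.presheaf.stalk x) ((pullback f g).presheaf.stalk z) :=
    ((pullback.fst f g).stalkMap z).hom.toAlgebra
  letI algY : Algebra (Y.presheaf.stalk y) ((pullback f g).presheaf.stalk z) :=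
    ((pullback.snd f g).stalkMap z).hom.toAlgebra
  let a := (maximalIdeal (X.presheaf.stalk x)).map ((pullback.fst f g).stalkMap z).hom
  let c := (maximalIdeal (Y.presheaf.stalk y)).map ((pullback.snd f g).stalkMap z).hom
  have hsimple : ∀ (W : Scheme.{u}) [IsLocallyNoetherian W] (δW : W → ℤ), Cyc.IsDimFun W δW → ∀ w : W,
      Nonempty ((clSheaf w).presheaf.stalk w ≃ₗ[W.presheaf.stalk w]
        W.presheaf.stalk w ⧸ maximalIdeal (W.presheaf.stalk w)) := fun W _ δW hW w => by
    have h := congrFun (sheafFun_clSheaf δW hW w) w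
    rw [Set.indicator_of_mem (Set.mem_singleton _), Cyc.sheafFun, if_pos rfl] at h
    have h' : Module.length (W.presheaf.stalk w) ((clSheaf w).presheaf.stalk w) = 1 := by
      cases hc : Module.length (W.presheaf.stalk w) ((clSheaf w).presheaf.stalk w) with
      | top => rw [hc] at h; simp at h
      | coe k => rw [hc] at h; simp only [ENat.toNat_natCast, Pi.one_apply] at h; exact_mod_cast h
    obtain ⟨I, hI, ⟨e⟩⟩ := isSimpleModule_iff_quot_maximal.1 (Module.length_eq_one_iff.1 h')
    rw [IsLocalRing.eq_maximalIdeal hI] at e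
    exact ⟨e⟩
  obtain ⟨EF⟩ := FlatMor68.PullbackStalk.nonempty_stalkPullbackEquiv (pullback.fst f g) (clSheaf x) z
  obtain ⟨EG⟩ := FlatMor68.PullbackStalk.nonempty_stalkPullbackEquiv (pullback.snd f g) (clSheaf y) z
  obtain ⟨e1⟩ := hsimple X δX hXs.2.2 x
  obtain ⟨e2⟩ := hsimple Y δY hYs.2.2 y
  let EF' := (EF.trans (TensorProduct.AlgebraTensorModule.congr (LinearEquiv.refl _ _) e1)).trans
    (Algebra.TensorProduct.quotIdealMapEquivTensorQuot ((pullback f g).presheaf.stalk z)
      (maximalIdeal (X.presheaf.stalk x))).symm.toLinearEquiv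
  let EG' := (EG.trans (TensorProduct.AlgebraTensorModule.congr (LinearEquiv.refl _ _) e2)).trans
    (Algebra.TensorProduct.quotIdealMapEquivTensorQuot ((pullback f g).presheaf.stalk z)
      (maximalIdeal (Y.presheaf.stalk y))).symm.toLinearEquiv
  rw [chi_congr_left _ EF', chi_congr_right _ EG']
  show IntMult.chi _ (_ ⧸ a) (_ ⧸ c) = ((Module.length _ (_ ⧸ (a ⊔ c))).toNat : ℤ)
  -- parameters
  haveI : IsRegularLocalRing ((pullback f g).presheaf.stalk z) :=
    VarGal.isRegularLocalRing_stalk_of_smooth (pullback.fst f g ≫ f) z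
  haveI : IsRegularLocalRing (X.presheaf.stalk x) := VarGal.isRegularLocalRing_stalk_of_smooth f x
  haveI : IsRegularLocalRing (Y.presheaf.stalk y) := VarGal.isRegularLocalRing_stalk_of_smooth g y
  have hpar : ∀ (A : Type u) [CommRing A] [IsRegularLocalRing A] (φ : A →+* (pullback f g).presheaf.stalk z)
      [IsLocalHom φ], ∃ l : List ((pullback f g).presheaf.stalk z),
        (∀ t ∈ l, t ∈ maximalIdeal ((pullback f g).presheaf.stalk z)) ∧
        Ideal.ofList l = (maximalIdeal A).map φ ∧ ringKrullDim A = l.length := by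
    intro A _ _ φ _
    obtain ⟨s, hcard, hs⟩ :=
      Submodule.FG.exists_span_finset_card_eq_spanFinrank (maximalIdeal A).fg_of_isNoetherianRing
    refine ⟨s.toList.map φ, fun t ht => ?_, ?_, ?_⟩
    · obtain ⟨t, ht', rfl⟩ := List.mem_map.1 ht
      refine (IsLocalRing.mem_maximalIdeal _).2 fun h => ?_
      have htm : t ∈ maximalIdeal A := hs ▸ Submodule.subset_span (Finset.mem_coe.2 (Finset.mem_toList.1 ht'))
      exact (IsLocalRing.mem_maximalIdeal _).1 htm (IsLocalHom.map_nonunit t h)
    · rw [← Ideal.map_ofList]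
      congr 1
      rw [← hs]
      exact congrArg Ideal.span (Set.ext fun t => Finset.mem_toList)
    · rw [List.length_map, Finset.length_toList, hcard, IsRegularLocalRing.spanFinrank_maximalIdeal]
  haveI : IsLocalHom ((pullback.fst f g).stalkMap z).hom := (pullback.fst f g).toLRSHom.prop z
  haveI : IsLocalHom ((pullback.snd f g).stalkMap z).hom := (pullback.snd f g).toLRSHom.prop z
  obtain ⟨l, hlm, hl, hld⟩ := hpar (X.presheaf.stalk x) ((pullback.fst f g).stalkMap z).hom
  obtain ⟨l', hlm', hl', hld'⟩ := hpar (Y.presheaf.stalk y) ((pullback.snd f g).stalkMap z).hom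
  show IntMult.chi _ (_ ⧸ (maximalIdeal (X.presheaf.stalk x)).map ((pullback.fst f g).stalkMap z).hom)
      (_ ⧸ (maximalIdeal (Y.presheaf.stalk y)).map ((pullback.snd f g).stalkMap z).hom) = _
  refine (((chi_congr_left _ (Submodule.quotEquivOfEq _ _ hl.symm)).trans
    (chi_congr_right _ (Submodule.quotEquivOfEq _ _ hl'.symm))).trans
      (chi_complementary l l' hlm hlm' (fun v hv hle => ?_) ?_)).trans
    (congrArg (fun t : ℕ∞ => (t.toNat : ℤ)) (Submodule.quotEquivOfEq _ _ (by rw [hl, hl'])).length_eq)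
  · rw [hl, hl', sup_le_iff] at hle
    let vP : PrimeSpectrum ((pullback f g).presheaf.stalk z) := ⟨v, hv⟩
    have key : ∀ {W : Scheme.{u}} (q : pullback f g ⟶ W),
        (maximalIdeal (W.presheaf.stalk (q z))).map (q.stalkMap z).hom ≤ v →
        q ((pullback f g).fromSpecStalk z vP) = q z := fun {W} q hq => by
      have h1 : vP.comap (q.stalkMap z).hom = closedPoint (W.presheaf.stalk (q z)) :=
        PrimeSpectrum.ext (((maximalIdeal.isMaximal _).eq_of_le
          (Ideal.comap_ne_top _ hv.ne_top) (Ideal.map_le_iff_le_comap.1 hq)).symm)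
      refine ((congrArg (fun k : _ ⟶ W => k vP)
        (Scheme.SpecMap_stalkMap_fromSpecStalk q (x := z))).symm).trans ?_
      exact (congrArg (fun p => W.fromSpecStalk (q z) p) h1).trans Scheme.fromSpecStalk_closedPoint
    let w := (pullback f g).fromSpecStalk z vP
    have hwx : pullback.fst f g w = x := key (pullback.fst f g) hle.1
    have hwy : pullback.snd f g w = y := key (pullback.snd f g) hle.2
    have hwz : w = z := by
      by_contra hne
      have h1 := (hPs.2.2 w z (Cyc90.fromSpecStalk_specializes vP) hne).1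
      have h2 := delta_le_add X Y f g δX δY δ hX hY hXY w
      rw [hwx, hwy] at h2
      omega
    have : vP = closedPoint ((pullback f g).presheaf.stalk z) :=
      ((pullback f g).fromSpecStalk z).isEmbedding.injective
        (hwz.trans Scheme.fromSpecStalk_closedPoint.symm)
    exact congrArg PrimeSpectrum.asIdeal this
  · obtain ⟨d, hd, hd'⟩ := exists_dim_stalk (pullback.fst f g ≫ f) δ hXY z
    obtain ⟨dA, hdA, hdA'⟩ := exists_dim_stalk f δX hX x
    obtain ⟨dC, hdC, hdC'⟩ := exists_dim_stalk g δY hY y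
    have e1 : (l.length : ℤ) = dA := by
      have h : (l.length : WithBot ℕ∞) = (dA : WithBot ℕ∞) := hld.symm.trans hdA
      exact_mod_cast h
    have e2 : (l'.length : ℤ) = dC := by
      have h : (l'.length : WithBot ℕ∞) = (dC : WithBot ℕ∞) := hld'.symm.trans hdC
      exact_mod_cast h
    rw [hd]
    congr 1
    omega

include hX hY hXY in
/-- `pr_X^*α · pr_Y^*β = α × β`. -/
theorem interProd_pullback_eq_extProd (n m : ℕ) (hn : δX (genericPoint X) = n) (hm : δY (genericPoint Y) = m)
    (r s : ℤ) (α : AlgebraicCycle X ℤ) (β : AlgebraicCycle Y ℤ) (hα : α ∈ Cyc.Zk X δX r)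
    (hβ : β ∈ Cyc.Zk Y δY s) :
    IntMult.IntersectProperly δ ((n : ℤ) + m) (Cyc.pullFun (pullback.fst f g) δ δX m ⇑α)
        (Cyc.pullFun (pullback.snd f g) δ δY n ⇑β) ∧
      IntMult.interProd δ ((n : ℤ) + m) (Cyc.pullFun (pullback.fst f g) δ δX m ⇑α)
          (Cyc.pullFun (pullback.snd f g) δ δY n ⇑β) = IntMult.extProd f g δX δY δ ⇑α ⇑β := by
  classical
  haveI : IsIntegral (pullback f g) := S1582.result K X Y f g
  haveI : IsLocallyNoetherian X := (Cyc90.isSetup_of_field f δX hX).1
  haveI : IsLocallyNoetherian Y := (Cyc90.isSetup_of_field g δY hY).1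
  have hPs := Cyc90.isSetup_of_field (pullback.fst f g ≫ f) δ hXY
  have hrf : Cyc.HasRelDim (pullback.fst f g) m :=
    FibDim94.hasRelDim_of_isPullback (IsPullback.of_hasPullback f g).flip
      (hasRelDim_of_isIntegral g δY hY m hm)
  have hrs : Cyc.HasRelDim (pullback.snd f g) n :=
    Cyc90.hasRelDim_pullback_snd f g (hasRelDim_of_isIntegral f δX hX n hn)
  have hng : δ (genericPoint ↥(pullback f g)) = (n : ℤ) + m := by
    have h1 := Cyc90.shiftAt_of_hasRelDim (pullback.snd f g) hrs (deltaCompat_snd X Y f g δY δ hY hXY)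
      (genericPoint ↥(pullback f g)) fun w _ hw => (hw.antisymm (genericPoint_specializes w)).eq
    obtain ⟨w, hw, hwy⟩ := Flat.generalizingMap (pullback.snd f g)
      (genericPoint_specializes (pullback.snd f g (genericPoint ↥(pullback f g))))
    rw [(hw.antisymm (genericPoint_specializes w)).eq] at hwy
    rw [hwy, hm] at h1
    omega
  have hne : ∀ {W : Scheme.{u}} (q : pullback f g ⟶ W) (δW : W → ℤ) (e : ℤ) (γ : AlgebraicCycle W ℤ)
      (k : ℤ), γ ∈ Cyc.Zk W δW k → ∀ a, Cyc.pullFun q δ δW e ⇑γ a ≠ 0 →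
      δ a = k + e ∧ δW (q a) = k ∧ γ (q a) ≠ 0 := by
    intro W q δW e γ k hγ a h
    simp only [Cyc.pullFun] at h
    split_ifs at h with h1
    · have h2 : γ (q a) ≠ 0 := fun h0 => h (by rw [h0, zero_mul])
      have h3 : δW (q a) = k := by_contra fun h3 => h2 (hγ _ h3)
      exact ⟨by omega, h3, h2⟩
    · exact absurd rfl h
  have hle : ∀ {W : Scheme.{u}} (δW : W → ℤ), Cyc.IsDimFun W δW → ∀ a b : W, a ⤳ b → δW b ≤ δW a ∧
      (δW b = δW a → a = b) := fun δW hW a b h => by
    by_cases he : a = b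
    · subst he; exact ⟨le_rfl, fun _ => rfl⟩
    · have := (hW a b h he).1
      exact ⟨this.le, fun h' => absurd h' (by omega)⟩
  have hXs := Cyc90.isSetup_of_field f δX hX
  have hYs := Cyc90.isSetup_of_field g δY hY
  refine ⟨fun ξ η ζ hξ hη hξζ hηζ => ?_, funext fun z => ?_⟩
  · obtain ⟨h1, h1', -⟩ := hne _ δX m α r hα ξ hξ
    obtain ⟨h2, h2', -⟩ := hne _ δY n β s hβ η hη
    have h3 := (hle δX hXs.2.2 _ _ (hξζ.map (pullback.fst f g).continuous)).1
    have h4 := (hle δY hYs.2.2 _ _ (hηζ.map (pullback.snd f g).continuous)).1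
    have h5 := delta_le_add X Y f g δX δY δ hX hY hXY ζ
    omega
  have hbound := delta_le_add X Y f g δX δY δ hX hY hXY z
  unfold IntMult.extProd
  by_cases hcase : δ z = r + s ∧ δX (pullback.fst f g z) = r ∧ δY (pullback.snd f g z) = s
  · obtain ⟨hzrs, hxr, hys⟩ := hcase
    have hfin : ∀ {W : Scheme.{u}} [IsLocallyNoetherian W] (q : pullback f g ⟶ W) [Flat q]
        [LocallyOfFiniteType q] (δW : W → ℤ) (e : ℕ), Cyc.IsDimFun W δW → Cyc.DeltaCompat q δ δW →
        Cyc.HasRelDim q e →
        {a | a ⤳ z ∧ Cyc.pullFun q δ δW e (Set.indicator ({q z} : Set W) 1) a ≠ 0}.Finite := by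
      intro W _ q _ _ δW e hW hq hqe
      haveI : (clSheaf (q z)).IsQuasicoherent := (isCoh_clSheaf (q z)).1
      obtain ⟨h1, h2⟩ := Cyc90.pullFun_sheafFun q (clSheaf (q z)) hPs.2.2
        (Cyc90.shiftAt_of_hasRelDim q hqe hq) (δW (q z))
        (fun w hw => (hle δW hW _ _ (specializes_of_clSheaf hw)).1)
      rw [sheafFun_clSheaf δW hW] at h2
      rw [h2]
      haveI := hPs.1
      exact finite_sheafFun δ hPs.2.2 _ _ (ConsProp93.isCoh_pullback q (isCoh_clSheaf _)) h1 z
    have hdec : ∀ {W : Scheme.{u}} (q : pullback f g ⟶ W) (δW : W → ℤ) (e : ℤ) (γ : AlgebraicCycle W ℤ)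
        (k : ℤ), Cyc.IsDimFun W δW → γ ∈ Cyc.Zk W δW k → δW (q z) = k → ∀ a, a ⤳ z →
        Cyc.pullFun q δ δW e ⇑γ a = ∑ _i ∈ ({()} : Finset Unit),
          γ (q z) * Cyc.pullFun q δ δW e (Set.indicator ({q z} : Set W) 1) a := by
      intro W q δW e γ k hW hγ hk a ha
      rw [Finset.sum_singleton]
      simp only [Cyc.pullFun]
      split_ifs
      · by_cases hqa : q a = q z
        · rw [Set.indicator_of_mem (Set.mem_singleton_iff.2 hqa), Pi.one_apply, one_mul, congrArg (⇑γ) hqa]
        · have h0 : γ (q a) = 0 := hγ _ fun h => hqa ((hle δW hW _ _ (ha.map q.continuous)).2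
            (hk.trans h.symm))
          rw [Set.indicator_of_notMem (fun h => hqa (Set.mem_singleton_iff.1 h)), h0]
          simp
      · simp
    rw [interProd_bilinear δ ((n : ℤ) + m) _ _ z {()} {()} (fun _ => α (pullback.fst f g z))
      (fun _ => β (pullback.snd f g z))
      (fun _ => Cyc.pullFun (pullback.fst f g) δ δX m (Set.indicator ({pullback.fst f g z} : Set X) 1))
      (fun _ => Cyc.pullFun (pullback.snd f g) δ δY n (Set.indicator ({pullback.snd f g z} : Set Y) 1))
      (fun _ _ => hfin (pullback.fst f g) δX m hXs.2.2 (deltaCompat_fst X Y f g δX δ hX hXY) hrf)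
      (fun _ _ => hfin (pullback.snd f g) δY n hYs.2.2 (deltaCompat_snd X Y f g δY δ hY hXY) hrs)
      (hdec _ δX m α r hXs.2.2 hα hxr) (hdec _ δY n β s hYs.2.2 hβ hys)]
    rw [Finset.sum_singleton, Finset.sum_singleton, if_pos (by omega),
      interProd_point X Y f g δX δY δ hX hY hXY n m hn hm hng hrf hrs z (by omega)]
  · have hL : IntMult.interProd δ ((n : ℤ) + m) (Cyc.pullFun (pullback.fst f g) δ δX m ⇑α)
        (Cyc.pullFun (pullback.snd f g) δ δY n ⇑β) z = 0 := by
      refine finsum_eq_zero_of_forall_eq_zero fun t => ?_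
      by_cases h1 : Cyc.pullFun (pullback.fst f g) δ δX m ⇑α t.1.1 = 0
      · rw [h1, zero_mul, zero_mul]
      by_cases h2 : Cyc.pullFun (pullback.snd f g) δ δY n ⇑β t.1.2 = 0
      · rw [h2, mul_zero, zero_mul]
      obtain ⟨a1, a2, -⟩ := hne _ δX m α r hα _ h1
      obtain ⟨b1, b2, -⟩ := hne _ δY n β s hβ _ h2
      have := t.2.2.2
      have h3 := (hle δX hXs.2.2 _ _ (t.2.1.map (pullback.fst f g).continuous)).1
      have h4 := (hle δY hYs.2.2 _ _ (t.2.2.1.map (pullback.snd f g).continuous)).1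
      omega
    rw [hL]
    split_ifs with h
    · by_cases ha : α (pullback.fst f g z) = 0
      · rw [ha, zero_mul, zero_mul]
      by_cases hb : β (pullback.snd f g z) = 0
      · rw [hb, mul_zero, zero_mul]
      have h3 : δX (pullback.fst f g z) = r := by_contra fun h3 => ha (hα _ h3)
      have h4 : δY (pullback.snd f g z) = s := by_contra fun h4 => hb (hβ _ h4)
      exact absurd ⟨by omega, h3, h4⟩ hcase
    · rfl

end Groth.Agent.IntMult12
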