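import Groth.Agent.TorBal94.FirstVariable
import Groth.Agent.TorMod7.PD
import Groth.Agent.LA18.TorSymm
import Groth.Agent.S6315
import Groth.Agent.CAlg1.Serre
import Groth.Agent.LC17.KGood
import Groth.Agent.LC17.KLen
import Groth.Prelude.Def_IntMult

/-!
# Additivity of the Tor Euler characteristic over a regular local ring
-/

set_option autoImplicit false
set_option linter.style.haveILetI false

universe u

open CategoryTheory CategoryTheory.Limits MonoidalCategory IsLocalRing

attribute [local instance] HasDerivedCategory.standard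

namespace Groth.Agent.IntMult12

variable {A : Type u} [CommRing A]

theorem homologyMap_smul_id (K : HomologicalComplex (ModuleCat.{u} A) (ComplexShape.down ℕ))
    (a : A) (i : ℕ) : HomologicalComplex.homologyMap (a • 𝟙 K) i = a • 𝟙 (K.homology i) := by
  have h : HomologicalComplex.cyclesMap (a • 𝟙 K) i = a • 𝟙 (K.cycles i) := by
    rw [← cancel_mono (K.iCycles i), HomologicalComplex.cyclesMap_i]
    simp
  rw [← cancel_epi (K.homologyπ i), HomologicalComplex.homologyπ_naturality, h]
  simp

theorem smul_tor_eq_zero {V W : Type u} [AddCommGroup V] [Module A V] [AddCommGroup W] [Module A W]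
    {a : A} (ha : ∀ w : W, a • w = 0) (i : ℕ) (x : DRing.Tor A i V W) : a • x = 0 := by
  let T := (tensoringLeft (ModuleCat.{u} A)).obj (ModuleCat.of A V)
  let P := projectiveResolution (ModuleCat.of A W)
  have hw : (a • 𝟙 P.complex) ≫ P.π =
      P.π ≫ (ChainComplex.single₀ _).map (0 : ModuleCat.of A W ⟶ ModuleCat.of A W) := by
    rw [Functor.map_zero, comp_zero]
    refine HomologicalComplex.to_single_hom_ext ?_
    rw [HomologicalComplex.comp_f, HomologicalComplex.smul_f_apply, HomologicalComplex.id_f,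
      HomologicalComplex.zero_f, Linear.smul_comp, Category.id_comp]
    ext y
    exact ha _
  have h := Functor.leftDerived_map_eq T i (0 : ModuleCat.of A W ⟶ ModuleCat.of A W) _ hw
  have h0 := Functor.leftDerived_map_eq T i (0 : ModuleCat.of A W ⟶ ModuleCat.of A W)
    (P := P) (Q := P) 0 (by rw [zero_comp, Functor.map_zero, comp_zero])
  rw [h0, Functor.map_zero, zero_comp, comp_zero] at h
  have h1 : (T.mapHomologicalComplex (ComplexShape.down ℕ) ⋙
      HomologicalComplex.homologyFunctor _ _ i).map (a • 𝟙 P.complex) = a • 𝟙 _ := by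
    rw [Functor.comp_map, Functor.map_smul, CategoryTheory.Functor.map_id]
    exact homologyMap_smul_id _ a i
  rw [h1, Linear.smul_comp] at h
  erw [Category.id_comp] at h
  rw [Linear.comp_smul, Iso.hom_inv_id] at h
  exact (LinearMap.congr_fun (congrArg ModuleCat.Hom.hom h) x).symm

theorem mem_support_of_smul_eq_zero {W X : Type u} [AddCommGroup W] [Module A W]
    [Module.Finite A W] [AddCommGroup X] [Module A X]
    (h : ∀ a : A, (∀ w : W, a • w = 0) → ∀ x : X, a • x = 0) {p : PrimeSpectrum A}
    (hp : p ∈ Module.support A X) : p ∈ Module.support A W := by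
  rw [Module.mem_support_iff_of_finite]
  intro a ha
  obtain ⟨m, hm⟩ := Module.mem_support_iff_exists_annihilator.1 hp
  exact hm ((Submodule.mem_annihilator_span_singleton _ _).2
    (h a (Module.mem_annihilator.1 ha) m))

/-- `χ` only depends on the isomorphism class of the first module. -/
theorem chi_congr_left {M M' : Type u} [AddCommGroup M] [Module A M] [AddCommGroup M'] [Module A M']
    (N : Type u) [AddCommGroup N] [Module A N] (e : M ≃ₗ[A] M') :
    IntMult.chi A M N = IntMult.chi A M' N :=
  finsum_congr fun i => by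
    rw [show Module.length A (DRing.Tor A i M N) = Module.length A (DRing.Tor A i M' N) from
      (((CategoryTheory.Tor (ModuleCat.{u} A) i).mapIso e.toModuleIso).app
        (ModuleCat.of A N)).toLinearEquiv.length_eq]

theorem chi_congr_right {N N' : Type u} [AddCommGroup N] [Module A N] [AddCommGroup N'] [Module A N']
    (M : Type u) [AddCommGroup M] [Module A M] (e : N ≃ₗ[A] N') :
    IntMult.chi A M N = IntMult.chi A M N' := by
  rw [LA18.chi_comm, chi_congr_left M e, LA18.chi_comm]

/-- the alternating sum along a long exact sequence -/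
theorem alt_sum_eq_zero {a b c D F G : ℕ → ℤ} (N : ℕ) (ha : ∀ i, a i = D i + F i)
    (hb : ∀ i, b i = F i + G i) (hc : ∀ i, c (i + 1) = G (i + 1) + D i) (hc0 : c 0 = G 0)
    (hN : D N = 0) :
    ∑ i ∈ Finset.range (N + 1), (-1 : ℤ) ^ i * b i =
      ∑ i ∈ Finset.range (N + 1), (-1 : ℤ) ^ i * a i + ∑ i ∈ Finset.range (N + 1), (-1 : ℤ) ^ i * c i := by
  have key : ∀ n, ∑ i ∈ Finset.range (n + 1), (-1 : ℤ) ^ i * (b i - a i - c i) = -((-1 : ℤ) ^ n * D n) := by
    intro n
    induction n with
    | zero => simp [ha, hb, hc0]; ring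
    | succ n ih => rw [Finset.sum_range_succ, ih, ha, hb, hc]; ring
  have h := key N
  rw [hN, mul_zero, neg_zero] at h
  simp only [mul_sub, Finset.sum_sub_distrib] at h
  linarith

variable [IsRegularLocalRing A]

theorem mem_support_of_tor (M N : Type u) [AddCommGroup M] [Module A M] [Module.Finite A M]
    [AddCommGroup N] [Module A N] [Module.Finite A N] (i : ℕ) {p : PrimeSpectrum A}
    (hp : p ∈ Module.support A (DRing.Tor A i M N)) :
    p ∈ Module.support A M ∧ p ∈ Module.support A N := by
  refine ⟨?_, mem_support_of_smul_eq_zero (fun a ha x => smul_tor_eq_zero ha i x) hp⟩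
  refine mem_support_of_smul_eq_zero (X := DRing.Tor A i N M)
    (fun a ha x => smul_tor_eq_zero ha i x) ?_
  rwa [← (LA18.tor_symm M N i).some.support_eq]

theorem length_tor_ne_top (M N : Type u) [AddCommGroup M] [Module A M] [Module.Finite A M]
    [AddCommGroup N] [Module A N] [Module.Finite A N]
    (h : ∀ p ∈ Module.support A M, p ∈ Module.support A N → p.asIdeal.IsMaximal) (i : ℕ) :
    Module.length A (DRing.Tor A i M N) ≠ ⊤ := by
  haveI : Module.Finite A (DRing.Tor A i M N) := S6315.result A M N i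
  exact LC17.length_ne_top_of_support fun p hp =>
    h p (mem_support_of_tor M N i hp).1 (mem_support_of_tor M N i hp).2

theorem subsingleton_tor_of_lt {d : ℕ} (hd : ringKrullDim A = d) (M N : Type u) [AddCommGroup M]
    [Module A M] [AddCommGroup N] [Module A N] (i : ℕ) (hi : d < i) :
    Subsingleton (DRing.Tor A i M N) := by
  haveI := CAlg1.hasPD_of_regular A hd (ModuleCat.of A N)
  exact ModuleCat.subsingleton_of_isZero
    (TorMod7.isZero_leftDerived_of_hasProjectiveDimensionLT
      ((tensoringLeft (ModuleCat.{u} A)).obj (ModuleCat.of A M)) _ d i hi)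

theorem chi_eq_sum {d : ℕ} (hd : ringKrullDim A = d) (M N : Type u) [AddCommGroup M] [Module A M]
    [AddCommGroup N] [Module A N] (n : ℕ) (hn : d ≤ n) :
    IntMult.chi A M N = ∑ i ∈ Finset.range (n + 1), (-1 : ℤ) ^ i * LC17.lenZ A (DRing.Tor A i M N) := by
  refine finsum_eq_sum_of_support_subset _ fun i hi => ?_
  rw [Finset.coe_range, Set.mem_Iio]
  by_contra hc
  refine hi ?_
  haveI := subsingleton_tor_of_lt hd M N i (by omega)
  show (-1 : ℤ) ^ i * _ = 0
  simp [Module.length_eq_zero]

/-- `χ` is additive in short exact sequences. -/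
theorem chi_add {M₁ M₂ M₃ : Type u} [AddCommGroup M₁] [Module A M₁] [Module.Finite A M₁]
    [AddCommGroup M₂] [Module A M₂] [Module.Finite A M₂] [AddCommGroup M₃] [Module A M₃]
    [Module.Finite A M₃] (N : Type u) [AddCommGroup N] [Module A N] [Module.Finite A N]
    (f : M₁ →ₗ[A] M₂) (g : M₂ →ₗ[A] M₃) (hf : Function.Injective f) (hfg : Function.Exact f g)
    (hg : Function.Surjective g)
    (h : ∀ p ∈ Module.support A M₂, p ∈ Module.support A N → p.asIdeal.IsMaximal) :
    IntMult.chi A M₂ N = IntMult.chi A M₁ N + IntMult.chi A M₃ N := by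
  obtain ⟨d, hd⟩ : ∃ d : ℕ, ringKrullDim A = d :=
    ⟨_, (IsRegularLocalRing.spanFinrank_maximalIdeal (R := A)).symm⟩
  have hsupp := Module.support_of_exact hfg hf hg
  have h1 : ∀ p ∈ Module.support A M₁, p ∈ Module.support A N → p.asIdeal.IsMaximal := fun p hp =>
    h p (hsupp ▸ Or.inl hp)
  have h3 : ∀ p ∈ Module.support A M₃, p ∈ Module.support A N → p.asIdeal.IsMaximal := fun p hp =>
    h p (hsupp ▸ Or.inr hp)
  let S := ModuleCat.of A N
  let T := ShortComplex.mk (TorBal94.cxMap (ModuleCat.ofHom f) S) (TorBal94.cxMap (ModuleCat.ofHom g) S)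
    (TorBal94.cxMap_comp_eq_zero f g hfg.linearMap_comp_eq_zero S)
  have hT : T.ShortExact := TorBal94.shortExact_cx f g hf hfg hg S
  have eTor : ∀ (M : Type u) [AddCommGroup M] [Module A M] (i : ℕ),
      Nonempty (DRing.Tor A i M N ≃ₗ[A] (TorBal94.cx (ModuleCat.of A M) S).homology i) := fun M _ _ i =>
    ⟨((projectiveResolution S).isoLeftDerivedObj ((tensoringLeft (ModuleCat.{u} A)).obj
      (ModuleCat.of A M)) i).toLinearEquiv⟩
  have hlen : ∀ (M : Type u) [AddCommGroup M] [Module A M] (i : ℕ),
      LC17.lenZ A ((TorBal94.cx (ModuleCat.of A M) S).homology i) = LC17.lenZ A (DRing.Tor A i M N) :=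
    fun M _ _ i => (LC17.lenZ_congr (eTor M i).some).symm
  have hfin : ∀ (M : Type u) [AddCommGroup M] [Module A M] [Module.Finite A M],
      (∀ p ∈ Module.support A M, p ∈ Module.support A N → p.asIdeal.IsMaximal) → ∀ i,
      Module.length A ((TorBal94.cx (ModuleCat.of A M) S).homology i) ≠ ⊤ := fun M _ _ _ hM i => by
    rw [← (eTor M i).some.length_eq]
    exact length_tor_ne_top M N hM i
  let fi := fun i => (HomologicalComplex.homologyMap T.f i).hom
  let gi := fun i => (HomologicalComplex.homologyMap T.g i).hom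
  let di := fun i => (hT.δ (i + 1) i rfl).hom
  have e1 : ∀ i, LinearMap.range (di i) = LinearMap.ker (fi i) := fun i =>
    (ShortComplex.moduleCat_exact_iff_range_eq_ker _).1 (hT.homology_exact₁ (i + 1) i rfl)
  have e2 : ∀ i, LinearMap.range (fi i) = LinearMap.ker (gi i) := fun i =>
    (ShortComplex.moduleCat_exact_iff_range_eq_ker _).1 (hT.homology_exact₂ i)
  have e3 : ∀ i, LinearMap.range (gi (i + 1)) = LinearMap.ker (di i) := fun i =>
    (ShortComplex.moduleCat_exact_iff_range_eq_ker _).1 (hT.homology_exact₃ (i + 1) i rfl)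
  have e0 : Function.Surjective (gi 0) := by
    haveI : Epi (HomologicalComplex.homologyMap T.g 0) := by
      haveI : IsIso (T.X₂.iCycles 0) := T.X₂.isIso_iCycles 0 _ rfl (T.X₂.shape _ _ (by simp))
      haveI : IsIso (T.X₃.iCycles 0) := T.X₃.isIso_iCycles 0 _ rfl (T.X₃.shape _ _ (by simp))
      haveI : Epi (T.g.f 0) := by
        rw [ModuleCat.epi_iff_surjective]
        exact LinearMap.rTensor_surjective _ hg
      have hc : HomologicalComplex.cyclesMap T.g 0 = T.X₂.iCycles 0 ≫ T.g.f 0 ≫ inv (T.X₃.iCycles 0) := by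
        rw [← Category.assoc, IsIso.eq_comp_inv, HomologicalComplex.cyclesMap_i]
      haveI : Epi (HomologicalComplex.cyclesMap T.g 0) := by rw [hc]; infer_instance
      haveI : Epi (T.X₂.homologyπ 0 ≫ HomologicalComplex.homologyMap T.g 0) := by
        rw [HomologicalComplex.homologyπ_naturality]
        infer_instance
      exact epi_of_epi (T.X₂.homologyπ 0) _
    exact (ModuleCat.epi_iff_surjective _).1 this
  -- lengths
  have split : ∀ {B C : Type u} [AddCommGroup B] [Module A B] [AddCommGroup C] [Module A C]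
      (φ : B →ₗ[A] C), Module.length A B ≠ ⊤ →
      LC17.lenZ A B = LC17.lenZ A (LinearMap.ker φ) + LC17.lenZ A (LinearMap.range φ) := by
    intro B C _ _ _ _ φ hB
    exact LC17.lenZ_eq_add (LC17.length_ker_add_range φ) hB
  let D : ℕ → ℤ := fun i => LC17.lenZ A (LinearMap.range (di i))
  let F : ℕ → ℤ := fun i => LC17.lenZ A (LinearMap.range (fi i))
  let G : ℕ → ℤ := fun i => LC17.lenZ A (LinearMap.range (gi i))
  rw [chi_eq_sum hd M₂ N (d + 1) (by omega), chi_eq_sum hd M₁ N (d + 1) (by omega),
    chi_eq_sum hd M₃ N (d + 1) (by omega)]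
  refine alt_sum_eq_zero (D := D) (F := F) (G := G) (d + 1) (fun i => ?_) (fun i => ?_) (fun i => ?_) ?_ ?_
  · rw [← hlen, split (fi i) (hfin M₁ h1 i), ← e1]
  · rw [← hlen, split (gi i) (hfin M₂ h i), ← e2]
  · rw [← hlen, split (di i) (hfin M₃ h3 (i + 1)), ← e3]
  · rw [← hlen]
    exact (LC17.lenZ_congr ((LinearEquiv.ofEq _ _ (LinearMap.range_eq_top.2 e0)).trans
      Submodule.topEquiv)).symm
  · show LC17.lenZ A (LinearMap.range (di (d + 1))) = 0
    haveI : Subsingleton (T.X₁.homology (d + 1)) :=
      haveI := subsingleton_tor_of_lt hd M₁ N (d + 1) (by omega)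
      (eTor M₁ (d + 1)).some.symm.toEquiv.subsingleton
    simp [LC17.lenZ, Module.length_eq_zero]

end Groth.Agent.IntMult12
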