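import Groth.Agent.IntMult12.CxTens
import Groth.Agent.IntMult12.ChiAdd

/-!
# `Tor` over a flat algebra
-/

set_option autoImplicit false
set_option linter.unusedSectionVars false
set_option linter.style.haveILetI false

universe u

open CategoryTheory CategoryTheory.Limits TensorProduct

attribute [local instance] HasDerivedCategory.standard

namespace Groth.Agent.IntMult12

variable {A R : Type u} [CommRing A] [CommRing R] [Algebra A R]

namespace Cx

variable (B : Type u) [AddCommGroup B] [Module R B] [Module A B] [IsScalarTower A R B] [Module.Flat A B]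

/-- homology commutes with a flat tensor factor -/
theorem nonempty_H_tens_flat (C : Cx A) (i : ℕ) :
    Nonempty ((tens (R := R) B C).H i ≃ₗ[R] B ⊗[A] C.H i) := by
  let j : B ⊗[A] C.Z i →ₗ[R] B ⊗[A] C.X i := AlgebraTensorModule.lTensor R B (C.Z i).subtype
  have hjapp : ∀ z, j z = (C.Z i).subtype.lTensor B z := fun z => by
    induction z with
    | zero => simp
    | tmul b m => simp [j]
    | add a b ha hb => rw [map_add, map_add, ha, hb]
  have hjinj : Function.Injective j := fun a b h => by
    rw [hjapp, hjapp] at h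
    exact Module.Flat.lTensor_preserves_injective_linearMap (M := B) (C.Z i).subtype Subtype.val_injective h
  have hjr : ∀ z : (tens (R := R) B C).X i, z ∈ (tens (R := R) B C).Z i ↔ z ∈ LinearMap.range j := by
    cases i with
    | zero =>
      intro z
      refine iff_of_true trivial ?_
      change B ⊗[A] C.X 0 at z
      obtain ⟨w, hw⟩ := LinearMap.lTensor_surjective B (g := (C.Z 0).subtype) (fun x => ⟨⟨x, trivial⟩, rfl⟩) z
      exact ⟨w, (hjapp w).trans hw⟩
    | succ i =>
      intro z
      change B ⊗[A] C.X (i + 1) at z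
      have hex : Function.Exact ((C.Z (i + 1)).subtype.lTensor B) ((C.d i).lTensor B) :=
        Module.Flat.lTensor_exact B (LinearMap.exact_subtype_ker_map _)
      refine (hex z).trans ⟨?_, ?_⟩
      · rintro ⟨w, hw⟩; exact ⟨w, (hjapp w).trans hw⟩
      · rintro ⟨w, hw⟩; exact ⟨w, (hjapp w).symm.trans hw⟩
  let φ : B ⊗[A] C.Z i →ₗ[R] (tens (R := R) B C).Z i :=
    j.codRestrict _ fun z => (hjr _).2 ⟨z, rfl⟩
  have hφ : Function.Surjective φ := fun z => by
    obtain ⟨w, hw⟩ := (hjr z.1).1 z.2
    exact ⟨w, Subtype.ext hw⟩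
  let p : C.Z i →ₗ[A] C.H i := ((LinearMap.range (C.d i)).comap (C.Z i).subtype).mkQ
  let d' : C.X (i + 1) →ₗ[A] C.Z i := (C.d i).codRestrict _ fun x => C.range_le i ⟨x, rfl⟩
  have hp : Function.Surjective p := Submodule.mkQ_surjective _
  have hd' : Function.Exact d' p := fun z => by
    show Submodule.Quotient.mk z = 0 ↔ _
    rw [Submodule.Quotient.mk_eq_zero]
    exact ⟨fun ⟨x, hx⟩ => ⟨x, Subtype.ext hx⟩, fun ⟨x, hx⟩ => ⟨x, congrArg Subtype.val hx⟩⟩
  let P : B ⊗[A] C.Z i →ₗ[R] B ⊗[A] C.H i := AlgebraTensorModule.lTensor R B p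
  have hPapp : ∀ z, P z = p.lTensor B z := fun z => by
    induction z with
    | zero => simp
    | tmul b m => simp [P]
    | add a b ha hb => rw [map_add, map_add, ha, hb]
  have hP : Function.Surjective P := fun z => by
    obtain ⟨w, hw⟩ := LinearMap.lTensor_surjective B hp z
    exact ⟨w, (hPapp w).trans hw⟩
  let Qm : B ⊗[A] C.Z i →ₗ[R] (tens (R := R) B C).H i :=
    ((LinearMap.range ((tens (R := R) B C).d i)).comap ((tens (R := R) B C).Z i).subtype).mkQ ∘ₗ φ
  have hQ : Function.Surjective Qm := (Submodule.mkQ_surjective _).comp hφ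
  have hcomp : ∀ y : B ⊗[A] C.X (i + 1), j (d'.lTensor B y) = (C.d i).lTensor B y := fun y => by
    rw [hjapp, ← LinearMap.lTensor_comp_apply]
    rfl
  have hk : LinearMap.ker Qm = LinearMap.ker P := by
    ext z
    rw [LinearMap.mem_ker, LinearMap.mem_ker, hPapp]
    refine Iff.trans ?_ ((lTensor_exact B hd' hp) z).symm
    show (Submodule.Quotient.mk (φ z) : (tens (R := R) B C).H i) = 0 ↔ _
    rw [Submodule.Quotient.mk_eq_zero]
    constructor
    · rintro ⟨y, hy⟩
      exact ⟨y, hjinj ((hcomp y).trans hy)⟩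
    · rintro ⟨y, hy⟩
      exact ⟨y, (hcomp y).symm.trans (congrArg j hy)⟩
  exact ⟨(Qm.quotKerEquivOfSurjective hQ).symm.trans ((Submodule.quotEquivOfEq _ _ hk).trans
    (P.quotKerEquivOfSurjective hP))⟩

end Cx

section Tor

variable [Module.Flat A R]

/-- base change of a free resolution -/
theorem nonempty_tor_tens (N : Type u) [AddCommGroup N] [Module A N] (F : Cx A)
    (hproj : ∀ i, Module.Projective A (F.X i)) (f : F.X 0 →ₗ[A] N) (hf : Function.Surjective f)
    (h0 : LinearMap.ker f = LinearMap.range (F.d 0))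
    (hs : ∀ i, LinearMap.ker (F.d i) = LinearMap.range (F.d (i + 1)))
    (X : Type u) [AddCommGroup X] [Module R X] [Module A X] [IsScalarTower A R X] (i : ℕ) :
    Nonempty (DRing.Tor R i X (R ⊗[A] N) ≃ₗ[R] (Cx.tens (R := R) X F).H i) := by
  let G : Cx R := Cx.tens (R := R) R F
  have hG : ∀ i, Module.Projective R (G.X i) := fun i => by
    haveI := hproj i
    exact (inferInstance : Module.Projective R (R ⊗[A] F.X i))
  have hmap : ∀ {M₁ M₂ : Type u} [AddCommGroup M₁] [Module A M₁] [AddCommGroup M₂] [Module A M₂]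
      (g : M₁ →ₗ[A] M₂) (z : R ⊗[A] M₁), AlgebraTensorModule.lTensor R R g z = g.lTensor R z := by
    intro M₁ M₂ _ _ _ _ g z
    induction z with
    | zero => simp
    | tmul b m => simp
    | add a b ha hb => rw [map_add, map_add, ha, hb]
  let f' : G.X 0 →ₗ[R] R ⊗[A] N := AlgebraTensorModule.lTensor R R f
  have hf' : Function.Surjective f' := fun z => by
    obtain ⟨w, hw⟩ := LinearMap.lTensor_surjective R hf z
    exact ⟨w, (hmap f w).trans hw⟩
  have h0' : LinearMap.ker f' = LinearMap.range (G.d 0) := by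
    ext z
    change R ⊗[A] F.X 0 at z
    refine (Iff.of_eq (congrArg (· = 0) (hmap f z))).trans ?_
    refine ((lTensor_exact R (LinearMap.exact_iff.2 h0) hf) z).trans (exists_congr fun y => ?_)
    show _ ↔ AlgebraTensorModule.lTensor R R (F.d 0) y = z
    rw [hmap]
  have hs' : ∀ i, LinearMap.ker (G.d i) = LinearMap.range (G.d (i + 1)) := fun i => by
    ext z
    change R ⊗[A] F.X (i + 1) at z
    refine (Iff.of_eq (congrArg (· = 0) (hmap (F.d i) z))).trans ?_
    refine ((Module.Flat.lTensor_exact R (LinearMap.exact_iff.2 (hs i))) z).trans (exists_congr fun y => ?_)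
    show _ ↔ AlgebraTensorModule.lTensor R R (F.d (i + 1)) y = z
    rw [hmap]
  obtain ⟨e⟩ := nonempty_tor_equiv_H X (R ⊗[A] N) G hG f' hf' h0' hs' i
  obtain ⟨e'⟩ := Cx.H_congr (C := Cx.tens (R := R) X G) (D := Cx.tens (R := R) X F)
    (fun j => AlgebraTensorModule.cancelBaseChange A R R X (F.X j)) (fun j z => by
      change X ⊗[R] (R ⊗[A] F.X (j + 1)) at z
      show AlgebraTensorModule.cancelBaseChange A R R X (F.X j)
          (AlgebraTensorModule.lTensor R X (AlgebraTensorModule.lTensor R R (F.d j)) z) =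
        AlgebraTensorModule.lTensor R X (F.d j) (AlgebraTensorModule.cancelBaseChange A R R X (F.X (j + 1)) z)
      induction z with
      | zero => simp
      | tmul x y =>
        induction y with
        | zero => simp
        | tmul r m => simp
        | add a b ha hb => simp only [TensorProduct.tmul_add, map_add, ha, hb]
      | add a b ha hb => simp only [map_add, ha, hb]) i
  exact ⟨e.trans e'⟩

variable [IsRegularLocalRing A]

theorem exists_cx_resolution (N : Type u) [AddCommGroup N] [Module A N] [Module.Finite A N] :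
    ∃ (F : Cx A) (f : F.X 0 →ₗ[A] N), (∀ i, Module.Projective A (F.X i)) ∧ Function.Surjective f ∧
      LinearMap.ker f = LinearMap.range (F.d 0) ∧
      ∀ i, LinearMap.ker (F.d i) = LinearMap.range (F.d (i + 1)) := by
  obtain ⟨dA, hdA⟩ : ∃ d : ℕ, ringKrullDim A = d :=
    ⟨_, (IsRegularLocalRing.spanFinrank_maximalIdeal (R := A)).symm⟩
  obtain ⟨X, d, f, hfree, -, hf, h0, hs⟩ :=
    exists_free_resolution dA N (CAlg1.hasPD_of_regular A hdA _)
  refine ⟨⟨fun i => (X i : Type u), d, fun i x => ?_⟩, f, fun i => ?_, hf, h0, hs⟩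
  · have : d (i + 1) x ∈ LinearMap.ker (d i) := by rw [hs]; exact ⟨x, rfl⟩
    exact this
  · haveI : Module.Free A (X i) := (hfree i).1
    exact Module.Projective.of_free

/-- `Tor^R(B ⊗_A M, R ⊗_A N) = B ⊗_A Tor^A(M, N)` for `B`, `R` flat over `A` -/
theorem nonempty_tor_flat_flat (B : Type u) [AddCommGroup B] [Module R B] [Module A B] [IsScalarTower A R B]
    [Module.Flat A B] (M N : Type u) [AddCommGroup M] [Module A M] [AddCommGroup N] [Module A N]
    [Module.Finite A N] (i : ℕ) :
    Nonempty (DRing.Tor R i (B ⊗[A] M) (R ⊗[A] N) ≃ₗ[R] B ⊗[A] DRing.Tor A i M N) := by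
  obtain ⟨F, f, hproj, hf, h0, hs⟩ := exists_cx_resolution (A := A) N
  obtain ⟨e1⟩ := nonempty_tor_tens (R := R) N F hproj f hf h0 hs (B ⊗[A] M) i
  obtain ⟨e2⟩ := Cx.H_congr (C := Cx.tens (R := R) (B ⊗[A] M) F)
    (D := Cx.tens (R := R) B (Cx.tens (R := A) M F))
    (fun j => AlgebraTensorModule.assoc A A R B M (F.X j)) (fun j z => by
      change (B ⊗[A] M) ⊗[A] F.X (j + 1) at z
      show AlgebraTensorModule.assoc A A R B M (F.X j) (AlgebraTensorModule.lTensor R (B ⊗[A] M) (F.d j) z) =
        AlgebraTensorModule.lTensor R B (AlgebraTensorModule.lTensor A M (F.d j))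
          (AlgebraTensorModule.assoc A A R B M (F.X (j + 1)) z)
      induction z with
      | zero => simp
      | tmul y m =>
        induction y with
        | zero => simp
        | tmul b x => simp
        | add a b ha hb => simp only [TensorProduct.add_tmul, map_add, ha, hb]
      | add a b ha hb => simp only [map_add, ha, hb]) i
  obtain ⟨e3⟩ := Cx.nonempty_H_tens_flat (R := R) B (Cx.tens (R := A) M F) i
  obtain ⟨e4⟩ := nonempty_tor_equiv_H M N F hproj f hf h0 hs i
  exact ⟨e1.trans (e2.trans (e3.trans (AlgebraTensorModule.congr (LinearEquiv.refl R B) e4.symm)))⟩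

/-- `χ^R(X, R ⊗_A N) = χ^A(X, N)` for `X` killed by the kernel of a retraction -/
theorem chi_tor_retract (π : R →ₐ[A] A) (X : Type u) [AddCommGroup X] [Module R X] [Module A X]
    [IsScalarTower A R X] (hX : ∀ r : R, π r = 0 → ∀ x : X, r • x = 0) (N : Type u) [AddCommGroup N]
    [Module A N] [Module.Finite A N] :
    IntMult.chi R X (R ⊗[A] N) = IntMult.chi A X N := by
  obtain ⟨F, f, hproj, hf, h0, hs⟩ := exists_cx_resolution (A := A) N
  refine finsum_congr fun i => ?_
  congr 3
  obtain ⟨e⟩ := nonempty_tor_tens (R := R) N F hproj f hf h0 hs X i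
  haveI : RingHomSurjective π.toRingHom := ⟨fun a => ⟨algebraMap A R a, π.commutes a⟩⟩
  have hkill : ∀ (r : R) (x : X), r • x = π r • x := fun r x => by
    have h := hX (r - algebraMap A R (π r)) (by simp) x
    rwa [sub_smul, sub_eq_zero, IsScalarTower.algebraMap_smul] at h
  let eσ : ∀ j, (Cx.tens (R := R) X F).X j →ₛₗ[π.toRingHom] (Cx.tens (R := A) X F).X j := fun j =>
    { toFun := id
      map_add' := fun _ _ => rfl
      map_smul' := fun r z => by
        change X ⊗[A] F.X j at z
        show r • z = π r • z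
        induction z with
        | zero => simp
        | tmul m y => rw [TensorProduct.smul_tmul', TensorProduct.smul_tmul', hkill]
        | add a b ha hb => rw [smul_add, smul_add, ha, hb] }
  rw [e.length_eq, Cx.length_H_eq eσ (fun _ _ => rfl) (fun _ => Function.bijective_id) i,
    length_tor_eq X N F hproj f hf h0 hs i]

end Tor

end Groth.Agent.IntMult12
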