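import Groth.Agent.IntMult12.ExtProd
import Groth.Agent.IntMult12.TorFlat
import Groth.Agent.Cyc90.FlatRelDim
import Groth.Agent.Cyc90.RatPush
import Groth.Agent.Cyc90.C1Comm
import Groth.Agent.Cyc90.EnvelopeSeq
import Groth.Agent.Cyc90.MayerVietoris
import Groth.Agent.QC70.UnitSub
import Groth.Prelude.Def_ChowOps2

/-!
# Pullback through the graph of a flat morphism
-/

set_option autoImplicit false
set_option linter.style.haveILetI false
set_option linter.unusedSectionVars false

universe u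

open CategoryTheory CategoryTheory.Limits AlgebraicGeometry TensorProduct

attribute [local instance] HasDerivedCategory.standard

namespace Groth.Agent.IntMult12

/-- `χ(B, R ⊗_A M)` for an `R`-module `B` flat over `A` is the length of `B ⊗_A M` -/
theorem chi_flat_left {A R : Type u} [CommRing A] [CommRing R] [Algebra A R] [Module.Flat A R]
    [IsRegularLocalRing A] (B : Type u) [AddCommGroup B] [Module R B] [Module A B] [IsScalarTower A R B]
    [Module.Flat A B] (M : Type u) [AddCommGroup M] [Module A M] [Module.Finite A M] :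
    IntMult.chi R B (R ⊗[A] M) = ((Module.length R (B ⊗[A] M)).toNat : ℤ) := by
  obtain ⟨F, f, hproj, hf, h0, hs⟩ := exists_cx_resolution (A := A) M
  rw [IntMult.chi, finsum_eq_single _ 0 fun i hi => ?_]
  · obtain ⟨e⟩ := nonempty_tor_tens (R := R) M F hproj f hf h0 hs B 0
    obtain ⟨e'⟩ := Cx.nonempty_H_tens_flat (R := R) B F 0
    let π : F.Z 0 →ₗ[A] M := f ∘ₗ (F.Z 0).subtype
    have hπ : Function.Surjective π := fun m => by
      obtain ⟨z, hz⟩ := hf m; exact ⟨⟨z, trivial⟩, hz⟩
    let e0 : F.H 0 ≃ₗ[A] M := (Submodule.quotEquivOfEq _ _ (by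
      ext z
      show z.1 ∈ LinearMap.range (F.d 0) ↔ f z.1 = 0
      rw [← LinearMap.mem_ker, h0])).trans (π.quotKerEquivOfSurjective hπ)
    rw [(e.trans (e'.trans (AlgebraTensorModule.congr (LinearEquiv.refl R B) e0))).length_eq, pow_zero,
      one_mul]
  · obtain ⟨j, rfl⟩ : ∃ j, i = j + 1 := ⟨i - 1, by omega⟩
    obtain ⟨e⟩ := nonempty_tor_tens (R := R) M F hproj f hf h0 hs B (j + 1)
    obtain ⟨e'⟩ := Cx.nonempty_H_tens_flat (R := R) B F (j + 1)
    haveI : Subsingleton (F.H (j + 1)) := by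
      refine Submodule.Quotient.subsingleton_iff.2 (eq_top_iff.2 fun z _ => ?_)
      exact (hs j).le z.2
    haveI : Subsingleton (B ⊗[A] F.H (j + 1)) := by
      refine subsingleton_of_forall_eq 0 fun z => ?_
      induction z using TensorProduct.induction_on with
      | zero => rfl
      | tmul b m => rw [Subsingleton.elim m 0, tmul_zero]
      | add y z hy hz => rw [hy, hz, add_zero]
    rw [(e.trans e').length_eq]
    simp [Module.length_eq_zero]

section Chow

variable {X : Scheme.{u}} {δ : X → ℤ}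

theorem ratEquivZero_zero (k : ℤ) : Cyc.RatEquivZero δ k (0 : AlgebraicCycle X ℤ) :=
  ⟨PEmpty.{u + 1}, fun i => i.elim, fun i => i.elim, fun i => i.elim, fun i => i.elim,
    fun _ => ⟨Set.univ, isOpen_univ, trivial, Set.toFinite _⟩, fun x => by
      rw [finsum_of_isEmpty]; rfl⟩

theorem ratEquiv_of_cl_eq (hX : Cyc.IsSetup X δ) {k : ℤ} {α β : AlgebraicCycle X ℤ} (hα : α ∈ Cyc.Zk X δ k)
    (hβ : β ∈ Cyc.Zk X δ k) (h : ChowOps.cl α hα = ChowOps.cl β hβ) : Cyc.RatEquiv δ k α β := by
  have h1 : (⟨α, hα⟩ : ↥(ChowOps.zk X δ k)) - ⟨β, hβ⟩ ∈ ChowOps.ratTriv X δ k := by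
    have h2 : (QuotientAddGroup.mk' (ChowOps.ratTriv X δ k)) ((⟨α, hα⟩ : ↥(ChowOps.zk X δ k)) - ⟨β, hβ⟩) = 0 := by
      rw [map_sub, sub_eq_zero]; exact h
    exact (QuotientAddGroup.eq_zero_iff _).1 h2
  suffices H : ∀ a ∈ ChowOps.ratTriv X δ k, Cyc.RatEquivZero δ k (a : AlgebraicCycle X ℤ) from H _ h1
  intro a ha
  induction ha using AddSubgroup.closure_induction with
  | mem b hb => exact hb
  | zero => exact ratEquivZero_zero k
  | add b c _ _ hb hc => exact Cyc90.ratEquivZero_add hb hc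
  | neg b _ hb => exact Cyc90.ratEquivZero_neg hX hb

theorem map_sub_cycle {Y : Scheme.{u}} (δY : Y → ℤ) (p : X ⟶ Y) [QuasiCompact p] (α β : AlgebraicCycle X ℤ) :
    AlgebraicCycle.map p δ δY (α - β) =
      AlgebraicCycle.map p δ δY α - AlgebraicCycle.map p δ δY β := by
  refine DFunLike.ext _ _ fun y => ?_
  rw [Cyc90.map_apply_sum p (α - β) y (Finset.univ : Finset Bool) (fun b => if b then 1 else -1)
    (fun b => if b then α else β) fun x _ => by simp [sub_eq_add_neg]]
  simp [sub_eq_add_neg]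

end Chow

variable {K : Type u} [Field K] {X Y : Scheme.{u}} (fX : X ⟶ Spec (CommRingCat.of K))
  (fY : Y ⟶ Spec (CommRingCat.of K)) [Smooth fX] [IsSeparated fX] [IsIntegral X]
  [Smooth fY] [IsSeparated fY] [IsIntegral Y]
  [IsIntegral (pullback fX fY)]
  (δX : X → ℤ) (δY : Y → ℤ) (δW : ↥(pullback fX fY) → ℤ)
  (hδX : Cyc.DeltaCompat fX δX (fun _ => 0)) (hδY : Cyc.DeltaCompat fY δY (fun _ => 0))
  (hδW : Cyc.DeltaCompat (pullback.fst fX fY ≫ fX) δW (fun _ => 0))

include hδX hδY hδW in
/-- `Γ_f · pr_Y^* α = Γ_*(f^*α)` for flat `f`. -/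
theorem interProd_graph (dX dY : ℕ) (hdX : δX (genericPoint X) = dX) (hdY : δY (genericPoint Y) = dY)
    (hdW : δW (genericPoint ↥(pullback fX fY)) = (dX : ℤ) + dY)
    (Γ : X ⟶ pullback fX fY) [IsClosedImmersion Γ] (hΓ : Γ ≫ pullback.fst fX fY = 𝟙 X)
    (g : X ⟶ Y) [Flat g] (hg : Γ ≫ pullback.snd fX fY = g) (k : ℤ) (α : AlgebraicCycle Y ℤ)
    (hα : α ∈ Cyc.Zk Y δY k) :
    IntMult.IntersectProperly δW ((dX : ℤ) + dY) (Set.indicator {Γ (genericPoint X)} 1)
        (Cyc.pullFun (pullback.snd fX fY) δW δY dX ⇑α) ∧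
      (∀ a : X, IntMult.interProd δW ((dX : ℤ) + dY) (Set.indicator {Γ (genericPoint X)} 1)
        (Cyc.pullFun (pullback.snd fX fY) δW δY dX ⇑α) (Γ a) =
          Cyc.pullFun g δX δY ((dX : ℤ) - dY) ⇑α a) ∧
      (∀ z ∉ Set.range Γ, IntMult.interProd δW ((dX : ℤ) + dY) (Set.indicator {Γ (genericPoint X)} 1)
        (Cyc.pullFun (pullback.snd fX fY) δW δY dX ⇑α) z = 0) ∧
      ∀ a : X, δW (Γ a) = δX a ∧ (pullback.fst fX fY).residueDegree (Γ a) = 1 := by
  classical
  subst hg
  have hXs := Cyc90.isSetup_of_field fX δX hδX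
  have hYs := Cyc90.isSetup_of_field fY δY hδY
  have hWs := Cyc90.isSetup_of_field (pullback.fst fX fY ≫ fX) δW hδW
  haveI := hXs.1
  haveI := hYs.1
  haveI := hWs.1
  have hcompX : (Γ ≫ pullback.snd fX fY) ≫ fY = fX := by
    rw [Category.assoc, ← pullback.condition, ← Category.assoc, hΓ, Category.id_comp]
  haveI : LocallyOfFiniteType ((Γ ≫ pullback.snd fX fY) ≫ fY) := hcompX.symm ▸ inferInstance
  haveI : LocallyOfFiniteType (Γ ≫ pullback.snd fX fY) := locallyOfFiniteType_of_comp _ fY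
  have hfΓ : ∀ a, pullback.fst fX fY (Γ a) = a := fun a => by
    rw [← Scheme.Hom.comp_apply, hΓ]; rfl
  have hres : ∀ a : X, Function.Surjective ((pullback.fst fX fY).residueFieldMap (Γ a)).hom := fun a z => by
    haveI : IsPreimmersion (Γ ≫ pullback.fst fX fY) := by rw [hΓ]; infer_instance
    obtain ⟨b, hb⟩ : ∃ b, ((Γ ≫ pullback.fst fX fY).residueFieldMap a).hom b =
        (Γ.residueFieldMap a).hom z := Cyc90.residueFieldMap_surjective (Γ ≫ pullback.fst fX fY) a _
    refine ⟨b, (Γ.residueFieldMap a).hom.injective ?_⟩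
    rw [← hb, Scheme.residueFieldMap_comp]
    rfl
  have hd1 : Cyc.DeltaCompat (pullback.fst fX fY) δW δX := Cyc90.deltaCompat_of_comp _ fX hδW hδX
  have hd2 : Cyc.DeltaCompat (pullback.snd fX fY) δW δY :=
    Cyc90.deltaCompat_of_comp _ fY (by rw [← pullback.condition]; exact hδW) hδY
  have hdg : Cyc.DeltaCompat (Γ ≫ pullback.snd fX fY) δX δY :=
    Cyc90.deltaCompat_of_comp _ fY (hcompX.symm ▸ hδX) hδY
  have hΓδ : ∀ a, δW (Γ a) = δX a := fun a =>
    (Cyc90.delta_eq_of_surjective (pullback.fst fX fY) hd1 _ (hres a)).trans (congrArg δX (hfΓ a))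
  have hc2 := Cyc90.shiftAt_of_hasRelDim (pullback.snd fX fY)
    (Cyc90.hasRelDim_pullback_snd fX fY (hasRelDim_of_isIntegral fX δX hδX dX hdX)) hd2
  have hcg : Cyc90.ShiftAt (Γ ≫ pullback.snd fX fY) δX δY ((dX : ℤ) - dY) := fun x hmax => by
    have h := Cyc90.fdeg_eq_of_flat_of_irreducible (Γ ≫ pullback.snd fX fY) hYs hdg x
      (fun w h1 h2 => hmax w h2 h1)
    rw [hdX, hdY] at h
    rw [Cyc90.delta_eq_add_fdeg (Γ ≫ pullback.snd fX fY) hdg x, h]
  refine ⟨fun ξ η z hξ hη hξz hηz => ?_, fun a => ?_, fun z hz => ?_, fun a =>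
    ⟨hΓδ a, Cyc90.residueDegree_of_surjective _ _ (hres a)⟩⟩
  · obtain rfl : ξ = Γ (genericPoint X) := Set.mem_singleton_iff.1 (Set.mem_of_indicator_ne_zero hξ)
    obtain ⟨a, rfl⟩ := hξz.mem_closed Γ.isClosedEmbedding.isClosed_range ⟨_, rfl⟩
    simp only [Cyc.pullFun] at hη
    split_ifs at hη with h1
    swap
    · exact absurd rfl hη
    have h2 : α (pullback.snd fX fY η) ≠ 0 := fun h0 => hη (by rw [h0, zero_mul])
    have h3 : δY (pullback.snd fX fY η) = k := by_contra fun h3 => h2 (hα _ h3)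
    have h4 := (Cyc90.delta_le_of_shift (Γ ≫ pullback.snd fX fY) hXs.2.2 hcg a).1
    have h5 : δY ((Γ ≫ pullback.snd fX fY) a) ≤ δY (pullback.snd fX fY η) := by
      have hsp : pullback.snd fX fY η ⤳ (Γ ≫ pullback.snd fX fY) a :=
        hηz.map (pullback.snd fX fY).continuous
      by_cases he : pullback.snd fX fY η = (Γ ≫ pullback.snd fX fY) a
      · rw [he]
      · exact (hYs.2.2 _ _ hsp he).1.le
    rw [hΓδ, hΓδ, h1, hdX]
    omega
  · -- the value at a point of the graph
    have hfinα : ∀ y : Y, {z | z ⤳ y ∧ α z ≠ 0}.Finite := fun y => by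
      obtain ⟨t, ht, hfin⟩ := α.supportLocallyFiniteWithinDomain' y trivial
      obtain ⟨o, hot, ho, hyo⟩ := mem_nhds_iff.1 ht
      exact hfin.subset fun z hz => ⟨hot (hz.1.mem_open ho hyo), hz.2⟩
    let b := (Γ ≫ pullback.snd fX fY) a
    let I := (hfinα b).toFinset
    have hI : ∀ y ∈ I, y ⤳ b ∧ α y ≠ 0 ∧ δY y = k := fun y hy => by
      obtain ⟨h1, h2⟩ := (Set.Finite.mem_toFinset _).1 hy
      exact ⟨h1, h2, by_contra fun h3 => h2 (hα y h3)⟩
    have hdec : ∀ y, y ⤳ b → α y = ∑ i ∈ I, α i * Set.indicator ({i} : Set Y) 1 y := fun y hy => by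
      simp only [Set.indicator_apply, Set.mem_singleton_iff, Pi.one_apply, mul_ite, mul_one, mul_zero,
        Finset.sum_ite_eq, I, Set.Finite.mem_toFinset, Set.mem_setOf_eq, hy, true_and]
      by_cases h : α y = 0
      · simp [h]
      · simp [h]
    have hcl : ∀ y z : Y, Nontrivial ((clSheaf y).presheaf.stalk z) → δY z ≤ δY y := fun y z h => by
      by_cases he : y = z
      · rw [he]
      · exact (hYs.2.2 y z (specializes_of_clSheaf h) he).1.le
    have hpull : ∀ y : Y,
        (∀ z : ↥(pullback fX fY),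
          Nontrivial (((Scheme.Modules.pullback (pullback.snd fX fY)).obj (clSheaf y)).presheaf.stalk z) →
          δW z ≤ δY y + dX) ∧
        Cyc.pullFun (pullback.snd fX fY) δW δY dX (Set.indicator ({y} : Set Y) 1) =
          Cyc.sheafFun δW (δY y + dX) ((Scheme.Modules.pullback (pullback.snd fX fY)).obj (clSheaf y)) ∧
        Cyc.pullFun (Γ ≫ pullback.snd fX fY) δX δY ((dX : ℤ) - dY) (Set.indicator ({y} : Set Y) 1) =
          Cyc.sheafFun δX (δY y + ((dX : ℤ) - dY))
            ((Scheme.Modules.pullback (Γ ≫ pullback.snd fX fY)).obj (clSheaf y)) := fun y => by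
      haveI : (clSheaf y).IsQuasicoherent := (isCoh_clSheaf y).1
      obtain ⟨h1, h2⟩ := Cyc90.pullFun_sheafFun (pullback.snd fX fY) (clSheaf y) hWs.2.2 hc2 (δY y) (hcl y)
      obtain ⟨-, h4⟩ := Cyc90.pullFun_sheafFun (Γ ≫ pullback.snd fX fY) (clSheaf y) hXs.2.2 hcg (δY y) (hcl y)
      rw [sheafFun_clSheaf δY hYs.2.2] at h2 h4
      exact ⟨h1, h2, h4⟩
    rw [interProd_bilinear δW _ _ _ (Γ a) ({()} : Finset Unit) I (fun _ => 1) α
      (fun _ => Set.indicator {Γ (genericPoint X)} 1)
      (fun y => Cyc.pullFun (pullback.snd fX fY) δW δY dX (Set.indicator ({y} : Set Y) 1))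
      (fun _ _ => (Set.finite_singleton _).subset fun z hz => Set.mem_of_indicator_ne_zero hz.2)
      (fun y _ => by
        rw [(hpull y).2.1]
        exact finite_sheafFun δW hWs.2.2 _ _ (ConsProp93.isCoh_pullback _ (isCoh_clSheaf y)) (hpull y).1 _)
      (fun z _ => by simp)
      (fun z hz => by
        simp only [Cyc.pullFun]
        split_ifs
        · rw [hdec (pullback.snd fX fY z) (hz.map (pullback.snd fX fY).continuous), Finset.sum_mul]
          exact Finset.sum_congr rfl fun _ _ => mul_assoc _ _ _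
        · simp), Finset.sum_singleton]
    have hrhs : Cyc.pullFun (Γ ≫ pullback.snd fX fY) δX δY ((dX : ℤ) - dY) ⇑α a =
        ∑ y ∈ I, α y * Cyc.pullFun (Γ ≫ pullback.snd fX fY) δX δY ((dX : ℤ) - dY)
          (Set.indicator ({y} : Set Y) 1) a := by
      simp only [Cyc.pullFun]
      split_ifs
      · rw [hdec b (specializes_refl _), Finset.sum_mul]
        exact Finset.sum_congr rfl fun _ _ => mul_assoc _ _ _
      · simp
    rw [hrhs]
    refine Finset.sum_congr rfl fun y hy => ?_
    rw [one_mul]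
    congr 1
    obtain ⟨hyb, -, hyk⟩ := hI y hy
    obtain ⟨hG1, hG2, hG3⟩ := hpull y
    -- the graph as a coherent sheaf
    let F := (Coh.push Γ).obj (Coh.structureModule X)
    haveI : IsLocallyNoetherian X := hXs.1
    have hF : Coh.IsCoh F := Cyc90.isCoh_push_of_isFinite _ _ QC70.isCoh_unit
    have hFsupp : ∀ z, Nontrivial (F.presheaf.stalk z) → ∃ w, Γ w = z := fun z h => by
      haveI : (Coh.structureModule X).IsFiniteType := QC70.isCoh_unit.2
      exact QC70.support_pushforward_subset Γ (Coh.structureModule X) (not_subsingleton_iff_nontrivial.2 h)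
    have hgen : ∀ w : X, δX w = dX → w = genericPoint X := fun w hw => by
      by_contra he
      have := (hXs.2.2 _ _ (genericPoint_specializes w) (Ne.symm he)).1
      omega
    have hFfun : Cyc.sheafFun δW dX F = Set.indicator {Γ (genericPoint X)} 1 := by
      rw [← Cyc90.subschemeFun_eq_sheafFun]
      funext z
      by_cases hz : z = Γ (genericPoint X)
      · subst hz
        rw [Set.indicator_of_mem (Set.mem_singleton _)]
        simp only [Cyc.subschemeFun, if_pos ((hΓδ _).trans hdX)]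
        rw [show {w : X | Γ w = Γ (genericPoint X)} = {genericPoint X} from Set.ext fun w =>
          ⟨fun h => Γ.isClosedEmbedding.injective h, fun h => congrArg Γ h⟩, finsum_mem_singleton,
          show Module.length (X.presheaf.stalk (genericPoint X)) (X.presheaf.stalk (genericPoint X)) = 1 from
            Module.length_eq_one_iff.2 (inferInstanceAs (IsSimpleModule X.functionField X.functionField))]
        simp
      · rw [Set.indicator_of_notMem (fun h => hz (Set.mem_singleton_iff.1 h))]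
        simp only [Cyc.subschemeFun]
        split_ifs with hd
        · refine finsum_mem_eq_zero_of_forall_eq_zero fun w hw => ?_
          obtain rfl : Γ w = z := hw
          exact absurd (congrArg Γ (hgen w ((hΓδ w).symm.trans hd))) hz
        · rfl
    haveI : (clSheaf y).IsQuasicoherent := (isCoh_clSheaf y).1
    obtain ⟨-, hv⟩ := interProd_sheafFun (pullback fX fY) (pullback.fst fX fY ≫ fX) δW hWs hδW
      ((dX : ℤ) + dY) hdW F _ hF (ConsProp93.isCoh_pullback (pullback.snd fX fY) (isCoh_clSheaf y))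
      dX (δY y + dX) (fun z hz => by
        obtain ⟨w, rfl⟩ := hFsupp z hz
        rw [hΓδ, ← hdX]
        by_cases he : genericPoint X = w
        · rw [he]
        · exact (hXs.2.2 _ _ (genericPoint_specializes w) he).1.le) hG1
      (fun z hzF hzG => by
        obtain ⟨w, rfl⟩ := hFsupp z hzF
        have h1 : δY (pullback.snd fX fY (Γ w)) ≤ δY y :=
          hcl y _ (Cyc90.nontrivial_stalk_of_pullback (pullback.snd fX fY) (clSheaf y) _ hzG)
        have h2 : δX w ≤ δY (pullback.snd fX fY (Γ w)) + ((dX : ℤ) - dY) :=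
          (Cyc90.delta_le_of_shift (Γ ≫ pullback.snd fX fY) hXs.2.2 hcg w).1
        rw [hΓδ]
        omega)
    rw [hFfun, ← hG2] at hv
    rw [hv (Γ a), hΓδ, hG3, Cyc.sheafFun]
    by_cases hcase : δX a = δY y + ((dX : ℤ) - dY)
    swap
    · rw [if_neg (by omega), if_neg hcase]
    rw [if_pos (by omega), if_pos hcase]
    -- the local computation
    let A : Type u := Y.presheaf.stalk b
    letI algR : Algebra (Y.presheaf.stalk b) ((pullback fX fY).presheaf.stalk (Γ a)) :=
      ((pullback.snd fX fY).stalkMap (Γ a)).hom.toAlgebra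
    letI algX : Algebra (Y.presheaf.stalk b) (X.presheaf.stalk a) :=
      ((Γ ≫ pullback.snd fX fY).stalkMap a).hom.toAlgebra
    letI algΓ : Algebra ((pullback fX fY).presheaf.stalk (Γ a)) (X.presheaf.stalk a) :=
      (Γ.stalkMap a).hom.toAlgebra
    haveI : IsScalarTower (Y.presheaf.stalk b) ((pullback fX fY).presheaf.stalk (Γ a)) (X.presheaf.stalk a) :=
      IsScalarTower.of_algebraMap_eq fun r => by
        show ((Γ ≫ pullback.snd fX fY).stalkMap a).hom r = _
        rw [Scheme.Hom.stalkMap_comp]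
        rfl
    haveI : Module.Flat (Y.presheaf.stalk b) ((pullback fX fY).presheaf.stalk (Γ a)) :=
      Flat.stalkMap (pullback.snd fX fY) (Γ a)
    haveI : Module.Flat (Y.presheaf.stalk b) (X.presheaf.stalk a) :=
      Flat.stalkMap (Γ ≫ pullback.snd fX fY) a
    haveI : IsRegularLocalRing (Y.presheaf.stalk b) := VarGal.isRegularLocalRing_stalk_of_smooth fY b
    haveI := finite_stalk (clSheaf y) (isCoh_clSheaf y) b
    let e0 : F.presheaf.stalk (Γ a) ≃+ X.presheaf.stalk a :=
      (AddEquiv.ofBijective (QC70.pushStalk Γ (Coh.structureModule X) a)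
        (QC70.bijective_pushStalk Γ (Coh.structureModule X) a)).trans (QC70.unitStalkEquiv a).symm.toAddEquiv
    let EF : F.presheaf.stalk (Γ a) ≃ₗ[(pullback fX fY).presheaf.stalk (Γ a)] X.presheaf.stalk a :=
      { e0 with
        map_smul' := fun r m => by
          show (QC70.unitStalkEquiv a).symm (QC70.pushStalk Γ (Coh.structureModule X) a (r • m)) = _
          rw [QC70.pushStalk_smul, map_smul]
          rfl }
    obtain ⟨EG⟩ := FlatMor68.PullbackStalk.nonempty_stalkPullbackEquiv (pullback.snd fX fY) (clSheaf y) (Γ a)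
    obtain ⟨EH⟩ := FlatMor68.PullbackStalk.nonempty_stalkPullbackEquiv (Γ ≫ pullback.snd fX fY) (clSheaf y) a
    rw [chi_congr_left _ EF, chi_congr_right _ EG, EH.length_eq]
    refine (chi_flat_left (A := Y.presheaf.stalk b) (R := (pullback fX fY).presheaf.stalk (Γ a))
      (X.presheaf.stalk a) ((clSheaf y).presheaf.stalk b)).trans ?_
    refine congrArg (fun t : ℕ∞ => (t.toNat : ℤ)) ?_
    exact (Module.length_eq_of_surjective
      (R := (X.presheaf.stalk a)) (S := (pullback fX fY).presheaf.stalk (Γ a))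
      (M := X.presheaf.stalk a ⊗[Y.presheaf.stalk b] (clSheaf y).presheaf.stalk b)
      (Γ.stalkMap_surjective a))
  · refine finsum_eq_zero_of_forall_eq_zero fun t => ?_
    by_cases h : t.1.1 = Γ (genericPoint X)
    · exact absurd ((h ▸ t.2.1 : Γ (genericPoint X) ⤳ z).mem_closed
        Γ.isClosedEmbedding.isClosed_range ⟨_, rfl⟩) hz
    · rw [Set.indicator_of_notMem (fun h' => h (Set.mem_singleton_iff.1 h')), zero_mul, zero_mul]

end Groth.Agent.IntMult12
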