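import Groth.Agent.Cyc90.PullRat
import Groth.Agent.Cyc90.C1Pull
import Groth.Agent.Cyc90.RatPush
import Groth.Agent.Cyc90.ClosureSub
import Groth.Agent.Cyc90.LimitPts
import Groth.Agent.Cyc90.AffBundlePoly
import Groth.Agent.Cyc90.MayerVietoris
import Groth.Agent.Cyc90.FieldSetup
import Groth.Agent.IntMult12.ExtProd
import Groth.Agent.IntMult12.GraphPull

/-!
# Exterior products and rational equivalence
-/

set_option autoImplicit false
set_option linter.style.haveILetI false
set_option linter.unusedSectionVars false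

universe u

open CategoryTheory CategoryTheory.Limits AlgebraicGeometry IsLocalRing

namespace Groth.Agent.IntMult12

theorem deltaCompat_trans {X W Y : Scheme.{u}} {q : X ⟶ W} {π : W ⟶ Y} {δX : X → ℤ} {δW : W → ℤ}
    {δY : Y → ℤ} (h : Cyc.DeltaCompat q δX δW) (hπ : Cyc.DeltaCompat π δW δY) :
    Cyc.DeltaCompat (q ≫ π) δX δY := by
  intro x
  obtain ⟨n, hn, hd⟩ := h x
  obtain ⟨m, hm, hd'⟩ := hπ (q x)
  letI a1 : Algebra (Y.residueField (π (q x))) (W.residueField (q x)) := (π.residueFieldMap (q x)).hom.toAlgebra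
  letI a2 : Algebra (W.residueField (q x)) (X.residueField x) := (q.residueFieldMap x).hom.toAlgebra
  letI a3 : Algebra (Y.residueField (π (q x))) (X.residueField x) := ((q ≫ π).residueFieldMap x).hom.toAlgebra
  have : IsScalarTower (Y.residueField (π (q x))) (W.residueField (q x)) (X.residueField x) :=
    IsScalarTower.of_algebraMap_eq' (congrArg CommRingCat.Hom.hom (Scheme.residueFieldMap_comp q π x))
  have hadd := trdeg_add_eq (Y.residueField (π (q x))) (W.residueField (q x)) (A := X.residueField x)
  rw [hn, hm] at hadd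
  refine ⟨m + n, hadd.symm.trans (by push_cast; rfl), ?_⟩
  rw [hd, hd']
  change _ = δY (π (q x)) + _
  push_cast
  ring

/-- The maximal ideal of a point dies in the local ring of its closure. -/
theorem maximalIdeal_le_ker_of_generic {Y W : Scheme.{u}} [IsIntegral W] (j : W ⟶ Y) (w : W)
    (hw : w = genericPoint W) : maximalIdeal (Y.presheaf.stalk (j w)) ≤ RingHom.ker (j.stalkMap w).hom := by
  subst hw
  intro a ha
  haveI : IsLocalHom (j.stalkMap (genericPoint W)).hom := j.toLRSHom.prop _
  rw [RingHom.mem_ker]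
  by_contra h
  exact (IsLocalRing.mem_maximalIdeal _).1 ha (IsLocalHom.map_nonunit a
    ((isUnit_iff_ne_zero (G₀ := W.functionField)).2 h))

/-- Fibre lengths over the product of two points, on the product with a closure. -/
theorem length_fibre_sup {X Y W P : Scheme.{u}} [IsIntegral W] (p : P ⟶ X) (q : P ⟶ Y) (j : W ⟶ Y)
    [IsClosedImmersion j] (t : ↑(pullback q j)) (ht : pullback.snd q j t = genericPoint W) :
    Module.length ((pullback q j).presheaf.stalk t) ((pullback q j).presheaf.stalk t ⧸
      (maximalIdeal (X.presheaf.stalk ((pullback.fst q j ≫ p) t))).map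
        ((pullback.fst q j ≫ p).stalkMap t).hom) =
    Module.length (P.presheaf.stalk (pullback.fst q j t)) (P.presheaf.stalk (pullback.fst q j t) ⧸
      ((maximalIdeal (X.presheaf.stalk (p (pullback.fst q j t)))).map
          (p.stalkMap (pullback.fst q j t)).hom ⊔
        (maximalIdeal (Y.presheaf.stalk (q (pullback.fst q j t)))).map
          (q.stalkMap (pullback.fst q j t)).hom)) := by
  let σ := ((pullback.fst q j).stalkMap t).hom
  let A := (maximalIdeal (X.presheaf.stalk (p (pullback.fst q j t)))).map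
    (p.stalkMap (pullback.fst q j t)).hom
  let C := (maximalIdeal (Y.presheaf.stalk (q (pullback.fst q j t)))).map
    (q.stalkMap (pullback.fst q j t)).hom
  have hσ : Function.Surjective σ := (pullback.fst q j).stalkMap_surjective t
  have hC : C.map σ = ⊥ := by
    have hindep : ∀ g g' : pullback q j ⟶ Y, g = g' →
        (maximalIdeal (Y.presheaf.stalk (g t))).map (g.stalkMap t).hom =
          (maximalIdeal (Y.presheaf.stalk (g' t))).map (g'.stalkMap t).hom := fun g g' e => by
      subst e; rfl
    have h := hindep _ _ (pullback.condition (f := q) (g := j))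
    rw [Scheme.Hom.stalkMap_comp, Scheme.Hom.stalkMap_comp] at h
    change (maximalIdeal (Y.presheaf.stalk (q (pullback.fst q j t)))).map
        (((pullback.fst q j).stalkMap t).hom.comp (q.stalkMap (pullback.fst q j t)).hom) =
      (maximalIdeal (Y.presheaf.stalk (j (pullback.snd q j t)))).map
        (((pullback.snd q j).stalkMap t).hom.comp (j.stalkMap (pullback.snd q j t)).hom) at h
    rw [← Ideal.map_map, ← Ideal.map_map,
      (Ideal.map_eq_bot_iff_le_ker (j.stalkMap (pullback.snd q j t)).hom).2
        (maximalIdeal_le_ker_of_generic j _ ht), Ideal.map_bot] at h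
    exact h
  have hmap : (A ⊔ C).map σ = (maximalIdeal (X.presheaf.stalk ((pullback.fst q j ≫ p) t))).map
      ((pullback.fst q j ≫ p).stalkMap t).hom := by
    rw [Ideal.map_sup, hC, sup_bot_eq, Scheme.Hom.stalkMap_comp]
    exact Ideal.map_map _ _
  have hk : RingHom.ker σ ≤ A ⊔ C := (Cyc90.ker_fst_stalkMap_le q j t).trans le_sup_right
  rw [← hmap]
  refine (Cyc90.length_eq_of_semilinear σ hσ
    (AddEquiv.ofBijective (Ideal.quotientMap ((A ⊔ C).map σ) σ Ideal.le_comap_map).toAddMonoidHom
      ⟨?_, Ideal.quotientMap_surjective (H := Ideal.le_comap_map) hσ⟩) fun a m => ?_).symm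
  · refine Ideal.quotientMap_injective' (H := Ideal.le_comap_map) ?_
    rw [Ideal.comap_map_of_surjective _ hσ, ← RingHom.ker_eq_comap_bot, sup_eq_left.2 hk]
  · obtain ⟨m, rfl⟩ := Ideal.Quotient.mk_surjective m
    exact congrArg (Ideal.Quotient.mk ((A ⊔ C).map σ)) (map_mul σ a m)

theorem ratEquivZero_sum {X : Scheme.{u}} {δ : X → ℤ} (hX : Cyc.IsSetup X δ) {k : ℤ} {ι : Type*}
    (I : Finset ι) (c : ι → ℤ) (D : ι → AlgebraicCycle X ℤ)
    (h : ∀ i ∈ I, Cyc.RatEquivZero δ k (D i)) :
    Cyc.RatEquivZero δ k (∑ i ∈ I, c i • D i) := by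
  classical
  have hn : ∀ (n : ℕ) {D : AlgebraicCycle X ℤ}, Cyc.RatEquivZero δ k D → Cyc.RatEquivZero δ k (n • D) := by
    intro n D hD
    induction n with
    | zero => rw [zero_nsmul]; exact ratEquivZero_zero k
    | succ m hm => rw [succ_nsmul]; exact Cyc90.ratEquivZero_add hm hD
  have hz : ∀ (n : ℤ) {D : AlgebraicCycle X ℤ}, Cyc.RatEquivZero δ k D → Cyc.RatEquivZero δ k (n • D) := by
    intro n D hD
    cases n with
    | ofNat m => rw [Int.ofNat_eq_natCast, natCast_zsmul]; exact hn m hD
    | negSucc m => rw [negSucc_zsmul]; exact Cyc90.ratEquivZero_neg hX (hn _ hD)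
  induction I using Finset.induction with
  | empty => rw [Finset.sum_empty]; exact ratEquivZero_zero k
  | @insert a s ha hs =>
    rw [Finset.sum_insert ha]
    exact Cyc90.ratEquivZero_add (hz _ (h a (Finset.mem_insert_self a s)))
      (hs fun i hi => h i (Finset.mem_insert_of_mem hi))

variable {K : Type u} [Field K] {X Y P : Scheme.{u}} (f : X ⟶ Spec (CommRingCat.of K))
  (g : Y ⟶ Spec (CommRingCat.of K)) [LocallyOfFiniteType f] [LocallyOfFiniteType g] [QuasiCompact g]
  (p : P ⟶ X) (q : P ⟶ Y) (δX : X → ℤ) (δY : Y → ℤ) (δ : P → ℤ)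

/-- `α × β ∼ 0` if `α ∼ 0`. -/
theorem ratEquivZero_extProd (sq : IsPullback p q f g) (hX : Cyc.DeltaCompat f δX (fun _ => 0))
    (hY : Cyc.DeltaCompat g δY (fun _ => 0)) (hP : Cyc.DeltaCompat (p ≫ f) δ (fun _ => 0)) (r s : ℤ)
    (α : AlgebraicCycle X ℤ) (β : AlgebraicCycle Y ℤ)
    (hβ : β ∈ Cyc.Zk Y δY s) (h0 : Cyc.RatEquivZero δX r α) (γ : AlgebraicCycle P ℤ)
    (hγ : ∀ z, γ z = if δ z = δX (p z) + δY (q z) then α (p z) * β (q z) *
      ((Module.length (P.presheaf.stalk z) (P.presheaf.stalk z ⧸
        ((maximalIdeal (X.presheaf.stalk (p z))).map (p.stalkMap z).hom ⊔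
          (maximalIdeal (Y.presheaf.stalk (q z))).map (q.stalkMap z).hom))).toNat : ℤ) else 0) :
    Cyc.RatEquivZero δ (r + s) γ := by
  classical
  haveI : LocallyOfFiniteType p := MorphismProperty.of_isPullback sq.flip inferInstance
  haveI : LocallyOfFiniteType q := MorphismProperty.of_isPullback sq inferInstance
  have hPs := Cyc90.isSetup_of_field (p ≫ f) δ hP
  have hXs := Cyc90.isSetup_of_field f δX hX
  have hYs := Cyc90.isSetup_of_field g δY hY
  have hpd : Cyc.DeltaCompat p δ δX := Cyc90.deltaCompat_of_comp _ f hP hX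
  have hle : ∀ z, δ z ≤ δX (p z) + δY (q z) := fun z => by
    have h1 := Cyc90.delta_eq_add_fdeg p hpd z
    have h2 := Cyc90.delta_eq_add_fdeg g hY (q z)
    have h3 := E4O.fdeg_le_of_isPullback sq.flip z
    omega
  haveI : Subsingleton ↥(Spec (CommRingCat.of K)) := inferInstanceAs (Subsingleton (PrimeSpectrum K))
  haveI : CompactSpace Y := QuasiCompact.compactSpace_of_compactSpace g
  have hfin := Cyc90.finite_support_of_compactSpace β
  let I := hfin.toFinset
  let j : (w : Y) → Cyc90.cl w ⟶ Y := fun w => Cyc90.clι w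
  have hgen : ∀ w, j w (genericPoint (Cyc90.cl w)) = w := Cyc90.clι_genericPoint
  have hm : ∀ w ∈ I, δY w = s := fun w hw => by_contra fun h =>
    (Set.Finite.mem_toFinset _).1 hw (hβ w h)
  -- the part of `γ` over a prime cycle of `β`
  have key : ∀ w ∈ I, ∃ D : AlgebraicCycle P ℤ, Cyc.RatEquivZero δ (r + s) D ∧
      ∀ z, D z = if δ z = δX (p z) + δY (q z) ∧ q z = w then α (p z) *
        ((Module.length (P.presheaf.stalk z) (P.presheaf.stalk z ⧸
          ((maximalIdeal (X.presheaf.stalk (p z))).map (p.stalkMap z).hom ⊔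
            (maximalIdeal (Y.presheaf.stalk (q z))).map (q.stalkMap z).hom))).toNat : ℤ) else 0 := by
    intro w hw
    have hW : Cyc.DeltaCompat (j w) (fun a => δY (j w a)) δY := Cyc90.deltaCompat_preimmersion (j w) δY
    have hWK : Cyc.DeltaCompat (j w ≫ g) (fun a => δY (j w a)) (fun _ => 0) := by
      refine deltaCompat_trans hW hY
    have sq' : IsPullback (pullback.fst q (j w) ≫ p) (pullback.snd q (j w)) f (j w ≫ g) :=
      (IsPullback.of_hasPullback q (j w)).paste_horiz sq
    haveI : Flat (j w ≫ g) := inferInstance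
    haveI : Flat (pullback.fst q (j w) ≫ p) := MorphismProperty.of_isPullback sq'.flip inferInstance
    obtain ⟨d, hd⟩ : ∃ d : ℕ, δY w = d := by
      have := Cyc90.delta_eq_add_fdeg g hY w
      exact ⟨E4O.fdeg g w, by omega⟩
    have hrel : Cyc.HasRelDim (pullback.fst q (j w) ≫ p) d :=
      FibDim94.hasRelDim_of_isPullback sq'.flip
        (hasRelDim_of_isIntegral (j w ≫ g) _ hWK d (by rw [hgen]; exact hd))
    let δ' : ↥(pullback q (j w)) → ℤ := fun t => δ (pullback.fst q (j w) t)
    have hd' : Cyc.DeltaCompat (pullback.fst q (j w) ≫ p) δ' δX :=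
      deltaCompat_trans (Cyc90.deltaCompat_preimmersion (pullback.fst q (j w)) δ) hpd
    have hs' := Cyc90.isSetup_of_field ((pullback.fst q (j w) ≫ p) ≫ f) δ' (deltaCompat_trans hd' hX)
    have hc := Cyc90.shiftAt_of_hasRelDim (pullback.fst q (j w) ≫ p) hrel hd'
    let A := Cyc90.pullCycle (pullback.fst q (j w) ≫ p) hs' hc α
    have hA := Cyc90.ratEquivZero_pullFun hs' hXs (pullback.fst q (j w) ≫ p) hc h0 A rfl
    have hds : (d : ℤ) = s := hd.symm.trans (hm w hw)
    rw [hds] at hA
    refine ⟨AlgebraicCycle.map (pullback.fst q (j w)) δ' δ A,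
      Cyc90.ratEquivZero_map hs' hPs (pullback.fst q (j w))
        (Cyc90.deltaCompat_preimmersion (pullback.fst q (j w)) δ) hA, fun z => ?_⟩
    by_cases hz : z ∈ Set.range (pullback.fst q (j w))
    · obtain ⟨t, rfl⟩ := hz
      rw [Cyc90.map_closedImmersion_image (pullback.fst q (j w)) δ A t]
      change Cyc.pullFun (pullback.fst q (j w) ≫ p) δ' δX d ⇑α t = _
      have hqt : q (pullback.fst q (j w) t) = j w (pullback.snd q (j w) t) :=
        congrArg (fun k : pullback q (j w) ⟶ Y => k t) pullback.condition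
      have hspec : w ⤳ q (pullback.fst q (j w) t) := by
        rw [hqt]
        exact (specializes_of_eq (hgen w).symm).trans ((genericPoint_specializes _).map (j w).continuous)
      have hge : δY (q (pullback.fst q (j w) t)) ≤ δY w ∧
          (δY (q (pullback.fst q (j w) t)) = δY w → q (pullback.fst q (j w) t) = w) := by
        by_cases he : w = q (pullback.fst q (j w) t)
        · exact ⟨by rw [← he], fun _ => he.symm⟩
        · have := (hYs.2.2 _ _ hspec he).1
          exact ⟨this.le, fun h => absurd h (by omega)⟩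
      have hle' := hle (pullback.fst q (j w) t)
      unfold Cyc.pullFun
      change (if δ (pullback.fst q (j w) t) = δX (p (pullback.fst q (j w) t)) + (d : ℤ) then
        α (p (pullback.fst q (j w) t)) * _ else 0) = _
      by_cases hcase : δ (pullback.fst q (j w) t) = δX (p (pullback.fst q (j w) t)) + (d : ℤ)
      · have hqw : q (pullback.fst q (j w) t) = w := hge.2 (by omega)
        rw [if_pos hcase, if_pos ⟨by rw [hqw]; omega, hqw⟩]
        have htg : pullback.snd q (j w) t = genericPoint (Cyc90.cl w) :=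
          (j w).isClosedEmbedding.injective (hqt.symm.trans (hqw.trans (hgen w).symm))
        exact congrArg (fun n : ℕ∞ => α (p (pullback.fst q (j w) t)) * (n.toNat : ℤ))
          (length_fibre_sup p q (j w) t htg)
      · rw [if_neg hcase, if_neg fun h => hcase (by rw [h.1, h.2]; omega)]
    · rw [Cyc90.map_closedImmersion_notMem (pullback.fst q (j w)) δ A hz, if_neg fun h => hz ?_]
      rw [Scheme.Pullback.range_fst]
      exact ⟨genericPoint _, (hgen w).trans h.2.symm⟩
  choose! D hD hDv using key
  have heq : γ = ∑ w ∈ I, β w • D w := by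
    refine DFunLike.ext _ _ fun z => ?_
    rw [hγ z]
    have happ : ∀ (T : Finset Y), (∑ w ∈ T, β w • D w : AlgebraicCycle P ℤ) z = ∑ w ∈ T, β w * D w z := by
      intro T
      induction T using Finset.induction with
      | empty => rfl
      | @insert a t ha hT => rw [Finset.sum_insert ha, Finset.sum_insert ha, ← hT]; rfl
    rw [happ, Finset.sum_eq_single (q z)]
    · by_cases hz : q z ∈ I
      · rw [hDv _ hz z]
        split_ifs with h1 h2 h3
        · ring
        · exact absurd ⟨h1, rfl⟩ h2
        · exact absurd h3.1 h1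
        · rw [mul_zero]
      · have : β (q z) = 0 := by_contra fun h => hz ((Set.Finite.mem_toFinset _).2 h)
        rw [this, mul_zero, zero_mul, zero_mul, ite_self]
    · intro w hw hne
      rw [hDv w hw z, if_neg fun h => hne h.2.symm, mul_zero]
    · intro hz
      rw [show β (q z) = 0 from by_contra fun h => hz ((Set.Finite.mem_toFinset _).2 h), zero_mul]
  rw [heq]
  exact ratEquivZero_sum hPs I _ D hD

end Groth.Agent.IntMult12
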