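import Groth.Agent.IntMult12.PushLocal
import Groth.Agent.IntMult12.ExtRat
import Groth.Agent.Cyc90.PushDiv

/-!
# The projection formula for two points
-/

set_option autoImplicit false
set_option linter.style.haveILetI false
set_option linter.unusedSectionVars false

universe u

open CategoryTheory CategoryTheory.Limits AlgebraicGeometry IsLocalRing TensorProduct

attribute [local instance] HasDerivedCategory.standard

namespace Groth.Agent.IntMult12

variable {X Y : Scheme.{u}}

theorem exists_affine_finite {Z : Scheme.{u}} (p : Z ⟶ Y) (y : Y) (W : Y.Opens) (hyW : y ∈ W)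
    [IsFinite (p ∣_ W)] :
    ∃ V : Y.affineOpens, y ∈ V.1 ∧ IsAffineOpen (p ⁻¹ᵁ V.1) ∧ (p.app V.1).hom.Finite := by
  obtain ⟨_, ⟨V, hV, rfl⟩, hyV, hVW⟩ :=
    Y.isBasis_affineOpens.exists_subset_of_mem_open hyW W.2
  have hU : IsAffineOpen (p ⁻¹ᵁ V) ∧ (p.app V).hom.Finite := by
    let V' : (W : Scheme.{u}).Opens := W.ι ⁻¹ᵁ V
    have hV' : IsAffineOpen V' := hV.preimage_of_isOpenImmersion W.ι (by simpa using hVW)
    have e1 : (p ⁻¹ᵁ W).ι ''ᵁ ((p ∣_ W) ⁻¹ᵁ V') = p ⁻¹ᵁ V := by
      rw [image_morphismRestrict_preimage, Scheme.Hom.image_preimage_eq_opensRange_inf,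
        Scheme.Opens.opensRange_ι, inf_eq_right.2 (show V ≤ W from hVW)]
    have hU : IsAffineOpen (p ⁻¹ᵁ V) := e1 ▸ (hV'.preimage (p ∣_ W)).image_of_isOpenImmersion _
    refine ⟨hU, ?_⟩
    have h1 := (inferInstance : IsFinite (p ∣_ W)).finite_app V' hV'
    rw [morphismRestrict_app] at h1
    replace h1 : ((Z.presheaf.map (eqToHom (image_morphismRestrict_preimage p W V')).op).hom.comp
        (p.app (W.ι ''ᵁ V')).hom).Finite := h1
    have e : W.ι ''ᵁ V' = V := by
      rw [Scheme.Hom.image_preimage_eq_opensRange_inf, Scheme.Opens.opensRange_ι,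
        inf_eq_right.2 (show V ≤ W from hVW)]
    rw [← e]
    refine RingHom.finite_respectsIso.cancel_right_isIso _
      (Z.presheaf.map (eqToHom (image_morphismRestrict_preimage p W V')).op) |>.1 ?_
    exact h1
  exact ⟨⟨V, hV⟩, hyV, hU⟩

variable {K : Type u} [Field K] (gX : X ⟶ Spec (CommRingCat.of K))
  (gY : Y ⟶ Spec (CommRingCat.of K)) [Smooth gX] [IsSeparated gX]
  [IsIntegral X] [Smooth gY] [IsSeparated gY] [IsIntegral Y] (f : X ⟶ Y) [Flat f] [IsProper f]
  (δX : X → ℤ) (δY : Y → ℤ) (hX : Cyc.IsSetup X δX) (hY : Cyc.IsSetup Y δY)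
  (hδX : Cyc.DeltaCompat gX δX (fun _ => 0)) (hδY : Cyc.DeltaCompat gY δY (fun _ => 0))
  (hδ : Cyc.DeltaCompat f δX δY) (n m : ℤ) (hn : δX (genericPoint X) = n) (hm : δY (genericPoint Y) = m)
  (e : ℕ) (he : (e : ℤ) = n - m) (hc : Cyc90.ShiftAt f δX δY e)

include hX hY hδX hδY hδ hn hm he hc in
set_option maxHeartbeats 3200000 in
open Classical in
/-- The projection formula for a point upstairs and a point downstairs meeting properly. -/
theorem push_formula_point (r s : ℤ) (ξ : X) (η ζ : Y) (hξ : δX ξ = r) (hη : δY η = s)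
    (hξζ : f ξ ⤳ ζ) (hηζ : η ⤳ ζ) (hζ : δY ζ = r + s - m)
    (hmeet : ∀ x, ξ ⤳ x → η ⤳ f x → δX x ≤ r + s - m) :
    ∃ T : Finset X, (∀ x ∈ T, f x = ζ) ∧
      (∀ x, f x = ζ → x ∉ T →
        IntMult.interProd δX n (Set.indicator {ξ} 1) (Cyc.pullFun f δX δY e (Set.indicator {η} 1)) x = 0) ∧
      (if δX ξ = δY (f ξ) then (f.residueDegree ξ : ℤ) else 0) *
          IntMult.interProd δY m (Set.indicator {f ξ} 1) (Set.indicator {η} 1) ζ =
        ∑ x ∈ T, IntMult.interProd δX n (Set.indicator {ξ} 1) (Cyc.pullFun f δX δY e (Set.indicator {η} 1)) x *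
          (if δX x = δY (f x) then (f.residueDegree x : ℤ) else 0) := by
  haveI := hX.1
  haveI := hY.1
  let g : Cyc90.cl ξ ⟶ Y := Cyc90.clι ξ ≫ f
  have hιz : ∀ z, ξ ⤳ Cyc90.clι ξ z := fun z =>
    specializes_iff_mem_closure.2 ((Cyc90.range_clι ξ).le ⟨z, rfl⟩)
  have hge : ∀ x, δY (f x) ≤ δX x := fun x => by
    obtain ⟨k, -, hk⟩ := hδ x; omega
  have hfibre : ∀ z, g z = ζ → δX (Cyc90.clι ξ z) = δY ζ := fun z hz => by
    have h1 := hge (Cyc90.clι ξ z)
    have h2 : f (Cyc90.clι ξ z) = ζ := hz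
    have h3 := hmeet _ (hιz z) (h2.symm ▸ hηζ)
    rw [h2] at h1
    omega
  have hdg : Cyc.DeltaCompat g (fun z => δX (Cyc90.clι ξ z)) δY :=
    deltaCompat_trans (Cyc90.deltaCompat_preimmersion (Cyc90.clι ξ) δX) hδ
  have hfdeg : ∀ z, g z = ζ → E4O.fdeg g z = 0 := fun z hz => by
    have := Cyc90.delta_eq_add_fdeg g hdg z
    have h2 := hfibre z hz
    simp only at this
    rw [hz] at this
    omega
  obtain ⟨W, hζW, hW⟩ := Cyc90.exists_isFinite_restrict g ζ hfdeg
  haveI := hW
  obtain ⟨V, hζV, hU, hfin⟩ := exists_affine_finite g ζ W hζW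
  haveI hSn : IsNoetherianRing Γ(Y, V.1) := IsLocallyNoetherian.component_noetherian V
  let A : Type u := Y.presheaf.stalk ζ
  let S : Type u := Γ(Y, V.1)
  let M : Type u := Γ(Cyc90.cl ξ, g ⁻¹ᵁ V.1)
  let w := Div89.primeAt V ζ hζV
  letI iSA : Algebra S A := TopCat.Presheaf.algebra_section_stalk Y.presheaf ⟨ζ, hζV⟩
  haveI : IsLocalization.AtPrime A w := V.2.isLocalization_stalk ⟨ζ, hζV⟩
  haveI : IsRegularLocalRing A := VarGal.isRegularLocalRing_stalk_of_smooth gY ζ
  haveI : IsNoetherianRing (Y.presheaf.stalk ζ) := inferInstanceAs (IsNoetherianRing A)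
  letI iSM : Algebra S M := (g.app V.1).hom.toAlgebra
  haveI : Module.Finite S M := hfin
  obtain ⟨hft, B, iB, iAB, φ, hBfin, hφflat, hφA, hdeg0, ⟨eB⟩, hlenB⟩ :=
    exists_fibre_data g ζ V.1 V.2 hζV hU hfin
  haveI := hBfin
  let N : Type u := A ⧸ IntMult.stalkIdeal (IntMult.ptIdeal η) ζ
  let pt : PrimeSpectrum S → Y := fun p => (Div89.exists_point V p.asIdeal).choose
  have hpt : ∀ p, pt p ∈ V.1 := fun p => (Div89.exists_point V p.asIdeal).choose_spec.choose
  have hptp : ∀ p, Div89.primeAt V (pt p) (hpt p) = p.asIdeal := fun p =>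
    (Div89.exists_point V p.asIdeal).choose_spec.choose_spec
  have hgen : g (genericPoint (Cyc90.cl ξ)) = f ξ := congrArg f (Cyc90.clι_genericPoint ξ)
  have hfξV : f ξ ∈ V.1 := hξζ.mem_open V.1.isOpen hζV
  let p0 : PrimeSpectrum S := ⟨Div89.primeAt V (f ξ) hfξV, inferInstance⟩
  have hker : RingHom.ker (algebraMap S M) = p0.asIdeal := by
    have hgV : genericPoint (Cyc90.cl ξ) ∈ g ⁻¹ᵁ V.1 := by
      show g _ ∈ V.1
      rw [hgen]; exact hfξV
    have h1 := Cyc90.primeIdealOf_apply g V.2 hU hgV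
    have h2 : (hU.primeIdealOf ⟨genericPoint (Cyc90.cl ξ), hgV⟩).asIdeal = ⊥ :=
      primeAt_genericPoint ⟨g ⁻¹ᵁ V.1, hU⟩ hgV
    rw [h2] at h1
    have h3 : (⟨f ξ, hfξV⟩ : V.1) = ⟨g (genericPoint (Cyc90.cl ξ)), hgV⟩ := Subtype.ext hgen.symm
    show _ = (V.2.primeIdealOf ⟨f ξ, hfξV⟩).asIdeal
    rw [h3]
    exact h1.symm
  -- the points of `f(ξ̄) ∩ η̄`
  have hsupp : ∀ p ∈ Module.support S M, p0.asIdeal ≤ p.asIdeal := fun p hp a ha => by
    refine Module.mem_support_iff_of_finite.1 hp (Module.mem_annihilator.2 fun b => ?_)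
    rw [Algebra.smul_def, show algebraMap S M a = 0 from RingHom.mem_ker.1 (hker.ge ha), zero_mul]
  have hspec : ∀ p ∈ Module.support S M, f ξ ⤳ pt p := fun p hp =>
    (Div89.specializes_iff_primeAt_le V (hpt p) hfξV).2 ((hsupp p hp).trans (hptp p).ge)
  have hlift : ∀ y, f ξ ⤳ y → ∃ x, ξ ⤳ x ∧ f x = y := fun y h => by
    have h1 : IsClosed (f '' closure {ξ}) := f.isClosedMap _ isClosed_closure
    obtain ⟨x, hx, hxy⟩ := h1.stableUnderSpecialization h ⟨ξ, subset_closure rfl, rfl⟩
    exact ⟨x, specializes_iff_mem_closure.2 hx, hxy⟩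
  have hbound : ∀ y, f ξ ⤳ y → η ⤳ y → δY y ≤ r + s - m := fun y h1 h2 => by
    obtain ⟨x, hx, rfl⟩ := hlift y h1
    exact (hge x).trans (hmeet x hx h2)
  have hstalk : ∀ (v : PrimeSpectrum S), v.asIdeal ≤ w → pt v ⤳ ζ := fun v hv =>
    (Div89.specializes_iff_primeAt_le V hζV (hpt v)).2 ((hptp v).le.trans hv)
  have hideal : ∀ (y : Y) (hy : y ∈ V.1), IntMult.stalkIdeal (IntMult.ptIdeal y) ζ =
      (Div89.primeAt V y hy).map (algebraMap S A) := fun y hy => by
    rw [stalkIdeal_eq, Div89.stalkIdeal_eq _ V ζ hζV, ptIdeal_ideal V y hy]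
    rfl
  have hηV : η ∈ V.1 := hηζ.mem_open V.1.isOpen hζV
  let q := Div89.primeAt V η hηV
  have hIη : IntMult.stalkIdeal (IntMult.ptIdeal η) ζ = q.map (algebraMap S A) := hideal η hηV
  -- `χ` against `η̄`
  have hchiY : ∀ y, f ξ ⤳ y → y ⤳ ζ → δY y ≤ r →
      (δY y < r → IntMult.chi A (A ⧸ IntMult.stalkIdeal (IntMult.ptIdeal y) ζ) N = 0) := by
    intro y hy hyζ _ hlt
    have hcl : ∀ (z v : Y), Nontrivial ((clSheaf z).presheaf.stalk v) → δY v ≤ δY z := fun z v h => by
      by_cases he : z = v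
      · rw [he]
      · exact (hY.2.2 z v (specializes_of_clSheaf h) he).1.le
    obtain ⟨-, hval⟩ := interProd_sheafFun Y gY δY hY hδY m hm (clSheaf y) (clSheaf η) (isCoh_clSheaf y)
      (isCoh_clSheaf η) r s (fun v h => by have := hcl y v h; omega) (fun v h => hη ▸ hcl η v h)
      (fun v h1 h2 => hbound v (hy.trans (specializes_of_clSheaf h1)) (specializes_of_clSheaf h2))
    have h0 : Cyc.sheafFun δY r (clSheaf y) = fun _ => 0 := funext fun v => by
      simp only [Cyc.sheafFun]
      split_ifs with hv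
      · have : Subsingleton ((clSheaf y).presheaf.stalk v) := not_nontrivial_iff_subsingleton.1 fun h => by
          have := hcl y v h; omega
        simp [Module.length_eq_zero (M := (clSheaf y).presheaf.stalk v)]
      · rfl
    have h := hval ζ
    rw [if_pos hζ, h0] at h
    obtain ⟨E1⟩ := nonempty_stalk_clSheaf y ζ hyζ
    obtain ⟨E2⟩ := nonempty_stalk_clSheaf η ζ hηζ
    rw [chi_congr_left _ E1, chi_congr_right _ E2] at h
    refine h.symm.trans (finsum_eq_zero_of_forall_eq_zero fun p => ?_)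
    rw [zero_mul, zero_mul]
  -- dévissage
  haveI hNfin : Module.Finite A N := inferInstance
  have hcomap : ∀ v : PrimeSpectrum A, (PrimeSpectrum.comap (algebraMap S A) v).asIdeal ≤ w := fun v => by
    rw [← IsLocalization.AtPrime.under_maximalIdeal A w]
    exact Ideal.comap_mono (le_maximalIdeal v.2.ne_top)
  have hgood : ∀ v : PrimeSpectrum A, PrimeSpectrum.comap (algebraMap S A) v ∈ Module.support S M →
      v ∈ Module.support A N → v.asIdeal.IsMaximal := fun v hv hvN => by
    let p := PrimeSpectrum.comap (algebraMap S A) v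
    rw [Module.mem_support_iff_of_finite, Ideal.annihilator_quotient, hIη, Ideal.map_le_iff_le_comap] at hvN
    have h1 : η ⤳ pt p := (Div89.specializes_iff_primeAt_le V (hpt p) hηV).2 (hvN.trans (hptp p).ge)
    have h2 := hbound _ (hspec p hv) h1
    have h3 : pt p = ζ := by
      by_contra hne
      have := (hY.2.2 _ _ (hstalk p (hcomap v)) hne).1
      omega
    have h4 : p.asIdeal = w := by
      rw [← hptp p]
      simp only [h3]
      rfl
    have : v.asIdeal = maximalIdeal A := by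
      refine le_antisymm (le_maximalIdeal v.2.ne_top) ?_
      rw [← IsLocalization.AtPrime.map_eq_maximalIdeal w A, ← h4]
      exact Ideal.map_comap_le
    rw [this]
    exact maximalIdeal.isMaximal A
  let P : Finset (PrimeSpectrum S) := if δY (f ξ) = r then {p0} else ∅
  have hp0w : p0.asIdeal ≤ w := (Div89.specializes_iff_primeAt_le V hζV hfξV).1 hξζ
  have hfξr : δY (f ξ) ≤ r := hξ ▸ hge ξ
  have hdev : IntMult.chi A (A ⊗[S] M) N = ∑ p ∈ P, ((Len90.locLen p.asIdeal M).toNat : ℤ) *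
      IntMult.chi A (A ⧸ p.asIdeal.map (algebraMap S A)) N := by
    refine chi_dev_left A w N M P (fun p hp => ?_) hgood fun p hp hpw hpP => ?_
    · simp only [P] at hp
      split_ifs at hp with h
      · obtain rfl := Finset.mem_singleton.1 hp
        exact ⟨hp0w, fun p' hp' hle => PrimeSpectrum.ext (le_antisymm hle (hsupp p' hp'))⟩
      · simp at hp
    · have h1 := hspec p hp
      have h2 : δY (pt p) < r := by
        by_cases hne : f ξ = pt p
        · rcases hfξr.eq_or_lt with h | h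
          · refine absurd ?_ hpP
            simp only [P, if_pos h, Finset.mem_singleton]
            refine PrimeSpectrum.ext ?_
            rw [← hptp p]
            simp only [← hne]
            rfl
          · rwa [← hne]
        · have := (hY.2.2 _ _ h1 hne).1
          omega
      have h3 := hchiY (pt p) h1 (hstalk p hpw) h2.le h2
      rwa [hideal _ (hpt p), hptp p] at h3
  rw [chi_congr_left N eB] at hdev
  -- semilocal decomposition
  let ιx : ↥(g ⁻¹' {ζ}) → X := fun z => Cyc90.clι ξ z.1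
  have hιx : ∀ z : ↥(g ⁻¹' {ζ}), f (ιx z) = ζ := fun z => z.2
  let Cc : ↥(g ⁻¹' {ζ}) → Type u := fun z => (Cyc90.cl ξ).presheaf.stalk z.1
  let Rc : ↥(g ⁻¹' {ζ}) → Type u := fun z => X.presheaf.stalk (ιx z)
  let eA : ∀ z, A →+* Y.presheaf.stalk (f (ιx z)) := fun z =>
    (Y.presheaf.stalkCongr (.of_eq (hιx z).symm)).hom.hom
  letI iBC : ∀ z, Algebra B (Cc z) := fun z => (φ z).toAlgebra
  letI iAR : ∀ z, Algebra A (Rc z) := fun z => ((f.stalkMap (ιx z)).hom.comp (eA z)).toAlgebra
  letI iRC : ∀ z, Algebra (Rc z) (Cc z) := fun z => ((Cyc90.clι ξ).stalkMap z.1).hom.toAlgebra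
  letI iAC : ∀ z, Algebra A (Cc z) := fun z => ((φ z).comp (algebraMap A B)).toAlgebra
  haveI : ∀ z, IsScalarTower A B (Cc z) := fun z => IsScalarTower.of_algebraMap_eq fun _ => rfl
  haveI : ∀ z, IsScalarTower A (Rc z) (Cc z) := fun z => IsScalarTower.of_algebraMap_eq fun a => by
    show φ z (algebraMap A B a) = ((Cyc90.clι ξ).stalkMap z.1).hom ((f.stalkMap (ιx z)).hom (eA z a))
    rw [hφA z a]
    show (g.stalkMap z.1).hom _ = _
    rw [Scheme.Hom.stalkMap_comp]
    rfl
  haveI : ∀ z, Module.Flat B (Cc z) := fun z => hφflat z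
  haveI : ∀ z, Module.Flat A (Rc z) := fun z => by
    have h1 : (eA z).Flat := RingHom.Flat.of_bijective
      (Y.presheaf.stalkCongr (.of_eq (hιx z).symm)).commRingCatIsoToRingEquiv.bijective
    exact h1.comp (Flat.stalkMap f (ιx z))
  have hsl := chi_semilocal (A := A) (M := B) N Cc Rc (fun z => (Cyc90.clι ξ).stalkMap_surjective z.1)
    (fun z => g.residueDegree z.1) (fun H _ _ _ _ hH => hlenB H hH) (fun v hvB hvN => by
      rw [← eB.support_eq] at hvB
      exact hgood v (mem_support_of_baseChange A hvB) hvN)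
  -- the values upstairs
  have hcl : ∀ v, Nontrivial ((clSheaf η).presheaf.stalk v) → δY v ≤ s := fun v h => by
    by_cases he : η = v
    · rw [← he, hη]
    · exact hη ▸ (hY.2.2 η v (specializes_of_clSheaf h) he).1.le
  haveI : (clSheaf η).IsQuasicoherent := (isCoh_clSheaf η).1
  obtain ⟨hs', hpull⟩ := Cyc90.pullFun_sheafFun f (clSheaf η) hX.2.2 hc s hcl
  rw [← hη, sheafFun_clSheaf δY hY.2.2 η, hη] at hpull
  obtain ⟨-, hvalX⟩ := interProd_sheafFun X gX δX hX hδX n hn (clSheaf ξ)
    ((Scheme.Modules.pullback f).obj (clSheaf η)) (isCoh_clSheaf ξ)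
    (ConsProp93.isCoh_pullback f (isCoh_clSheaf η)) r (s + e) (fun v h => by
      by_cases he : ξ = v
      · rw [← he, hξ]
      · exact hξ ▸ (hX.2.2 ξ v (specializes_of_clSheaf h) he).1.le) hs' (fun v h1 h2 => by
      have := hmeet v (specializes_of_clSheaf h1)
        (specializes_of_clSheaf (Cyc90.nontrivial_stalk_of_pullback f (clSheaf η) v h2))
      omega)
  rw [← hpull, show Cyc.sheafFun δX r (clSheaf ξ) = Set.indicator {ξ} 1 from
    hξ ▸ sheafFun_clSheaf δX hX.2.2 ξ] at hvalX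
  have hterm : ∀ z : ↥(g ⁻¹' {ζ}), IntMult.interProd δX n (Set.indicator {ξ} 1)
      (Cyc.pullFun f δX δY e (Set.indicator {η} 1)) (ιx z) *
      (if δX (ιx z) = δY (f (ιx z)) then (f.residueDegree (ιx z) : ℤ) else 0) =
      (g.residueDegree z.1 : ℤ) * IntMult.chi (Rc z) (Cc z) (Rc z ⊗[A] N) := fun z => by
    have h1 : δX (ιx z) = δY ζ := hfibre z.1 z.2
    rw [hvalX, if_pos (by omega), if_pos (h1.trans (congrArg δY (hιx z)).symm), mul_comm,
      residueDegree_clι_comp f ξ z.1]
    congr 1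
    obtain ⟨E2⟩ := nonempty_stalk_pullback_clSheaf f η (ιx z) ζ (hιx z) hηζ (fun a => rfl)
    let H := Coh.structureModule (Cyc90.cl ξ)
    let E1 : (clSheaf ξ).presheaf.stalk (ιx z) ≃ₗ[Rc z] Cc z :=
      { (AddEquiv.ofBijective (QC70.pushStalk (Cyc90.clι ξ) H z.1) (QC70.bijective_pushStalk _ H z.1)).trans
          (QC70.unitStalkEquiv z.1).symm.toAddEquiv with
        map_smul' := fun a t => by
          show (QC70.unitStalkEquiv z.1).symm (QC70.pushStalk (Cyc90.clι ξ) H z.1 (a • t)) = _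
          erw [QC70.pushStalk_smul]
          exact LinearEquiv.map_smul (QC70.unitStalkEquiv z.1).symm _ _ }
    exact (chi_congr_left _ E1).trans (chi_congr_right _ E2)
  refine ⟨Finset.univ.image ιx, fun x hx => ?_, fun x hx hxT => ?_, ?_⟩
  · obtain ⟨z, -, rfl⟩ := Finset.mem_image.1 hx
    exact hιx z
  · refine finsum_eq_zero_of_forall_eq_zero fun p => ?_
    rw [Set.indicator_of_notMem, zero_mul, zero_mul]
    intro h
    rw [Set.mem_singleton_iff] at h
    obtain ⟨z, hz⟩ : x ∈ Set.range (Cyc90.clι ξ) :=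
      (Cyc90.range_clι ξ).ge (specializes_iff_mem_closure.1 (h ▸ p.2.1))
    refine hxT (Finset.mem_image.2 ⟨⟨z, ?_⟩, Finset.mem_univ _, hz⟩)
    show f (Cyc90.clι ξ z) = ζ
    rw [hz]; exact hx
  rw [Finset.sum_image fun a _ b _ h => Subtype.ext ((Cyc90.clι ξ).isClosedEmbedding.injective h),
    Finset.sum_congr rfl fun z _ => hterm z, ← hsl, hdev]
  -- the degree
  by_cases hr : δY (f ξ) = r
  · rw [if_pos (hξ.trans hr.symm), show P = {p0} from if_pos hr, Finset.sum_singleton]
    congr 1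
    · haveI : IsNoetherianRing (Y.presheaf.stalk (f ξ)) := inferInstance
      let A' : Type u := Y.presheaf.stalk (f ξ)
      letI : Algebra S A' := TopCat.Presheaf.algebra_section_stalk Y.presheaf ⟨f ξ, hfξV⟩
      haveI : IsLocalization.AtPrime A' p0.asIdeal := V.2.isLocalization_stalk ⟨f ξ, hfξV⟩
      obtain ⟨hft', B', iB', iAB', φ', hB'fin, -, -, -, ⟨eB'⟩, hlen'⟩ :=
        exists_fibre_data g (f ξ) V.1 V.2 hfξV hU hfin
      haveI := hB'fin
      rw [locLen_eq_length_tensor p0.asIdeal A' M, eB'.length_eq]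
      haveI : IsFiniteLength A' B' := by
        refine (S16234.result A' B').1 fun v hv => ?_
        have hv' := Module.mem_support_iff_of_finite.1 hv
        have hle : maximalIdeal A' ≤ v.asIdeal := by
          rw [← IsLocalization.AtPrime.map_eq_maximalIdeal p0.asIdeal A', Ideal.map_le_iff_le_comap]
          intro a ha
          refine hv' (Module.mem_annihilator.2 fun b => ?_)
          obtain ⟨t, rfl⟩ := eB'.surjective b
          rw [← map_smul, IsScalarTower.algebraMap_smul]
          refine (congrArg eB' ?_).trans (map_zero eB')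
          induction t using TensorProduct.induction_on with
          | zero => rw [smul_zero]
          | tmul c d =>
            rw [TensorProduct.smul_tmul', TensorProduct.smul_tmul, Algebra.smul_def,
              show algebraMap S M a = 0 from RingHom.mem_ker.1 (hker.ge ha), zero_mul, tmul_zero]
          | add c d hc hd => rw [smul_add, hc, hd, add_zero]
        rw [← (maximalIdeal.isMaximal A').eq_of_le v.2.ne_top hle]
        exact maximalIdeal.isMaximal A'
      have hBf : IsFiniteLength B' B' := by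
        have h := isFiniteLength_iff_isNoetherian_isArtinian.1 ‹IsFiniteLength A' B'›
        exact isFiniteLength_iff_isNoetherian_isArtinian.2
          ⟨isNoetherian_of_tower A' h.1, isArtinian_of_tower A' h.2⟩
      have hmem : genericPoint (Cyc90.cl ξ) ∈ g ⁻¹' {f ξ} := hgen
      have huniq : ∀ z : ↥(g ⁻¹' {f ξ}), z = ⟨genericPoint (Cyc90.cl ξ), hmem⟩ := fun z => by
        refine Subtype.ext ((Cyc90.clι ξ).isClosedEmbedding.injective ?_)
        rw [Cyc90.clι_genericPoint]
        by_contra hne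
        have h1 := (hX.2.2 ξ _ (hιz z.1) (Ne.symm hne)).1
        have h2 := hge (Cyc90.clι ξ z.1)
        have h3 : f (Cyc90.clι ξ z.1) = f ξ := z.2
        rw [h3] at h2
        omega
      rw [hlen' B' hBf, Fintype.sum_eq_single ⟨genericPoint (Cyc90.cl ξ), hmem⟩ fun z hz =>
        absurd (huniq z) hz]
      letI := (φ' ⟨genericPoint (Cyc90.cl ξ), hmem⟩).toAlgebra
      have hone : Module.length ((Cyc90.cl ξ).presheaf.stalk (genericPoint (Cyc90.cl ξ)))
          ((Cyc90.cl ξ).presheaf.stalk (genericPoint (Cyc90.cl ξ)) ⊗[B'] B') = 1 :=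
        (AlgebraTensorModule.rid B' ((Cyc90.cl ξ).presheaf.stalk (genericPoint (Cyc90.cl ξ)))
          ((Cyc90.cl ξ).presheaf.stalk (genericPoint (Cyc90.cl ξ)))).length_eq.trans
          (Module.length_eq_one_iff.2 (inferInstanceAs
            (IsSimpleModule (Cyc90.cl ξ).functionField (Cyc90.cl ξ).functionField)))
      rw [hone, mul_one, ENat.toNat_natCast, residueDegree_clι_comp, Cyc90.clι_genericPoint]
    · rw [interProd_eq_sum δY m _ _ ζ {f ξ} {η} (by simpa using hξζ) (by simpa using hηζ)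
        (fun a _ h => by simpa using Set.mem_of_indicator_ne_zero h)
        (fun a _ h => by simpa using Set.mem_of_indicator_ne_zero h),
        Finset.sum_singleton, Finset.sum_singleton, if_pos (by omega)]
      simp only [Set.indicator_of_mem (Set.mem_singleton _), Pi.one_apply, one_mul]
      rw [IntMult.mult, LA18.chi_comm]
      show IntMult.chi A (A ⧸ IntMult.stalkIdeal (IntMult.ptIdeal (f ξ)) ζ) N = _
      rw [hideal _ hfξV]
  · rw [if_neg (fun h => hr (h.symm.trans hξ)), show P = ∅ from if_neg hr, Finset.sum_empty, zero_mul]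

end Groth.Agent.IntMult12
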