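import Groth.Agent.LA18.TorSymm
import Groth.Agent.FlatMor68.PerfKoszul
import Groth.Agent.LC17.SamuelKoszul
import Mathlib.LinearAlgebra.TensorProduct.Quotient

/-!
# `χ(A/(g), M)` is the Koszul Euler characteristic for a regular sequence `g`
-/

set_option autoImplicit false
set_option backward.isDefEq.respectTransparency.types false
set_option linter.style.haveILetI false

universe u

open CategoryTheory CategoryTheory.Limits
open scoped TensorProduct

attribute [local instance] HasDerivedCategory.standard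

namespace Groth.Agent.IntMult12

open DR39 Koszul19

variable {A : Type u} [CommRing A]

/-- The Koszul complex of a weakly regular sequence is the quotient in the derived category. -/
theorem koszul_iso_quotient (l : List A) (hl : KR l) :
    Nonempty ((QA A).obj (Koszul.koszul A l) ≅ Dual.inD A (A ⧸ Ideal.ofList l)) := by
  let X := (QA A).obj (Koszul.koszul A l)
  have hz : ∀ i : ℤ, i ≠ 0 → IsZero ((HF A i).obj X) := fun i hi =>
    ((isZero_homology_iff_ex _ i).2 (hl i hi)).of_iso (HQIso _ i)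
  haveI : X.IsGE 0 := (DerivedCategory.isGE_iff X 0).2 fun i hi => hz i (by omega)
  haveI : X.IsLE 0 := (DerivedCategory.isLE_iff X 0).2 fun i hi => hz i (by omega)
  obtain ⟨Y, ⟨e⟩⟩ := DerivedCategory.exists_iso_singleFunctor_obj_of_isGE_of_isLE X 0
  let eY : Y ≅ ModuleCat.of A (A ⧸ Ideal.ofList l) :=
    ((DerivedCategory.singleFunctorCompHomologyFunctorIso (ModuleCat.{u} A) 0).app Y).symm ≪≫
      ((HF A 0).mapIso e).symm ≪≫ HQIso _ 0 ≪≫ homologyIsoHc _ (-1) 0 1 (by omega) (by omega) ≪≫
      (hcZero l).toModuleIso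
  exact ⟨e ≪≫ (DerivedCategory.singleFunctor (ModuleCat.{u} A) 0).mapIso eY⟩

/-- the lengths of `Tor_i(M, A/(l))` are those of the Koszul homology -/
theorem length_tor (l : List A) (hl : KR l) (M : Type u) [AddCommGroup M] [Module A M] :
    ∀ p : ℕ, Module.length A (DRing.Tor A p M (A ⧸ Ideal.ofList l)) = LC17.hlen l M (-(p : ℤ))
  | 0 => by
    rw [Nat.cast_zero, neg_zero, LC17.hlen_zero_eq]
    exact (((Functor.leftDerivedZeroIsoSelf ((MonoidalCategory.tensoringLeft (ModuleCat.{u} A)).obj
        (ModuleCat.of A M))).app (ModuleCat.of A (A ⧸ Ideal.ofList l))).toLinearEquiv.trans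
      (TensorProduct.tensorQuotEquivQuotSMul M (Ideal.ofList l))).length_eq
  | q + 1 => by
    obtain ⟨F, hFb, hFp, ⟨eF⟩, ⟨f⟩⟩ :=
      LA18.exists_tor_iso_tensorCx (ModuleCat.of A M) (ModuleCat.of A (A ⧸ Ideal.ofList l)) q
    obtain ⟨eK⟩ := koszul_iso_quotient l hl
    obtain ⟨E, hEv, hE, ⟨eE⟩⟩ := DR39.exists_free_res (A := A) M
    have hKb : DRing.VanishesAbove (Koszul.koszul A l) 0 := fun i hi => by
      haveI := Koszul19.subsingleton_X l i (Or.inl hi)
      exact ModuleCat.isZero_of_subsingleton _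
    have hKp : ∀ i, Module.Projective A ((Koszul.koszul A l).X i : Type u) := fun i => by
      haveI := (LC17.finite_free_X l i).2
      infer_instance
    obtain ⟨b1⟩ := DR39.balance (M := ModuleCat.of A (A ⧸ Ideal.ofList l)) (N := ModuleCat.of A M)
      hKb hKp eK hEv (fun i => proj_of_FR (hE i)) eE (-((q + 1 : ℕ) : ℤ))
    obtain ⟨b2⟩ := DR39.balance (M := ModuleCat.of A (A ⧸ Ideal.ofList l)) (N := ModuleCat.of A M)
      hFb hFp eF hEv (fun i => proj_of_FR (hE i)) eE (-((q + 1 : ℕ) : ℤ))
    exact (f ≪≫ b2 ≪≫ b1.symm).toLinearEquiv.length_eq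

/-- `χ(A/(l), M)` is the Euler characteristic of the Koszul complex. -/
theorem chi_eq (l : List A) (hl : KR l) (M : Type u) [AddCommGroup M] [Module A M] :
    IntMult.chi A (A ⧸ Ideal.ofList l) M = LC17.chi l M := by
  rw [LA18.chi_comm, IntMult.chi, LC17.chi]
  have hsupp : ∀ q : ℤ, 0 < q → LC17.sgn q * LC17.lenZ A ((LC17.KM l M).homology q) = 0 := fun q hq => by
    have h := LC17.hlen_eq_zero l M q (Or.inl hq)
    rw [LC17.hlen] at h
    simp [LC17.lenZ, h]
  rw [← finsum_mem_univ (f := fun q : ℤ => LC17.sgn q * LC17.lenZ A ((LC17.KM l M).homology q)),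
    finsum_mem_inter_support_eq' (s := Set.univ) (t := Set.range fun p : ℕ => -(p : ℤ))
      (f := fun q : ℤ => LC17.sgn q * LC17.lenZ A ((LC17.KM l M).homology q)) fun q hq => ?_,
    finsum_mem_range fun a b h => by simpa using h]
  · refine finsum_congr fun p => ?_
    have h := length_tor l hl M p
    rw [LC17.hlen] at h
    rw [h, LC17.lenZ, LC17.sgn, Int.negOnePow_neg]
    simp [Int.negOnePow_def]
  · refine iff_of_true (Set.mem_univ q) ?_
    by_contra hc
    refine hq (hsupp q ?_)
    by_contra hq'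
    exact hc ⟨q.natAbs, by show -((q.natAbs : ℕ) : ℤ) = q; omega⟩

end Groth.Agent.IntMult12
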