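import Groth.Agent.S18128
import Groth.Agent.EGA4H10.ProjDim
import Mathlib.LinearAlgebra.FreeModule.Finite.Basic
import Groth.Agent.LA18.TorSymm
import Mathlib.RingTheory.Regular.Flat
import Mathlib.LinearAlgebra.TensorProduct.Pi

/-!
# Vanishing of `Tor` by the acyclicity lemma
-/

set_option autoImplicit false
set_option backward.isDefEq.respectTransparency.types false
set_option linter.style.haveILetI false

universe u

open CategoryTheory CategoryTheory.Limits IsLocalRing MonoidalCategory
open scoped TensorProduct

namespace Groth.Agent.IntMult12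

variable {A : Type u} [CommRing A]

/-- Free resolutions of bounded length over a Noetherian local ring. -/
theorem exists_free_resolution [IsNoetherianRing A] [IsLocalRing A] : ∀ (n : ℕ) (M : Type u)
    [AddCommGroup M] [Module A M] [Module.Finite A M]
    (_ : HasProjectiveDimensionLE (ModuleCat.of A M) n),
    ∃ (X : ℕ → ModuleCat.{u} A) (d : ∀ i, (X (i + 1) : Type u) →ₗ[A] (X i : Type u))
      (f : (X 0 : Type u) →ₗ[A] M),
      (∀ i, Module.Free A (X i) ∧ Module.Finite A (X i)) ∧ (∀ i, n < i → Limits.IsZero (X i)) ∧
      Function.Surjective f ∧ LinearMap.ker f = LinearMap.range (d 0) ∧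
      ∀ i, LinearMap.ker (d i) = LinearMap.range (d (i + 1)) := by
  intro n
  induction n with
  | zero =>
    intro M _ _ _ h
    haveI := (EGA4H10.hasPD_zero_iff M).mp h
    haveI : Module.Free A M := Module.free_of_flat_of_isLocalRing
    refine ⟨fun i => match i with | 0 => ModuleCat.of A M | _ + 1 => ModuleCat.of A PUnit.{u+1},
      fun _ => 0, LinearMap.id, fun i => ?_, fun i hi => ?_, fun m => ⟨m, rfl⟩, ?_, fun i => ?_⟩
    · cases i with
      | zero => exact ⟨‹_›, ‹_›⟩
      | succ i => exact ⟨inferInstanceAs (Module.Free A PUnit.{u+1}), inferInstanceAs (Module.Finite A PUnit.{u+1})⟩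
    · cases i with
      | zero => omega
      | succ i => exact ModuleCat.isZero_of_subsingleton _
    · rw [LinearMap.range_zero]; exact LinearMap.ker_eq_bot.mpr fun _ _ h => h
    · ext (x : PUnit.{u+1})
      simp [Subsingleton.elim x 0]
  | succ n ih =>
    intro M _ _ _ h
    obtain ⟨r, g, hg⟩ := Module.Finite.exists_fin' A M
    have hK := (EGA4H10.hasPD_succ_iff (LinearMap.ker g).subtype g (Submodule.subtype_injective _)
      (LinearMap.exact_subtype_ker_map g) hg n).mp h
    haveI : Module.Finite A (LinearMap.ker g) := inferInstance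
    obtain ⟨X, d, f, hfree, hz, hf, h0, hs⟩ := ih (LinearMap.ker g) hK
    refine ⟨fun i => match i with | 0 => ModuleCat.of A (Fin r → A) | i + 1 => X i,
      fun i => match i with | 0 => (LinearMap.ker g).subtype ∘ₗ f | i + 1 => d i, g,
      fun i => ?_, fun i hi => ?_, hg, ?_, fun i => ?_⟩
    · cases i with
      | zero => exact ⟨inferInstanceAs (Module.Free A (Fin r → A)),
          inferInstanceAs (Module.Finite A (Fin r → A))⟩
      | succ i => exact hfree i
    · cases i with
      | zero => omega
      | succ i => exact hz i (by omega)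
    · show LinearMap.ker g = LinearMap.range ((LinearMap.ker g).subtype ∘ₗ f)
      rw [LinearMap.range_comp, LinearMap.range_eq_top.2 hf, Submodule.map_top, Submodule.range_subtype]
    · cases i with
      | zero =>
        show LinearMap.ker ((LinearMap.ker g).subtype ∘ₗ f) = _
        rw [LinearMap.ker_comp_of_ker_eq_bot _ (Submodule.ker_subtype _)]
        exact h0
      | succ i => exact hs i

/-- An element killing a module acts null homotopically on a projective resolution. -/
theorem exists_homotopy_smul {X : ℕ → ModuleCat.{u} A}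
    (d : ∀ i, (X (i + 1) : Type u) →ₗ[A] (X i : Type u))
    {M : Type u} [AddCommGroup M] [Module A M] (f : (X 0 : Type u) →ₗ[A] M)
    (hproj : ∀ i, Module.Projective A (X i)) (h0 : LinearMap.ker f = LinearMap.range (d 0))
    (hs : ∀ i, LinearMap.ker (d i) = LinearMap.range (d (i + 1)))
    (a : A) (ha : ∀ m : M, a • m = 0) :
    ∃ s : ∀ i, (X i : Type u) →ₗ[A] (X (i + 1) : Type u), (∀ x, d 0 (s 0 x) = a • x) ∧
      ∀ i x, d (i + 1) (s (i + 1) x) + s i (d i x) = a • x := by
  classical
  haveI := hproj
  obtain ⟨s₀, hs₀⟩ := Module.projective_lifting_property (d 0).rangeRestrict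
    ((a • LinearMap.id).codRestrict (LinearMap.range (d 0)) fun x => by
      rw [← h0, LinearMap.mem_ker, LinearMap.smul_apply, map_smul]; exact ha _)
    (d 0).surjective_rangeRestrict
  have step : ∀ (i : ℕ) (t : (X i : Type u) →ₗ[A] (X (i + 1) : Type u)),
      ∃ t' : (X (i + 1) : Type u) →ₗ[A] (X (i + 1 + 1) : Type u),
        (∀ x, d i (t (d i x)) = a • d i x) → ∀ x, d (i + 1) (t' x) + t (d i x) = a • x := by
    intro i t
    by_cases h : ∀ x, d i (t (d i x)) = a • d i x
    · obtain ⟨t', ht'⟩ := Module.projective_lifting_property (d (i + 1)).rangeRestrict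
        ((a • LinearMap.id - t ∘ₗ d i).codRestrict (LinearMap.range (d (i + 1))) fun x => by
          rw [← hs i, LinearMap.mem_ker, LinearMap.sub_apply, map_sub, LinearMap.smul_apply,
            LinearMap.comp_apply, h, map_smul]
          exact sub_self _)
        (d (i + 1)).surjective_rangeRestrict
      refine ⟨t', fun _ x => ?_⟩
      have := congrArg Subtype.val (LinearMap.congr_fun ht' x)
      rw [show d (i + 1) (t' x) = a • x - t (d i x) from this, sub_add_cancel]
    · exact ⟨0, fun h' => absurd h' h⟩
  choose next hnext using step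
  let s : ∀ i, (X i : Type u) →ₗ[A] (X (i + 1) : Type u) :=
    fun i => Nat.rec (motive := fun i => (X i : Type u) →ₗ[A] (X (i + 1) : Type u)) s₀ next i
  have hbase : ∀ x, d 0 (s 0 x) = a • x := fun x =>
    congrArg Subtype.val (LinearMap.congr_fun hs₀ x)
  refine ⟨s, hbase, fun i => ?_⟩
  induction i with
  | zero => exact hnext 0 (s 0) fun x => hbase _
  | succ i ih =>
    refine hnext (i + 1) (s (i + 1)) fun x => ?_
    have hdd : d i (d (i + 1) x) = 0 := by
      rw [← LinearMap.mem_ker, hs i]; exact ⟨x, rfl⟩
    have := ih (d (i + 1) x)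
    rw [hdd, map_zero, add_zero] at this
    exact this

variable [IsNoetherianRing A] [IsLocalRing A]


/-- If `N` has projective dimension `≤ e`, `M` admits a regular sequence of length `e` contained in
the radical of `Ann N + Ann M`, then `Tor_i(M, N) = 0` for `i > 0`. -/
theorem subsingleton_tor (M N : Type u) [AddCommGroup M] [Module A M] [Module.Finite A M]
    [AddCommGroup N] [Module A N] [Module.Finite A N] (e : ℕ)
    (hpd : HasProjectiveDimensionLE (ModuleCat.of A N) e)
    (rs : List A) (hlen : rs.length = e) (hreg : RingTheory.Sequence.IsWeaklyRegular M rs)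
    (hkill : ∀ x ∈ rs, x ∈ (Module.annihilator A N ⊔ Module.annihilator A M).radical) (i : ℕ) :
    Subsingleton (DRing.Tor A (i + 1) M N) := by
  obtain ⟨X, d, f, hfree, hz, hf, h0, hs⟩ := exists_free_resolution e N hpd
  have hproj : ∀ j, Module.Projective A (X j) := fun j => by
    haveI := (hfree j).1; infer_instance
  let F : ℕ → Type u := fun j => M ⊗[A] (X j : Type u)
  let D : ∀ j, F (j + 1) →ₗ[A] F j := fun j => (d j).lTensor M
  have hdd : ∀ j, (d j) ∘ₗ (d (j + 1)) = 0 := fun j => by
    refine LinearMap.ext fun x => ?_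
    have : d (j + 1) x ∈ LinearMap.ker (d j) := by rw [hs]; exact ⟨x, rfl⟩
    exact this
  have hDD : ∀ j, (D j) ∘ₗ (D (j + 1)) = 0 := fun j => by
    rw [← LinearMap.lTensor_comp, hdd, LinearMap.lTensor_zero]
  have hde : D e = 0 := by
    have := ModuleCat.subsingleton_of_isZero (hz (e + 1) (by omega))
    have : d e = 0 := LinearMap.ext fun x => by rw [Subsingleton.elim x 0]; simp
    simp [D, this]
  have hFreg : ∀ j, RingTheory.Sequence.IsWeaklyRegular (F j) rs := fun j => by
    haveI := (hfree j).1
    exact hreg.isWeaklyRegular_rTensor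
  have htor : ∀ j, j < e → ∀ v, D j v = 0 → ∀ x ∈ rs, ∃ n : ℕ, x ^ n • v ∈ LinearMap.range (D (j + 1)) := by
    intro j _ v hv x hx
    obtain ⟨n, hn⟩ := hkill x hx
    obtain ⟨a, ha, b, hb, hab⟩ := Submodule.mem_sup.1 hn
    refine ⟨n, ?_⟩
    rw [← hab, add_smul]
    refine add_mem ?_ ?_
    · obtain ⟨s, hs0, hss⟩ := exists_homotopy_smul d f hproj h0 hs a (Module.mem_annihilator.1 ha)
      have key : ∀ w : F (j + 1), D (j + 1) ((s (j + 1)).lTensor M w) + (s j).lTensor M (D j w) = a • w := by
        intro w
        have h := LinearMap.congr_fun (congrArg (LinearMap.lTensor M)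
          (show (d (j + 1)).comp (s (j + 1)) + (s j).comp (d j) = a • LinearMap.id from LinearMap.ext (hss j))) w
        simpa [D, LinearMap.lTensor_add, LinearMap.lTensor_comp, LinearMap.lTensor_smul] using h
      have := key v
      rw [hv, map_zero, add_zero] at this
      exact ⟨_, this⟩
    · have : ∀ w : F (j + 1), b • w = 0 := fun w => by
        induction w using TensorProduct.induction_on with
        | zero => simp
        | tmul m y => rw [TensorProduct.smul_tmul', Module.mem_annihilator.1 hb m, TensorProduct.zero_tmul]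
        | add y z hy hz => rw [smul_add, hy, hz, add_zero]
      rw [this]; exact zero_mem _
  have hexD : ∀ j v, D j v = 0 → v ∈ LinearMap.range (D (j + 1)) := by
    intro j v hv
    rcases lt_or_ge j e with hj | hj
    · exact S18128.acyclic e rs F D hlen hde (fun j _ => hDD j) (fun j _ => hFreg j) htor j hj v hv
    · have := ModuleCat.subsingleton_of_isZero (hz (j + 1) (by omega))
      refine ⟨0, ?_⟩
      rw [map_zero]
      exact Subsingleton.elim (α := F (j + 1)) _ _
  -- the resolution
  let C : ChainComplex (ModuleCat.{u} A) ℕ := ChainComplex.of X (fun j => ModuleCat.ofHom (d j))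
    fun j => by ext1; exact hdd j
  have hC : ∀ j, C.d (j + 1) j = ModuleCat.ofHom (d j) := fun j => by simp [C]
  have hw : C.d 1 0 ≫ (ModuleCat.ofHom f : C.X 0 ⟶ ModuleCat.of A N) = 0 := by
    rw [hC 0]
    ext1
    refine LinearMap.ext fun x => ?_
    have : d 0 x ∈ LinearMap.ker f := by rw [h0]; exact ⟨x, rfl⟩
    exact this
  let P : ProjectiveResolution (ModuleCat.of A N) :=
    { complex := C
      projective := fun j => (IsProjective.iff_projective (R := A) (X j)).1 (hproj j)
      π := (ChainComplex.toSingle₀Equiv _ _).symm ⟨ModuleCat.ofHom f, hw⟩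
      quasiIso := ⟨fun n => by
        cases n
        · rw [ChainComplex.quasiIsoAt₀_iff, ShortComplex.quasiIso_iff_of_zeros']
          · refine (ShortComplex.exact_and_epi_g_iff_of_iso ?_).2
              ⟨(ShortComplex.moduleCat_exact_iff_range_eq_ker
                (ShortComplex.mk (C.d 1 0) (ModuleCat.ofHom f : C.X 0 ⟶ ModuleCat.of A N) hw)).2 (by
                  rw [show (ShortComplex.mk (C.d 1 0) (ModuleCat.ofHom f : C.X 0 ⟶ ModuleCat.of A N) hw).f
                    = ModuleCat.ofHom (d 0) from hC 0]
                  exact h0.symm),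
                (ModuleCat.epi_iff_surjective _).2 hf⟩
            exact ShortComplex.isoMk (Iso.refl _) (Iso.refl _) (Iso.refl _)
              ((Category.id_comp _).trans (Category.comp_id _).symm)
              ((Category.id_comp _).trans ((ChainComplex.toSingle₀Equiv_symm_apply_f_zero (C := C) _ hw).symm.trans (Category.comp_id _).symm))
          all_goals rfl
        · rw [quasiIsoAt_iff_exactAt']
          · rename_i n
            rw [HomologicalComplex.exactAt_iff' _ (n + 2) (n + 1) n (by simp) (by simp)]
            refine (ShortComplex.moduleCat_exact_iff_range_eq_ker _).2 ?_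
            show LinearMap.range (C.d (n + 2) (n + 1)).hom = LinearMap.ker (C.d (n + 1) n).hom
            rw [hC n, show C.d (n + 2) (n + 1) = ModuleCat.ofHom (d (n + 1)) from hC (n + 1)]
            exact (hs n).symm
          · apply ChainComplex.exactAt_succ_single_obj⟩ }
  let T := (tensoringLeft (ModuleCat.{u} A)).obj (ModuleCat.of A M)
  have e1 := P.isoLeftDerivedObj T (i + 1)
  refine ModuleCat.subsingleton_of_isZero (IsZero.of_iso ?_ e1)
  show IsZero (((T.mapHomologicalComplex _).obj P.complex).homology (i + 1))
  rw [← HomologicalComplex.exactAt_iff_isZero_homology,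
    HomologicalComplex.exactAt_iff' _ (i + 2) (i + 1) i (by simp) (by simp), ShortComplex.moduleCat_exact_iff]
  intro v hv
  have hd1 : ((T.mapHomologicalComplex _).obj P.complex).d (i + 1) i = T.map (ModuleCat.ofHom (d i)) := by
    show T.map (C.d (i + 1) i) = _
    rw [hC]
  have hd2 : ((T.mapHomologicalComplex _).obj P.complex).d (i + 2) (i + 1) = T.map (ModuleCat.ofHom (d (i + 1))) := by
    show T.map (C.d (i + 2) (i + 1)) = _
    rw [show C.d (i + 2) (i + 1) = ModuleCat.ofHom (d (i + 1)) from hC (i + 1)]
  have hv' : D i v = 0 := by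
    have h := hv
    change (((T.mapHomologicalComplex _).obj P.complex).d (i + 1) i).hom v = 0 at h
    rw [hd1] at h
    exact h
  obtain ⟨w, hw'⟩ := hexD i v hv'
  refine ⟨w, ?_⟩
  show (((T.mapHomologicalComplex _).obj P.complex).d (i + 2) (i + 1)).hom w = v
  rw [hd2]
  exact hw'

end Groth.Agent.IntMult12
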