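import Groth.Agent.IntMult12.Setup
import Groth.Agent.IntMult12.KoszulTor
import Groth.Agent.IntMult12.TorVanish
import Groth.Agent.LC17.KDim
import Groth.Agent.LA18.SamuelKoszul
import Groth.Agent.CAlg1.AB
import Groth.Agent.CAlg1.Serre
import Groth.Agent.EGA4Alg4.DepthChange
import Groth.Agent.EGA4Alg4.Semilocal

/-!
# Multiplicities in the local ring of a component of a proper intersection
-/

set_option autoImplicit false
set_option linter.style.haveILetI false
set_option linter.unusedSectionVars false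

universe u

open IsLocalRing CategoryTheory
open scoped TensorProduct

attribute [local instance] HasDerivedCategory.standard

namespace Groth.Agent.IntMult12

theorem chi_eq_length_of_regular {A : Type u} [CommRing A] : ∀ (l : List A) (M : Type u) [AddCommGroup M]
    [Module A M], RingTheory.Sequence.IsWeaklyRegular M l →
    LC17.chi l M = ((Module.length A (M ⧸ (Ideal.ofList l • (⊤ : Submodule A M)))).toNat : ℤ)
  | [], M, _, _, _ => by
    rw [LC17.chi_nil, LC17.lenZ, (Submodule.quotEquivOfEqBot (Ideal.ofList ([] : List A) • (⊤ : Submodule A M))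
      (by simp)).length_eq]
  | r :: l, M, _, _, h => by
    rw [RingTheory.Sequence.isWeaklyRegular_cons_iff] at h
    rw [LC17.chi_cons_regular r l M h.1, chi_eq_length_of_regular l _ h.2,
      (Submodule.quotOfListConsSMulTopEquivQuotSMulTopInner M r l).length_eq]

variable {A : Type u} [CommRing A] {P Q : Ideal A}

theorem LocalData.symm (D : LocalData A P Q) : LocalData A Q P := by
  obtain ⟨a, b, h1, h2, h3⟩ := D.dim
  exact ⟨D.regular, D.primeQ, D.primeP, by rw [sup_comm]; exact D.finiteLength, b, a,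
    by rw [h1, add_comm], h3, h2⟩

variable [IsRegularLocalRing A]

theorem smul_top_quotient (P Q : Ideal A) :
    (P • (⊤ : Submodule A (A ⧸ Q))) = Submodule.map Q.mkQ (Q ⊔ P) := by
  have h1 : Submodule.map Q.mkQ (P • (⊤ : Submodule A A)) = P • (⊤ : Submodule A (A ⧸ Q)) := by
    rw [Submodule.map_smul'', Submodule.map_top, LinearMap.range_eq_top.2 (Submodule.mkQ_surjective Q)]
  rw [← h1, Submodule.map_sup, Submodule.mkQ_map_self, bot_sup_eq, smul_eq_mul, Ideal.mul_top]

/-- `(A/Q)/P(A/Q) = A/(Q + P)` -/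
noncomputable def quotQuot (P Q : Ideal A) :
    ((A ⧸ Q) ⧸ (P • (⊤ : Submodule A (A ⧸ Q)))) ≃ₗ[A] A ⧸ (Q ⊔ P) :=
  (Submodule.quotEquivOfEq _ _ (smul_top_quotient P Q)).trans
    (Submodule.quotientQuotientEquivQuotient Q (Q ⊔ P) le_sup_left)

theorem LocalData.isFiniteLength_quot (D : LocalData A P Q) :
    IsFiniteLength A ((A ⧸ Q) ⧸ (P • (⊤ : Submodule A (A ⧸ Q)))) := by
  rw [← Module.length_ne_top_iff, (quotQuot P Q).length_eq, sup_comm, Module.length_ne_top_iff]
  exact D.finiteLength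

theorem LocalData.length_quot (_D : LocalData A P Q) :
    Module.length A ((A ⧸ Q) ⧸ (P • (⊤ : Submodule A (A ⧸ Q)))) = Module.length A (A ⧸ (Q ⊔ P)) :=
  (quotQuot P Q).length_eq

/-- The case of a complete intersection. -/
theorem LocalData.regular_case (D : LocalData A P Q) {c : ℕ} (g : Fin c → A)
    (hg : P = Ideal.span (Set.range g)) (hreg : RingTheory.Sequence.IsRegular A (List.ofFn g)) :
    IntMult.chi A (A ⧸ Q) (A ⧸ P) = LC17.chi (List.ofFn g) (A ⧸ Q) ∧
      LC17.Good (List.ofFn g) (A ⧸ Q) ∧ (∀ x ∈ List.ofFn g, x ∈ maximalIdeal A) ∧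
      Module.supportDim A (A ⧸ Q) = (c : WithBot ℕ∞) := by
  have hP : Ideal.ofList (List.ofFn g) = P := by rw [hg, LC17.ofList_ofFn]
  have hm : ∀ x ∈ List.ofFn g, x ∈ maximalIdeal A := fun x hx =>
    le_maximalIdeal D.primeP.ne_top (hP ▸ Ideal.subset_span hx)
  refine ⟨?_, ?_, hm, ?_⟩
  · rw [LA18.chi_comm, ← hP]
    exact chi_eq _ (Koszul19.kR_of_isWeaklyRegular _ hreg.toIsWeaklyRegular) _
  · rw [LC17.good_iff, hP]
    exact D.isFiniteLength_quot
  · obtain ⟨a, b, h1, h2, h3⟩ := D.dim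
    have h := Module.supportDim_add_length_eq_supportDim_of_isRegular (M := A) (List.ofFn g) hreg
    rw [smul_eq_mul, Ideal.mul_top, hP, Module.supportDim_quotient_eq_ringKrullDim,
      Module.supportDim_self_eq_ringKrullDim, h1, h2, List.length_ofFn, ← Nat.cast_add, Nat.cast_inj] at h
    rw [Module.supportDim_quotient_eq_ringKrullDim, h3, Nat.cast_inj]
    omega

theorem LocalData.pos_of_regular (D : LocalData A P Q) {c : ℕ} (g : Fin c → A)
    (hg : P = Ideal.span (Set.range g)) (hreg : RingTheory.Sequence.IsRegular A (List.ofFn g)) :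
    0 < IntMult.chi A (A ⧸ Q) (A ⧸ P) := by
  obtain ⟨e, hG, hm, hd⟩ := D.regular_case g hg hreg
  rw [e]
  exact (LC17.chi_pos_aux _ _ hG hm).2 (by rw [hd, List.length_ofFn])

theorem depth_quotient_of_CM [Q.IsPrime] (h : LocCoh.IsCohenMacaulayLocalRing (A ⧸ Q)) {b : ℕ}
    (hb : ringKrullDim (A ⧸ Q) = b) : LocCoh.depth A (A ⧸ Q) = (b : ℕ∞) := by
  haveI : IsLocalRing (A ⧸ Q) := inferInstance
  haveI : IsLocalHom (algebraMap A (A ⧸ Q)) := IsLocalHom.of_surjective _ Ideal.Quotient.mk_surjective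
  rw [EGA4Alg4.depth_eq_of_finite (A := A) (B := A ⧸ Q) (A ⧸ Q)]
  have h1 := h.supportDim_eq_depth
  rw [Module.supportDim_self_eq_ringKrullDim, hb] at h1
  exact_mod_cast h1.symm

theorem isCohenMacaulayModule_quotient_of_CM [Q.IsPrime]
    (h : LocCoh.IsCohenMacaulayLocalRing (A ⧸ Q)) {b : ℕ} (hb : ringKrullDim (A ⧸ Q) = b) :
    LocCoh.IsCohenMacaulayModule A (A ⧸ Q) := by
  rw [LocCoh.IsCohenMacaulayModule, depth_quotient_of_CM h hb, Module.supportDim_quotient_eq_ringKrullDim, hb]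
  rfl

theorem LocalData.length_of_regular (D : LocalData A P Q) {c : ℕ} (g : Fin c → A)
    (hg : P = Ideal.span (Set.range g)) (hreg : RingTheory.Sequence.IsRegular A (List.ofFn g))
    (hQ : LocCoh.IsCohenMacaulayLocalRing (A ⧸ Q)) :
    IntMult.chi A (A ⧸ Q) (A ⧸ P) = ((Module.length A (A ⧸ (Q ⊔ P))).toNat : ℤ) := by
  obtain ⟨e, hG, hm, hd⟩ := D.regular_case g hg hreg
  haveI := D.primeQ
  have hP : Ideal.ofList (List.ofFn g) = P := by rw [hg, LC17.ofList_ofFn]
  rw [Module.supportDim_quotient_eq_ringKrullDim] at hd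
  have hne : Nontrivial ((A ⧸ Q) ⧸ (Ideal.ofList (List.ofFn g) • (⊤ : Submodule A (A ⧸ Q)))) :=
    EGA4Alg4.nontrivial_quotient_ofList hm
  have h0 : Module.supportDim A ((A ⧸ Q) ⧸ (Ideal.ofList (List.ofFn g) • (⊤ : Submodule A (A ⧸ Q)))) = 0 := by
    refine le_antisymm (EGA4Alg4.Semilocal.supportDim_nonpos_of_isFiniteLength ?_) ?_
    · rw [hP]; exact D.isFiniteLength_quot
    · obtain ⟨m, hm'⟩ := EGA4Alg4.exists_supportDim_eq (A := A)
        (M := (A ⧸ Q) ⧸ (Ideal.ofList (List.ofFn g) • (⊤ : Submodule A (A ⧸ Q))))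
      rw [hm']; exact_mod_cast Nat.zero_le m
  have hwr := EGA4Alg4.isWeaklyRegular_of_supportDim (M := A ⧸ Q)
    (isCohenMacaulayModule_quotient_of_CM hQ hd) hm
    (by rw [h0, Module.supportDim_quotient_eq_ringKrullDim, hd, zero_add, List.length_ofFn])
  rw [e, chi_eq_length_of_regular _ _ hwr, hP, D.length_quot]

theorem LocalData.length_of_CM (D : LocalData A P Q) (hP : LocCoh.IsCohenMacaulayLocalRing (A ⧸ P))
    (hQ : LocCoh.IsCohenMacaulayLocalRing (A ⧸ Q)) :
    IntMult.chi A (A ⧸ Q) (A ⧸ P) = ((Module.length A (A ⧸ (P ⊔ Q))).toNat : ℤ) := by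
  haveI := D.primeQ; haveI := D.primeP
  obtain ⟨a, b, h1, h2, h3⟩ := D.dim
  -- projective dimension
  have hpd : HasProjectiveDimensionLE (ModuleCat.of A (A ⧸ P)) b := by
    have hA := CAlg1.hasPD_of_regular A (d := a + b) h1 (ModuleCat.of A (A ⧸ P))
    obtain ⟨e₀, -, he₀, hAB⟩ := CAlg1.auslander_buchsbaum_exists (A ⧸ P) (e := a + b) hA
    rw [CAlg1.depth_regular A h1, depth_quotient_of_CM hP h2, ← Nat.cast_add, Nat.cast_inj] at hAB
    have : e₀ = b := by omega
    exact this ▸ he₀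
  have hCM := isCohenMacaulayModule_quotient_of_CM hQ h3
  have hnt : Nontrivial (A ⧸ Q) := Ideal.Quotient.nontrivial_iff.mpr D.primeQ.ne_top
  obtain ⟨ys, hlen, hys, hfl⟩ := EGA4Alg4.Semilocal.exists_parameters b (M := A ⧸ Q)
    (by rw [Module.supportDim_quotient_eq_ringKrullDim, h3])
  have hm : ∀ y ∈ ys, y ∈ maximalIdeal A := fun y hy => by
    have := hys y hy
    rwa [IsLocalRing.ringJacobson_eq_maximalIdeal] at this
  have := EGA4Alg4.nontrivial_quotient_ofList (M := A ⧸ Q) hm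
  have hwr : RingTheory.Sequence.IsWeaklyRegular (A ⧸ Q) ys := by
    refine EGA4Alg4.isWeaklyRegular_of_supportDim hCM hm ?_
    rw [le_antisymm (EGA4Alg4.Semilocal.supportDim_nonpos_of_isFiniteLength hfl) (by
      obtain ⟨m, hm'⟩ := EGA4Alg4.exists_supportDim_eq (A := A)
        (M := (A ⧸ Q) ⧸ (Ideal.ofList ys • (⊤ : Submodule A (A ⧸ Q))))
      rw [hm']; exact_mod_cast Nat.zero_le m), Module.supportDim_quotient_eq_ringKrullDim, h3, zero_add, hlen]
  have hrad : ∀ x ∈ ys, x ∈ (Module.annihilator A (A ⧸ P) ⊔ Module.annihilator A (A ⧸ Q)).radical := by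
    intro x hx
    rw [Ideal.annihilator_quotient, Ideal.annihilator_quotient, Ideal.radical_eq_sInf, Submodule.mem_sInf]
    rintro v ⟨hv, hvp⟩
    have hmem : (⟨v, hvp⟩ : PrimeSpectrum A) ∈ Module.support A (A ⧸ (P ⊔ Q)) := by
      rw [Module.support_eq_zeroLocus, Ideal.annihilator_quotient]
      exact hv
    have := LC17.isMaximal_of_mem_support D.finiteLength hmem
    show x ∈ (⟨v, hvp⟩ : PrimeSpectrum A).asIdeal
    rw [IsLocalRing.eq_maximalIdeal this]
    exact hm x hx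
  have hvan : ∀ i, Module.length A (DRing.Tor A (i + 1) (A ⧸ Q) (A ⧸ P)) = 0 := fun i =>
    Module.length_eq_zero_iff.2 (subsingleton_tor (A ⧸ Q) (A ⧸ P) b hpd ys hlen hwr hrad i)
  rw [IntMult.chi, finsum_eq_single _ 0 fun i hi => by
    obtain ⟨i, rfl⟩ := Nat.exists_eq_succ_of_ne_zero hi
    rw [hvan i]; simp]
  have e0 : Module.length A (DRing.Tor A 0 (A ⧸ Q) (A ⧸ P)) = Module.length A (A ⧸ (Q ⊔ P)) :=
    (((Functor.leftDerivedZeroIsoSelf ((MonoidalCategory.tensoringLeft (ModuleCat.{u} A)).obj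
        (ModuleCat.of A (A ⧸ Q)))).app (ModuleCat.of A (A ⧸ P))).toLinearEquiv.trans
      (TensorProduct.tensorQuotEquivQuotSMul (A ⧸ Q) P)).length_eq.trans D.length_quot
  rw [e0, sup_comm, pow_zero, one_mul]

end Groth.Agent.IntMult12
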