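import Groth.Agent.IntMult12.SheafChi
import Groth.Agent.Cyc90.RelDimShift
import Groth.Agent.Cyc90.PullSheaf
import Groth.Agent.Cyc90.PushLen
import Groth.Agent.Cyc90.ClosureSub
import Groth.Agent.ConsProp93.Locus
import Groth.Agent.FCx40.TorBC

/-!
# Flat pullback of intersection products
-/

set_option autoImplicit false
set_option linter.style.haveILetI false

universe u

open CategoryTheory CategoryTheory.Limits AlgebraicGeometry IsLocalRing TensorProduct

attribute [local instance] HasDerivedCategory.standard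

namespace Groth.Agent.IntMult12

/-- `χ` and flat local base change. -/
theorem chi_baseChange {A B : Type u} [CommRing A] [CommRing B] [IsLocalRing A] [IsLocalRing B]
    [Algebra A B] [Module.Flat A B] [IsLocalHom (algebraMap A B)] (M N : Type u) [AddCommGroup M]
    [Module A M] [AddCommGroup N] [Module A N] :
    IntMult.chi B (B ⊗[A] M) (B ⊗[A] N) = IntMult.chi A M N *
      ((Module.length B (B ⧸ (maximalIdeal A).map (algebraMap A B))).toNat : ℤ) := by
  rw [IntMult.chi, IntMult.chi, finsum_mul]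
  refine finsum_congr fun i => ?_
  rw [← (FCx40.nonempty_tor_flat_baseChange (A' := B) M N i).some.length_eq, IsLocalRing.length_baseChange,
    ENat.toNat_mul, Nat.cast_mul, mul_assoc]

theorem finite_stalk {X : Scheme.{u}} (F : X.Modules) (hF : Coh.IsCoh F) (x : X) :
    Module.Finite (X.presheaf.stalk x) (F.presheaf.stalk x) := by
  haveI : F.IsQuasicoherent := hF.1
  haveI : F.IsFiniteType := hF.2
  obtain ⟨U, hU⟩ := Div89.exists_affine_mem x
  haveI := QC70.finite_sections_of_isFiniteType F U.2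
  letI := Div89.stalkModule F U.1 x hU
  letI := Div89.stalkAlg U.1 x hU
  haveI := Div89.isLocalization_stalk U x hU
  haveI := Div89.isScalarTower_stalk F U.1 x hU
  haveI := Div89.isLocalizedModule_germLin F hF.1 U x hU
  exact Module.Finite.of_isLocalizedModule (Div89.primeAt U x hU).primeCompl
    (Div89.germLin F U.1 x hU)

/-- Pulling back the product of the cycles of two coherent sheaves. -/
theorem interProd_pullback {K : Type u} [Field K] (X Y : Scheme.{u}) (f : X ⟶ Y)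
    (gX : X ⟶ Spec (CommRingCat.of K)) (gY : Y ⟶ Spec (CommRingCat.of K)) [Smooth gX] [IsSeparated gX]
    [IsIntegral X] [Smooth gY] [IsSeparated gY] [IsIntegral Y] [Flat f] [LocallyOfFiniteType f]
    (δX : X → ℤ) (δY : Y → ℤ) (hX : Cyc.IsSetup X δX) (hY : Cyc.IsSetup Y δY)
    (hδX : Cyc.DeltaCompat gX δX (fun _ => 0)) (hδY : Cyc.DeltaCompat gY δY (fun _ => 0))
    (hδ : Cyc.DeltaCompat f δX δY) (n m : ℤ) (hn : δX (genericPoint X) = n) (hm : δY (genericPoint Y) = m)
    (e : ℕ) (he : (e : ℤ) = n - m) (hrel : Cyc.HasRelDim f e) (F G : Y.Modules) (hF : Coh.IsCoh F)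
    (hG : Coh.IsCoh G) (r s : ℤ) (hr : ∀ y : Y, Nontrivial (F.presheaf.stalk y) → δY y ≤ r)
    (hs : ∀ y : Y, Nontrivial (G.presheaf.stalk y) → δY y ≤ s)
    (hrs : ∀ y : Y, Nontrivial (F.presheaf.stalk y) → Nontrivial (G.presheaf.stalk y) → δY y ≤ r + s - m) :
    IntMult.IntersectProperly δX n (Cyc.sheafFun δX (r + e) ((Scheme.Modules.pullback f).obj F))
        (Cyc.sheafFun δX (s + e) ((Scheme.Modules.pullback f).obj G)) ∧
      Cyc.pullFun f δX δY e (IntMult.interProd δY m (Cyc.sheafFun δY r F) (Cyc.sheafFun δY s G)) =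
        IntMult.interProd δX n (Cyc.sheafFun δX (r + e) ((Scheme.Modules.pullback f).obj F))
          (Cyc.sheafFun δX (s + e) ((Scheme.Modules.pullback f).obj G)) := by
  haveI : F.IsQuasicoherent := hF.1
  haveI : G.IsQuasicoherent := hG.1
  have hc := Cyc90.shiftAt_of_hasRelDim f hrel hδ
  obtain ⟨hr', -⟩ := Cyc90.pullFun_sheafFun f F hX.2.2 hc r hr
  obtain ⟨hs', -⟩ := Cyc90.pullFun_sheafFun f G hX.2.2 hc s hs
  have hrs' : ∀ x : X, Nontrivial (((Scheme.Modules.pullback f).obj F).presheaf.stalk x) →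
      Nontrivial (((Scheme.Modules.pullback f).obj G).presheaf.stalk x) →
      δX x ≤ (r + e) + (s + e) - n := fun x hxF hxG => by
    have h1 := hrs _ (Cyc90.nontrivial_stalk_of_pullback f F x hxF)
      (Cyc90.nontrivial_stalk_of_pullback f G x hxG)
    have h2 := (Cyc90.delta_le_of_shift f hX.2.2 hc x).1
    omega
  obtain ⟨hpX, hvX⟩ := interProd_sheafFun X gX δX hX hδX n hn _ _ (ConsProp93.isCoh_pullback f hF)
    (ConsProp93.isCoh_pullback f hG) (r + e) (s + e) hr' hs' hrs'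
  obtain ⟨-, hvY⟩ := interProd_sheafFun Y gY δY hY hδY m hm F G hF hG r s hr hs hrs
  refine ⟨hpX, funext fun x => ?_⟩
  rw [hvX, Cyc.pullFun, hvY]
  have hle := (Cyc90.delta_le_of_shift f hX.2.2 hc x).1
  have key : IntMult.chi (X.presheaf.stalk x) (((Scheme.Modules.pullback f).obj F).presheaf.stalk x)
      (((Scheme.Modules.pullback f).obj G).presheaf.stalk x) =
      IntMult.chi (Y.presheaf.stalk (f x)) (F.presheaf.stalk (f x)) (G.presheaf.stalk (f x)) *
        ((Module.length (X.presheaf.stalk x) (X.presheaf.stalk x ⧸ (maximalIdeal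
          (Y.presheaf.stalk (f x))).map (f.stalkMap x).hom)).toNat : ℤ) := by
    letI : Algebra (Y.presheaf.stalk (f x)) (X.presheaf.stalk x) := (f.stalkMap x).hom.toAlgebra
    haveI : Module.Flat (Y.presheaf.stalk (f x)) (X.presheaf.stalk x) := Flat.stalkMap f x
    haveI : IsLocalHom (algebraMap (Y.presheaf.stalk (f x)) (X.presheaf.stalk x)) := f.toLRSHom.prop x
    haveI hregX : IsRegularLocalRing (X.presheaf.stalk x) := VarGal.isRegularLocalRing_stalk_of_smooth gX x
    obtain ⟨EF⟩ := FlatMor68.PullbackStalk.nonempty_stalkPullbackEquiv f F x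
    obtain ⟨EG⟩ := FlatMor68.PullbackStalk.nonempty_stalkPullbackEquiv f G x
    rw [chi_congr_left _ EF, chi_congr_right _ EG]
    exact chi_baseChange _ _
  by_cases h1 : δX x = δY (f x) + e
  · rw [if_pos h1]
    by_cases h2 : δY (f x) = r + s - m
    · rw [if_pos h2, if_pos (by omega), key]
    · rw [if_neg h2, if_neg (by omega), zero_mul]
  · rw [if_neg h1]
    split_ifs with h2
    · haveI := VarGal.isRegularLocalRing_stalk_of_smooth gY (f x)
      haveI := finite_stalk F hF (f x)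
      haveI := finite_stalk G hG (f x)
      have h3 : Subsingleton (F.presheaf.stalk (f x)) ∨ Subsingleton (G.presheaf.stalk (f x)) := by
        by_contra hcon
        rw [not_or, not_subsingleton_iff_nontrivial, not_subsingleton_iff_nontrivial] at hcon
        have := hrs _ hcon.1 hcon.2
        omega
      rcases h3 with h3 | h3
      · rw [key, chi_subsingleton_left (Y.presheaf.stalk (f x)) (F.presheaf.stalk (f x))
          (G.presheaf.stalk (f x)), zero_mul]
      · rw [key, LA18.chi_comm, chi_subsingleton_left (Y.presheaf.stalk (f x)) (G.presheaf.stalk (f x))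
          (F.presheaf.stalk (f x)), zero_mul]
    · rfl

/-- The product near a point as a finite sum. -/
theorem interProd_eq_sum {X : Scheme.{u}} [DecidableEq X] (δ : X → ℤ) (n : ℤ) (α β : X → ℤ) (x : X)
    (S T : Finset X) (hS : ∀ a ∈ S, a ⤳ x) (hT : ∀ a ∈ T, a ⤳ x)
    (hα : ∀ a, a ⤳ x → α a ≠ 0 → a ∈ S) (hβ : ∀ a, a ⤳ x → β a ≠ 0 → a ∈ T) :
    IntMult.interProd δ n α β x = ∑ a ∈ S, ∑ b ∈ T, (if δ a + δ b - n = δ x then
      α a * β b * IntMult.mult (IntMult.ptIdeal a) (IntMult.ptIdeal b) x else 0) := by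
  classical
  let P : X × X → Prop := fun p => p.1 ⤳ x ∧ p.2 ⤳ x ∧ δ p.1 + δ p.2 - n = δ x
  rw [IntMult.interProd, ← Finset.sum_product', ← Finset.sum_filter,
    finsum_eq_sum_of_support_subset (s := ((S ×ˢ T).filter fun p : X × X => δ p.1 + δ p.2 - n = δ x).subtype P)]
  · exact (Finset.sum_subtype_eq_sum_filter (p := P)
      (fun p : X × X => α p.1 * β p.2 * IntMult.mult (IntMult.ptIdeal p.1) (IntMult.ptIdeal p.2) x)).trans
      (Finset.sum_congr (Finset.filter_true_of_mem fun p hp => by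
        rw [Finset.mem_filter, Finset.mem_product] at hp
        exact ⟨hS _ hp.1.1, hT _ hp.1.2, hp.2⟩) fun _ _ => rfl)
  · intro p hp
    rw [Function.mem_support] at hp
    rw [Finset.mem_coe, Finset.mem_subtype, Finset.mem_filter, Finset.mem_product]
    exact ⟨⟨hα _ p.2.1 fun h => hp (by rw [h, zero_mul, zero_mul]),
      hβ _ p.2.2.1 fun h => hp (by rw [h, mul_zero, zero_mul])⟩, p.2.2.2⟩

/-- Bilinearity of the product near a point. -/
theorem interProd_bilinear {X : Scheme.{u}} (δ : X → ℤ) (n : ℤ) (α β : X → ℤ) (x : X) {ι κ : Type*}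
    (I : Finset ι) (J : Finset κ) (a : ι → ℤ) (b : κ → ℤ) (u : ι → X → ℤ) (v : κ → X → ℤ)
    (hu : ∀ i ∈ I, {z | z ⤳ x ∧ u i z ≠ 0}.Finite) (hv : ∀ j ∈ J, {z | z ⤳ x ∧ v j z ≠ 0}.Finite)
    (hα : ∀ z, z ⤳ x → α z = ∑ i ∈ I, a i * u i z) (hβ : ∀ z, z ⤳ x → β z = ∑ j ∈ J, b j * v j z) :
    IntMult.interProd δ n α β x = ∑ i ∈ I, ∑ j ∈ J, a i * b j * IntMult.interProd δ n (u i) (v j) x := by
  classical
  let S := (I.finite_toSet.biUnion hu).toFinset
  let T := (J.finite_toSet.biUnion hv).toFinset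
  have hS : ∀ z ∈ S, z ⤳ x := fun z hz => by
    obtain ⟨i, -, hi⟩ := Set.mem_iUnion₂.1 ((Set.Finite.mem_toFinset _).1 hz)
    exact hi.1
  have hT : ∀ z ∈ T, z ⤳ x := fun z hz => by
    obtain ⟨i, -, hi⟩ := Set.mem_iUnion₂.1 ((Set.Finite.mem_toFinset _).1 hz)
    exact hi.1
  have huS : ∀ i ∈ I, ∀ z, z ⤳ x → u i z ≠ 0 → z ∈ S := fun i hi z hz h =>
    (Set.Finite.mem_toFinset _).2 (Set.mem_iUnion₂.2 ⟨i, hi, hz, h⟩)
  have hvT : ∀ j ∈ J, ∀ z, z ⤳ x → v j z ≠ 0 → z ∈ T := fun i hi z hz h =>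
    (Set.Finite.mem_toFinset _).2 (Set.mem_iUnion₂.2 ⟨i, hi, hz, h⟩)
  have hαS : ∀ z, z ⤳ x → α z ≠ 0 → z ∈ S := fun z hz h => by
    by_contra hzS
    refine h ((hα z hz).trans (Finset.sum_eq_zero fun i hi => ?_))
    rw [not_not.1 fun h' => hzS (huS i hi z hz h'), mul_zero]
  have hβT : ∀ z, z ⤳ x → β z ≠ 0 → z ∈ T := fun z hz h => by
    by_contra hzS
    refine h ((hβ z hz).trans (Finset.sum_eq_zero fun i hi => ?_))
    rw [not_not.1 fun h' => hzS (hvT i hi z hz h'), mul_zero]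
  rw [interProd_eq_sum δ n α β x S T hS hT hαS hβT]
  calc
    _ = ∑ p ∈ S, ∑ q ∈ T, ∑ i ∈ I, ∑ j ∈ J, a i * b j *
        (if δ p + δ q - n = δ x then u i p * v j q * IntMult.mult (IntMult.ptIdeal p) (IntMult.ptIdeal q) x
          else 0) := by
      refine Finset.sum_congr rfl fun p hp => Finset.sum_congr rfl fun q hq => ?_
      rw [hα p (hS p hp), hβ q (hT q hq)]
      split_ifs
      · rw [Finset.sum_mul_sum, Finset.sum_mul]
        refine Finset.sum_congr rfl fun i _ => ?_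
        rw [Finset.sum_mul]
        exact Finset.sum_congr rfl fun j _ => by ring
      · simp
    _ = _ := by
      refine ((Finset.sum_congr rfl fun p _ => Finset.sum_comm).trans Finset.sum_comm).trans
        (Finset.sum_congr rfl fun i hi => ?_)
      refine ((Finset.sum_congr rfl fun p _ => Finset.sum_comm).trans Finset.sum_comm).trans
        (Finset.sum_congr rfl fun j hj => ?_)
      rw [interProd_eq_sum δ n _ _ x S T hS hT (huS _ hi) (hvT _ hj), Finset.mul_sum]
      exact Finset.sum_congr rfl fun p _ => (Finset.mul_sum _ _ _).symm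

/-- The structure sheaf of the closure of a point. -/
noncomputable def clSheaf {X : Scheme.{u}} (ξ : X) : X.Modules :=
  (Coh.push (Cyc90.clι ξ)).obj (Coh.structureModule (Cyc90.cl ξ))

theorem isCoh_clSheaf {X : Scheme.{u}} [IsLocallyNoetherian X] (ξ : X) : Coh.IsCoh (clSheaf ξ) := by
  haveI : IsLocallyNoetherian (Cyc90.cl ξ) := LocallyOfFiniteType.isLocallyNoetherian (Cyc90.clι ξ)
  exact Cyc90.isCoh_push_of_isFinite _ _ QC70.isCoh_unit

theorem specializes_of_clSheaf {X : Scheme.{u}} [IsLocallyNoetherian X] {ξ x : X}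
    (h : Nontrivial ((clSheaf ξ).presheaf.stalk x)) : ξ ⤳ x := by
  haveI : IsLocallyNoetherian (Cyc90.cl ξ) := LocallyOfFiniteType.isLocallyNoetherian (Cyc90.clι ξ)
  haveI : (Coh.structureModule (Cyc90.cl ξ)).IsFiniteType := QC70.isCoh_unit.2
  obtain ⟨z, hz⟩ := QC70.support_pushforward_subset (Cyc90.clι ξ) (Coh.structureModule (Cyc90.cl ξ))
    (not_subsingleton_iff_nontrivial.2 h)
  rw [← hz]
  exact specializes_iff_mem_closure.2 ((Cyc90.range_clι ξ).le ⟨z, rfl⟩)

theorem sheafFun_clSheaf {X : Scheme.{u}} [IsLocallyNoetherian X] (δ : X → ℤ) (hX : Cyc.IsDimFun X δ)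
    (ξ : X) : Cyc.sheafFun δ (δ ξ) (clSheaf ξ) = Set.indicator {ξ} 1 := by
  classical
  funext x
  by_cases hx : x = ξ
  · subst hx
    rw [Set.indicator_of_mem (Set.mem_singleton _), clSheaf, ← Cyc90.subschemeFun_eq_sheafFun]
    conv_lhs => arg 4; rw [← Cyc90.clι_genericPoint x]
    simp only [Cyc.subschemeFun, Cyc90.clι_genericPoint, if_true]
    rw [show {z : Cyc90.cl x | Cyc90.clι x z = x} = {genericPoint (Cyc90.cl x)} from Set.ext fun z =>
      ⟨fun h => (Cyc90.clι x).isClosedEmbedding.injective (h.trans (Cyc90.clι_genericPoint x).symm),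
        fun h => h ▸ Cyc90.clι_genericPoint x⟩, finsum_mem_singleton]
    rw [show Module.length ((Cyc90.cl x).presheaf.stalk (genericPoint (Cyc90.cl x)))
        ((Cyc90.cl x).presheaf.stalk (genericPoint (Cyc90.cl x))) = 1 from
      Module.length_eq_one_iff.2 (inferInstanceAs
        (IsSimpleModule (Cyc90.cl x).functionField (Cyc90.cl x).functionField))]
    simp
  · rw [Set.indicator_of_notMem (by simpa using hx), Cyc.sheafFun]
    split_ifs with h
    · by_contra hne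
      have hnt : Nontrivial ((clSheaf ξ).presheaf.stalk x) := not_subsingleton_iff_nontrivial.1 fun hs =>
        hne (by simp [Module.length_eq_zero (M := (clSheaf ξ).presheaf.stalk x)])
      have := (hX ξ x (specializes_of_clSheaf hnt) (Ne.symm hx)).1
      omega
    · rfl

theorem finite_sheafFun {X : Scheme.{u}} [IsLocallyNoetherian X] (δ : X → ℤ) (hX : Cyc.IsDimFun X δ) (k : ℤ)
    (F : X.Modules) (hF : Coh.IsCoh F) (hk : ∀ x : X, Nontrivial (F.presheaf.stalk x) → δ x ≤ k) (x : X) :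
    {z | z ⤳ x ∧ Cyc.sheafFun δ k F z ≠ 0}.Finite := by
  haveI : F.IsQuasicoherent := hF.1
  haveI : F.IsFiniteType := hF.2
  obtain ⟨U, hU⟩ := Div89.exists_affine_mem x
  haveI := QC70.finite_sections_of_isFiniteType F U.2
  haveI : IsNoetherianRing Γ(X, U.1) := IsLocallyNoetherian.component_noetherian U
  classical
  let φ : X → Ideal Γ(X, U.1) := fun z => if h : z ∈ U.1 then Div89.primeAt U z h else ⊥
  refine Set.Finite.of_finite_image (f := φ) ((Ideal.finite_minimalPrimes_of_isNoetherianRing _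
    (Module.annihilator Γ(X, U.1) Γ(F, U.1))).subset ?_) ?_
  · rintro _ ⟨z, ⟨hzx, hz⟩, rfl⟩
    have hzU := hzx.mem_open U.1.isOpen hU
    rw [show φ z = Div89.primeAt U z hzU from dif_pos hzU]
    have hzk : δ z = k := by
      by_contra h
      exact hz (by simp [Cyc.sheafFun, h])
    have hzs : Nontrivial (F.presheaf.stalk z) := not_subsingleton_iff_nontrivial.1 fun hs =>
      hz (by simp [Cyc.sheafFun, hzk, Module.length_eq_zero (M := F.presheaf.stalk z)])
    have hzm : U.2.primeIdealOf ⟨z, hzU⟩ ∈ Module.support Γ(X, U.1) Γ(F, U.1) :=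
      (QCSupp72.mem_support_iff F U.2 hzU).2 (not_subsingleton_iff_nontrivial.2 hzs)
    refine ⟨⟨inferInstance, Module.mem_support_iff_of_finite.1 hzm⟩, fun v hv hvz => ?_⟩
    haveI := hv.1
    obtain ⟨y, hy, rfl⟩ := Div89.exists_point U v
    have hys : Nontrivial (F.presheaf.stalk y) := not_subsingleton_iff_nontrivial.1
      ((QCSupp72.mem_support_iff F U.2 hy).1 (Module.mem_support_iff_of_finite.2 hv.2))
    by_cases h : y = z
    · subst h; exact le_rfl
    · have := (hX y z ((Div89.specializes_iff_primeAt_le U hzU hy).2 hvz) h).1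
      have := hk y hys
      omega
  · intro a ha b hb hab
    rw [show φ a = _ from dif_pos (ha.1.mem_open U.1.isOpen hU), show φ b = _ from dif_pos (hb.1.mem_open U.1.isOpen hU)] at hab
    exact Div89.primeAt_inj U _ _ hab

/-- Pulling back the product of two cycles. -/
theorem interProd_pullFun {K : Type u} [Field K] (X Y : Scheme.{u}) (f : X ⟶ Y)
    (gX : X ⟶ Spec (CommRingCat.of K)) (gY : Y ⟶ Spec (CommRingCat.of K)) [Smooth gX] [IsSeparated gX]
    [IsIntegral X] [Smooth gY] [IsSeparated gY] [IsIntegral Y] [Flat f] [LocallyOfFiniteType f]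
    (δX : X → ℤ) (δY : Y → ℤ) (hX : Cyc.IsSetup X δX) (hY : Cyc.IsSetup Y δY)
    (hδX : Cyc.DeltaCompat gX δX (fun _ => 0)) (hδY : Cyc.DeltaCompat gY δY (fun _ => 0))
    (hδ : Cyc.DeltaCompat f δX δY) (n m : ℤ) (hn : δX (genericPoint X) = n) (hm : δY (genericPoint Y) = m)
    (e : ℕ) (he : (e : ℤ) = n - m) (hrel : Cyc.HasRelDim f e) (r s : ℤ) (α β : AlgebraicCycle Y ℤ)
    (hα : α ∈ Cyc.Zk Y δY r) (hβ : β ∈ Cyc.Zk Y δY s) (hprop : IntMult.IntersectProperly δY m ⇑α ⇑β) :
    IntMult.IntersectProperly δX n (Cyc.pullFun f δX δY e ⇑α) (Cyc.pullFun f δX δY e ⇑β) ∧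
      Cyc.pullFun f δX δY e (IntMult.interProd δY m ⇑α ⇑β) =
        IntMult.interProd δX n (Cyc.pullFun f δX δY e ⇑α) (Cyc.pullFun f δX δY e ⇑β) := by
  classical
  haveI := hX.1
  haveI := hY.1
  have hc := Cyc90.shiftAt_of_hasRelDim f hrel hδ
  have hne : ∀ (γ : Y → ℤ) (x : X), Cyc.pullFun f δX δY e γ x ≠ 0 → δX x = δY (f x) + e ∧ γ (f x) ≠ 0 := by
    intro γ x h
    simp only [Cyc.pullFun] at h
    split_ifs at h with h1
    · exact ⟨h1, fun h0 => h (by rw [h0, zero_mul])⟩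
    · exact absurd rfl h
  refine ⟨fun ξ η ζ hξ hη hξζ hηζ => ?_, funext fun x => ?_⟩
  · obtain ⟨h1, h1'⟩ := hne _ ξ hξ
    obtain ⟨h2, h2'⟩ := hne _ η hη
    have h3 := hprop _ _ (f ζ) h1' h2' (hξζ.map f.continuous) (hηζ.map f.continuous)
    have h4 := (Cyc90.delta_le_of_shift f hX.2.2 hc ζ).1
    omega
  have hfinsupp : ∀ (γ : AlgebraicCycle Y ℤ) (y : Y), {z | z ⤳ y ∧ γ z ≠ 0}.Finite := fun γ y => by
    obtain ⟨t, ht, hfin⟩ := γ.supportLocallyFiniteWithinDomain' y trivial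
    obtain ⟨o, hot, ho, hyo⟩ := mem_nhds_iff.1 ht
    exact hfin.subset fun z hz => ⟨hot (hz.1.mem_open ho hyo), hz.2⟩
  let A₀ := (hfinsupp α (f x)).toFinset
  let B₀ := (hfinsupp β (f x)).toFinset
  have hA : ∀ ξ ∈ A₀, ξ ⤳ f x ∧ α ξ ≠ 0 ∧ δY ξ = r := fun ξ h => by
    obtain ⟨h1, h2⟩ := (Set.Finite.mem_toFinset _).1 h
    exact ⟨h1, h2, by_contra fun h3 => h2 (hα ξ h3)⟩
  have hB : ∀ ξ ∈ B₀, ξ ⤳ f x ∧ β ξ ≠ 0 ∧ δY ξ = s := fun ξ h => by
    obtain ⟨h1, h2⟩ := (Set.Finite.mem_toFinset _).1 h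
    exact ⟨h1, h2, by_contra fun h3 => h2 (hβ ξ h3)⟩
  have hdecY : ∀ (γ : AlgebraicCycle Y ℤ) (z : Y), z ⤳ f x →
      γ z = ∑ ξ ∈ (hfinsupp γ (f x)).toFinset, γ ξ * Set.indicator ({ξ} : Set Y) 1 z := fun γ z hz => by
    simp only [Set.indicator_apply, Set.mem_singleton_iff, Pi.one_apply, mul_ite, mul_one, mul_zero,
      Finset.sum_ite_eq, Set.Finite.mem_toFinset, Set.mem_setOf_eq, hz, true_and]
    by_cases h : γ z = 0
    · simp [h]
    · simp [h]
  have hdecX : ∀ (γ : AlgebraicCycle Y ℤ) (z : X), z ⤳ x →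
      Cyc.pullFun f δX δY e ⇑γ z = ∑ ξ ∈ (hfinsupp γ (f x)).toFinset,
        γ ξ * Cyc.pullFun f δX δY e (Set.indicator ({ξ} : Set Y) 1) z := fun γ z hz => by
    simp only [Cyc.pullFun]
    split_ifs
    · rw [hdecY γ (f z) (hz.map f.continuous), Finset.sum_mul]
      exact Finset.sum_congr rfl fun _ _ => mul_assoc _ _ _
    · simp
  have hcl : ∀ ξ : Y, ∀ y, Nontrivial ((clSheaf ξ).presheaf.stalk y) → δY y ≤ δY ξ := fun ξ y h => by
    by_cases he : ξ = y
    · rw [he]
    · exact (hY.2.2 ξ y (specializes_of_clSheaf h) he).1.le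
  have hpull : ∀ ξ : Y, Cyc.pullFun f δX δY e (Set.indicator ({ξ} : Set Y) 1) =
      Cyc.sheafFun δX (δY ξ + e) ((Scheme.Modules.pullback f).obj (clSheaf ξ)) ∧
      ∀ z, {w | w ⤳ z ∧ Cyc.pullFun f δX δY e (Set.indicator ({ξ} : Set Y) 1) w ≠ 0}.Finite := fun ξ => by
    haveI : (clSheaf ξ).IsQuasicoherent := (isCoh_clSheaf ξ).1
    obtain ⟨h1, h2⟩ := Cyc90.pullFun_sheafFun f (clSheaf ξ) hX.2.2 hc (δY ξ) (hcl ξ)
    rw [sheafFun_clSheaf δY hY.2.2 ξ] at h2
    refine ⟨h2, fun z => ?_⟩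
    rw [h2]
    exact finite_sheafFun δX hX.2.2 _ _ (ConsProp93.isCoh_pullback f (isCoh_clSheaf ξ)) h1 z
  rw [interProd_bilinear δX n _ _ x A₀ B₀ α β
    (fun ξ => Cyc.pullFun f δX δY e (Set.indicator ({ξ} : Set Y) 1))
    (fun ξ => Cyc.pullFun f δX δY e (Set.indicator ({ξ} : Set Y) 1))
    (fun ξ _ => (hpull ξ).2 x) (fun ξ _ => (hpull ξ).2 x) (hdecX α) (hdecX β)]
  have hL : Cyc.pullFun f δX δY e (IntMult.interProd δY m ⇑α ⇑β) x = ∑ ξ ∈ A₀, ∑ η ∈ B₀, α ξ * β η *
      Cyc.pullFun f δX δY e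
        (IntMult.interProd δY m (Set.indicator ({ξ} : Set Y) 1) (Set.indicator ({η} : Set Y) 1)) x := by
    simp only [Cyc.pullFun]
    split_ifs
    · rw [interProd_bilinear δY m _ _ (f x) A₀ B₀ α β (fun ξ => Set.indicator ({ξ} : Set Y) 1)
        (fun ξ => Set.indicator ({ξ} : Set Y) 1)
        (fun ξ _ => (Set.finite_singleton ξ).subset fun z hz => Set.mem_of_indicator_ne_zero hz.2)
        (fun ξ _ => (Set.finite_singleton ξ).subset fun z hz => Set.mem_of_indicator_ne_zero hz.2)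
        (hdecY α) (hdecY β), Finset.sum_mul]
      refine Finset.sum_congr rfl fun _ _ => ?_
      rw [Finset.sum_mul]
      exact Finset.sum_congr rfl fun _ _ => mul_assoc _ _ _
    · simp
  rw [hL]
  refine Finset.sum_congr rfl fun ξ hξ => Finset.sum_congr rfl fun η hη => ?_
  obtain ⟨-, hξ0, hξr⟩ := hA ξ hξ
  obtain ⟨-, hη0, hηs⟩ := hB η hη
  congr 1
  obtain ⟨-, h⟩ := interProd_pullback X Y f gX gY δX δY hX hY hδX hδY hδ n m hn hm e he hrel
    (clSheaf ξ) (clSheaf η) (isCoh_clSheaf ξ) (isCoh_clSheaf η) (δY ξ) (δY η) (hcl ξ) (hcl η)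
    (fun y hyξ hyη => hprop ξ η y hξ0 hη0 (specializes_of_clSheaf hyξ) (specializes_of_clSheaf hyη))
  rw [sheafFun_clSheaf δY hY.2.2, sheafFun_clSheaf δY hY.2.2, ← (hpull ξ).1, ← (hpull η).1] at h
  exact congrFun h x

end Groth.Agent.IntMult12
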