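import Groth.Agent.IntMult12.DiagLocal

/-!
# Reduction to the diagonal, for intersection multiplicities
-/

set_option autoImplicit false
set_option linter.style.haveILetI false

universe u

open CategoryTheory CategoryTheory.Limits AlgebraicGeometry IsLocalRing
open scoped TensorProduct

attribute [local instance] HasDerivedCategory.standard

namespace Groth.Agent.IntMult12

variable {K : Type u} [Field K]

theorem stalkIdeal_sup {X : Scheme.{u}} (I J : X.IdealSheafData) (x : X) :
    IntMult.stalkIdeal (I ⊔ J) x = IntMult.stalkIdeal I x ⊔ IntMult.stalkIdeal J x := by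
  obtain ⟨U, hU⟩ := Div89.exists_affine_mem x
  simp only [stalkIdeal_eq, Div89.stalkIdeal_eq _ U x hU, Scheme.IdealSheafData.ideal_sup, Pi.sup_apply,
    Ideal.map_sup]

theorem stalkIdeal_comap_eq {X Y : Scheme.{u}} (φ : X ⟶ Y) (I : Y.IdealSheafData) (U : Y.affineOpens)
    (V : X.affineOpens) (e : V.1 ≤ φ ⁻¹ᵁ U.1) (x : X) (hx : x ∈ V.1) :
    IntMult.stalkIdeal (I.comap φ) x =
      (I.ideal U).map ((X.presheaf.germ V.1 x hx).hom.comp (φ.appLE U.1 V.1 e).hom) := by
  rw [stalkIdeal_eq, Div89.stalkIdeal_comap, Div89.stalkIdeal_eq I U (φ x) (e hx), Ideal.map_map]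
  congr 1
  refine RingHom.ext fun t => ?_
  show (φ.stalkMap x).hom ((Y.presheaf.germ U.1 (φ x) (e hx)).hom t) =
    (X.presheaf.germ V.1 x hx).hom ((φ.appLE U.1 V.1 e).hom t)
  erw [Scheme.Hom.germ_stalkMap_apply]
  exact (X.presheaf.germ_res_apply (homOfLE e) x hx (φ.app U.1 t)).symm

theorem mult_diagonal (X : Scheme.{u}) (f : X ⟶ Spec (CommRingCat.of K)) [Smooth f] [IsSeparated f]
    [IsIntegral X] (IV IW : X.IdealSheafData) [IsIntegral IV.subscheme] [IsIntegral IW.subscheme] (n r s : ℕ)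
    (hn : topologicalKrullDim X = n) (hr : topologicalKrullDim IV.support = r)
    (hs : topologicalKrullDim IW.support = s)
    (hprop : IntMult.ProperInt (IV.support : Set X) (IW.support : Set X) n r s) (ξ : X)
    (hξV : ξ ∈ IV.support) (hξW : ξ ∈ IW.support)
    (hmax : ∀ ξ' : X, ξ' ∈ IV.support → ξ' ∈ IW.support → ξ' ⤳ ξ → ξ' = ξ) :
    IntMult.mult IV IW ξ = IntMult.mult (pullback.map (IV.subschemeι ≫ f) (IW.subschemeι ≫ f) f f
      IV.subschemeι IW.subschemeι (𝟙 _) (Category.comp_id _) (Category.comp_id _)).ker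
      (pullback.diagonal f).ker (pullback.diagonal f ξ) := by
  obtain ⟨U, hU⟩ := Div89.exists_affine_mem ξ
  letI : Algebra K Γ(X, U.1) := (WC97.kSec f U.2).toAlgebra
  have : Algebra.FiniteType K Γ(X, U.1) := WC97.kSec_finiteType f U.2
  have : Nonempty U.1 := ⟨⟨ξ, hU⟩⟩
  have : Algebra.Smooth K Γ(X, U.1) := smooth_kSec f U
  obtain ⟨p, q, hp, hq, hmin, hP, hQ, hIV, hIW, -, hdim⟩ :=
    affineData X f IV IW n r s hn hr hs hprop ξ hξV hξW hmax U hU
  letI := Div89.stalkAlg U.1 ξ hU
  haveI := Div89.isLocalization_stalk U ξ hU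
  obtain ⟨V, e, hD, hL, hR, hpre, hΔ, hfst, hsnd⟩ := exists_chart f U
  set z := pullback.diagonal f ξ
  have hz : z ∈ V.1 := hD hU
  let μ : Γ(X, U.1) ⊗[K] Γ(X, U.1) →ₐ[K] Γ(X, U.1) := Algebra.TensorProduct.lmul' K (S := Γ(X, U.1))
  let w := Div89.primeAt U ξ hU
  haveI : (w.comap μ).IsPrime := Ideal.IsPrime.comap _
  let R : Type u := (pullback f f).presheaf.stalk z
  let germ : Γ(pullback f f, V.1) →+* (pullback f f).presheaf.stalk z :=
    ((pullback f f).presheaf.germ V.1 z hz).hom
  letI algR : Algebra (Γ(X, U.1) ⊗[K] Γ(X, U.1)) ((pullback f f).presheaf.stalk z) :=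
    (germ.comp e.symm.toRingHom).toAlgebra
  haveI : IsLocalization.AtPrime ((pullback f f).presheaf.stalk z) (w.comap μ) := by
    letI := Div89.stalkAlg V.1 z hz
    haveI := Div89.isLocalization_stalk V z hz
    have h := IsLocalization.isLocalization_of_base_ringEquiv (Div89.primeAt V z hz).primeCompl
      ((pullback f f).presheaf.stalk z) e
    rw [show (Div89.primeAt V z hz).primeCompl.map e = (w.comap μ).primeCompl by
      ext t
      constructor
      · rintro ⟨y, hy, rfl⟩ hmem
        refine hy ((mem_primeAt_appLE (pullback.diagonal f) U V hD ξ hU y).2 ?_)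
        rw [hΔ]
        exact hmem
      · intro ht
        refine ⟨e.symm t, fun hmem => ht ?_, e.apply_symm_apply t⟩
        have h' := (mem_primeAt_appLE (pullback.diagonal f) U V hD ξ hU (e.symm t)).1 hmem
        rw [hΔ, e.apply_symm_apply] at h'
        exact h'] at h
    exact h
  obtain ⟨l, -, hlK, hlreg, he, -⟩ := diag_chi p q w hmin hdim (X.presheaf.stalk ξ)
    (w.comap μ) rfl ((pullback f f).presheaf.stalk z)
  -- the ideals
  have hdiag : IntMult.stalkIdeal (pullback.diagonal f).ker z = Ideal.ofList l := by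
    rw [hlK, stalkIdeal_eq, Div89.stalkIdeal_eq _ V z hz, Scheme.Hom.ker_apply]
    have hker : RingHom.ker ((pullback.diagonal f).app V.1).hom =
        (KaehlerDifferential.ideal K Γ(X, U.1)).map e.symm.toRingHom := by
      ext t
      rw [RingHom.mem_ker, show (KaehlerDifferential.ideal K Γ(X, U.1)).map e.symm.toRingHom =
          (KaehlerDifferential.ideal K Γ(X, U.1)).comap e.toRingHom from Ideal.map_comap_of_equiv e.symm,
        Ideal.mem_comap]
      show _ ↔ μ (e t) = 0
      rw [← hΔ t, ← RingHom.mem_ker, ← RingHom.mem_ker, ker_appLE_eq _ hD hpre]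
    rw [hker, Ideal.map_map]
    rfl
  have hprod : IntMult.stalkIdeal (pullback.map (IV.subschemeι ≫ f) (IW.subschemeι ≫ f) f f
      IV.subschemeι IW.subschemeι (𝟙 _) (Category.comp_id _) (Category.comp_id _)).ker z =
      (q.map Algebra.TensorProduct.includeRight).map (algebraMap (Γ(X, U.1) ⊗[K] Γ(X, U.1)) R) ⊔
        (p.map (Algebra.TensorProduct.includeLeft : Γ(X, U.1) →ₐ[K] Γ(X, U.1) ⊗[K] Γ(X, U.1))).map
          (algebraMap (Γ(X, U.1) ⊗[K] Γ(X, U.1)) R) := by
    rw [ker_pullback_map f f IV IW, stalkIdeal_sup, stalkIdeal_comap_eq _ IV U V hL z hz,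
      stalkIdeal_comap_eq _ IW U V hR z hz, hIV, hIW, sup_comm]
    refine congrArg₂ _ ?_ ?_
    · show _ = Ideal.map _ (Ideal.map (Algebra.TensorProduct.includeRight (R := K) (A := Γ(X, U.1))
        (B := Γ(X, U.1))).toRingHom q)
      rw [Ideal.map_map]
      congr 1
      refine RingHom.ext fun t => ?_
      show germ _ = germ (e.symm _)
      exact congrArg germ (e.eq_symm_apply.2 (hsnd t))
    · show _ = Ideal.map _ (Ideal.map (Algebra.TensorProduct.includeLeft (R := K) (S := K) (A := Γ(X, U.1))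
        (B := Γ(X, U.1))).toRingHom p)
      rw [Ideal.map_map]
      congr 1
      refine RingHom.ext fun t => ?_
      show germ _ = germ (e.symm _)
      exact congrArg germ (e.eq_symm_apply.2 (hfst t))
  haveI : IsNoetherianRing (Γ(X, U.1) ⊗[K] Γ(X, U.1)) := by
    haveI : Algebra.FiniteType K (Γ(X, U.1) ⊗[K] Γ(X, U.1)) :=
      Algebra.FiniteType.trans (S := Γ(X, U.1)) inferInstance inferInstance
    exact Algebra.FiniteType.isNoetherianRing K _
  haveI : IsNoetherianRing ((pullback f f).presheaf.stalk z) :=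
    IsLocalization.isNoetherianRing (w.comap μ).primeCompl _ inferInstance
  rw [IntMult.mult, hP, hQ, he, IntMult.mult, hdiag, hprod,
    chi_eq l (Koszul19.kR_of_isWeaklyRegular _ hlreg)]

end Groth.Agent.IntMult12
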