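import Groth.Agent.IntMult12.Setup
import Groth.Agent.VarGal.AffineInter

/-!
# Dimension counts on smooth varieties
-/

set_option autoImplicit false
set_option linter.style.haveILetI false

universe u

open CategoryTheory AlgebraicGeometry

namespace Groth.Agent.IntMult12

variable {K : Type u} [Field K] {X : Scheme.{u}} (f : X ⟶ Spec (CommRingCat.of K))

theorem dim_closure_eq [LocallyOfFiniteType f] (U : X.affineOpens) {x : X} (hx : x ∈ U.1) :
    letI := (WC97.kSec f U.2).toAlgebra
    topologicalKrullDim ↥(closure ({x} : Set X)) =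
      (CAlgH2.trdegQuot K (Div89.primeAt U x hx) : ℕ) := by
  rw [WC97.topologicalKrullDim_closure f x, tdegN_eq_trdegQuot f U hx]

theorem primeAt_genericPoint [IsIntegral X] (U : X.affineOpens) (h : genericPoint X ∈ U.1) :
    Div89.primeAt U (genericPoint X) h = ⊥ := by
  have : Nonempty U.1 := ⟨⟨_, h⟩⟩
  obtain ⟨y, hy, hy0⟩ := Div89.exists_point U (⊥ : Ideal Γ(X, U.1))
  refine le_bot_iff.1 (hy0 ▸ ?_)
  exact (Div89.specializes_iff_primeAt_le U hy _).1 (genericPoint_specializes y)

include f in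
theorem ringKrullDim_stalk_le [LocallyOfFiniteType f] [IsIntegral X] (n : ℕ)
    (hn : topologicalKrullDim X = n) (x : X) :
    ∃ d : ℕ, ringKrullDim (X.presheaf.stalk x) = d ∧ d ≤ n := by
  obtain ⟨U, hU⟩ := Div89.exists_affine_mem x
  letI : Algebra K Γ(X, U.1) := (WC97.kSec f U.2).toAlgebra
  have : Algebra.FiniteType K Γ(X, U.1) := WC97.kSec_finiteType f U.2
  have : Nonempty U.1 := ⟨⟨x, hU⟩⟩
  have hg := (genericPoint_specializes x).mem_open U.1.isOpen hU
  have h1 := dim_closure_eq f U hg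
  rw [primeAt_genericPoint U hg, (genericPoint_spec X).def,
    IsHomeomorph.topologicalKrullDim_eq _ (Homeomorph.Set.univ X).isHomeomorph, hn] at h1
  letI := Div89.stalkAlg U.1 x hU
  haveI := Div89.isLocalization_stalk U x hU
  obtain ⟨d, hd, hd'⟩ := ringKrullDim_quot_localization (k := K) (R := X.presheaf.stalk x)
    (Div89.primeAt U x hU) ⊥ bot_le
  rw [Ideal.map_bot, ringKrullDim_eq_of_ringEquiv (RingEquiv.quotientBot _)] at hd
  refine ⟨d, hd, ?_⟩
  have : n = CAlgH2.trdegQuot K (⊥ : Ideal Γ(X, U.1)) := by exact_mod_cast h1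
  omega

/-- components of intersections on a smooth variety have at least the expected dimension -/
theorem dim_component_ge [Smooth f] [IsIntegral X] (n r s : ℕ) (hn : topologicalKrullDim X = n)
    (V W : Set X) (hVc : IsClosed V) (hVi : IsIrreducible V) (hWc : IsClosed W)
    (hWi : IsIrreducible W) (hr : topologicalKrullDim ↥V = r) (hs : topologicalKrullDim ↥W = s)
    (Z : Set ↥(V ∩ W)) (hZ : Z ∈ irreducibleComponents ↥(V ∩ W)) :
    ((r + s : ℕ) : WithBot ℕ∞) ≤ topologicalKrullDim ↥Z + n := by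
  obtain ⟨η, hη, hmax, hdimZ, -⟩ := VarGal.exists_maximal_of_component (hVc.inter hWc) Z hZ
  obtain ⟨U, hU⟩ := Div89.exists_affine_mem η
  letI : Algebra K Γ(X, U.1) := (WC97.kSec f U.2).toAlgebra
  have : Algebra.FiniteType K Γ(X, U.1) := WC97.kSec_finiteType f U.2
  have : Nonempty U.1 := ⟨⟨η, hU⟩⟩
  obtain ⟨ηV, hηV⟩ : ∃ y, IsGenericPoint y V := QuasiSober.sober hVi hVc
  obtain ⟨ηW, hηW⟩ : ∃ y, IsGenericPoint y W := QuasiSober.sober hWi hWc
  have hVU := (hηV.specializes hη.1).mem_open U.1.isOpen hU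
  have hWU := (hηW.specializes hη.2).mem_open U.1.isOpen hU
  have hgU := (genericPoint_specializes η).mem_open U.1.isOpen hU
  let p := Div89.primeAt U ηV hVU
  let q := Div89.primeAt U ηW hWU
  let w := Div89.primeAt U η hU
  have : Algebra.IsSmoothAt K w := isSmoothAt_kSec f U w
  have hw : w ∈ (p ⊔ q).minimalPrimes := by
    refine ⟨⟨inferInstance, sup_le ((Div89.specializes_iff_primeAt_le U hU hVU).1 (hηV.specializes hη.1))
      ((Div89.specializes_iff_primeAt_le U hU hWU).1 (hηW.specializes hη.2))⟩, ?_⟩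
    rintro v ⟨hv, hpqv⟩ hvw
    obtain ⟨y, hy, rfl⟩ := Div89.exists_point U v
    have hyV : y ∈ V := hηV.def ▸ specializes_iff_mem_closure.1
      ((Div89.specializes_iff_primeAt_le U hy hVU).2 (le_sup_left.trans hpqv))
    have hyW : y ∈ W := hηW.def ▸ specializes_iff_mem_closure.1
      ((Div89.specializes_iff_primeAt_le U hy hWU).2 (le_sup_right.trans hpqv))
    obtain rfl := hmax y ⟨hyV, hyW⟩ ((Div89.specializes_iff_primeAt_le U hU hy).2 hvw)
    exact le_rfl
  obtain ⟨x, a, ha, hax⟩ := exists_span_kaehler (k := K) w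
  have hineq := trdegQuot_add_le x p q w hw ha hax
  have h1 := dim_closure_eq f U hVU
  rw [hηV.def, hr] at h1
  have h2 := dim_closure_eq f U hWU
  rw [hηW.def, hs] at h2
  have h3 := dim_closure_eq f U hgU
  rw [primeAt_genericPoint U hgU, (genericPoint_spec X).def,
    IsHomeomorph.topologicalKrullDim_eq _ (Homeomorph.Set.univ X).isHomeomorph, hn] at h3
  rw [hdimZ, dim_closure_eq f U hU, ← Nat.cast_add, Nat.cast_le]
  have e1 : r = CAlgH2.trdegQuot K p := by exact_mod_cast h1
  have e2 : s = CAlgH2.trdegQuot K q := by exact_mod_cast h2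
  have e3 : n = CAlgH2.trdegQuot K (⊥ : Ideal Γ(X, U.1)) := by exact_mod_cast h3
  rw [e1, e2, e3]
  exact hineq

end Groth.Agent.IntMult12
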