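import Groth.Agent.IntMult12.ChiDev
import Groth.Agent.IntMult12.DiagMult
import Groth.Agent.IntMult12.Dim
import Groth.Agent.Div89.Stalk
import Groth.Agent.QCSupp72.Basic
import Groth.Agent.QC70.FiniteType
import Groth.Agent.WC97.Cycles
import Groth.Prelude.Def_Cyc

/-!
# The product of the cycles of two coherent sheaves meeting properly
-/

set_option autoImplicit false
set_option linter.style.haveILetI false

universe u

open CategoryTheory CategoryTheory.Limits AlgebraicGeometry IsLocalRing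
open scoped TensorProduct

attribute [local instance] HasDerivedCategory.standard

namespace Groth.Agent.IntMult12

open CAlgH2 (trdegQuot)

/-- The ideal of the closure of a point on an affine open containing it is its prime. -/
theorem ptIdeal_ideal {X : Scheme.{u}} (U : X.affineOpens) (y : X) (hy : y ∈ U.1) :
    (IntMult.ptIdeal y).ideal U = Div89.primeAt U y hy := by
  rw [IntMult.ptIdeal, Scheme.IdealSheafData.vanishingIdeal_ideal]
  have h : U.2.fromSpec ⁻¹' closure ({y} : Set X) =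
      closure {U.2.primeIdealOf ⟨y, hy⟩} := by
    rw [U.2.fromSpec.isOpenEmbedding.isOpenMap.preimage_closure_eq_closure_preimage
      U.2.fromSpec.continuous]
    refine congrArg closure (Set.ext fun z => ?_)
    simp only [Set.mem_singleton_iff, Set.mem_preimage]
    exact ⟨fun h => U.2.fromSpec.isOpenEmbedding.injective
        (h.trans (U.2.fromSpec_primeIdealOf ⟨y, hy⟩).symm),
      fun h => h ▸ U.2.fromSpec_primeIdealOf ⟨y, hy⟩⟩
  exact (congrArg PrimeSpectrum.vanishingIdeal h).trans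
    ((PrimeSpectrum.vanishingIdeal_closure _).trans (PrimeSpectrum.vanishingIdeal_singleton _))

/-- The length of a stalk of a quasi-coherent module is the local length of its sections. -/
theorem length_stalk_eq_locLen {X : Scheme.{u}} (F : X.Modules) (hF : Coh.IsQCoh F) (U : X.affineOpens)
    (y : X) (hy : y ∈ U.1) :
    Module.length (X.presheaf.stalk y) (F.presheaf.stalk y) =
      Len90.locLen (Div89.primeAt U y hy) Γ(F, U.1) := by
  let p := Div89.primeAt U y hy
  letI := Div89.stalkModule F U.1 y hy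
  letI := Div89.stalkAlg U.1 y hy
  haveI := Div89.isLocalization_stalk U y hy
  haveI := Div89.isScalarTower_stalk F U.1 y hy
  haveI := Div89.isLocalizedModule_germLin F hF U y hy
  let σ : Localization.AtPrime p →+* X.presheaf.stalk y :=
    (IsLocalization.algEquiv p.primeCompl (Localization.AtPrime p) (X.presheaf.stalk y)).toRingEquiv.toRingHom
  haveI : RingHomSurjective σ :=
    ⟨(IsLocalization.algEquiv p.primeCompl (Localization.AtPrime p) (X.presheaf.stalk y)).surjective⟩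
  letI : Module (Localization.AtPrime p) (F.presheaf.stalk y) := Module.compHom _ σ
  haveI : IsScalarTower Γ(X, U.1) (Localization.AtPrime p) (F.presheaf.stalk y) :=
    IsScalarTower.of_algebraMap_smul fun r z => by
      show σ (algebraMap _ (Localization.AtPrime p) r) • z = r • z
      rw [show σ (algebraMap _ (Localization.AtPrime p) r) = algebraMap _ (X.presheaf.stalk y) r from
        (IsLocalization.algEquiv p.primeCompl (Localization.AtPrime p) (X.presheaf.stalk y)).commutes r,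
        algebraMap_smul]
  have e1 : LocalizedModule p.primeCompl Γ(F, U.1) ≃ₗ[Localization.AtPrime p] F.presheaf.stalk y :=
    (IsLocalizedModule.iso p.primeCompl (Div89.germLin F U.1 y hy)).extendScalarsOfIsLocalization
      p.primeCompl (Localization.AtPrime p)
  rw [Len90.locLen, e1.length_eq]
  exact (length_eq_of_semilinear
    ({ toFun := id, map_add' := fun _ _ => rfl, map_smul' := fun _ _ => rfl } :
      F.presheaf.stalk y →ₛₗ[σ] F.presheaf.stalk y) Function.bijective_id).symm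

/-- `[F]_r · [G]_s` for coherent sheaves with properly meeting supports on a nonsingular variety. -/
theorem interProd_sheafFun {K : Type u} [Field K] (X : Scheme.{u}) (f : X ⟶ Spec (CommRingCat.of K))
    [Smooth f] [IsSeparated f] [IsIntegral X] (δ : X → ℤ) (hX : Cyc.IsSetup X δ)
    (hδ : Cyc.DeltaCompat f δ (fun _ => 0)) (n : ℤ) (hn : δ (genericPoint X) = n)
    (F G : X.Modules) (hF : Coh.IsCoh F) (hG : Coh.IsCoh G) (r s : ℤ)
    (hr : ∀ x : X, Nontrivial (F.presheaf.stalk x) → δ x ≤ r)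
    (hs : ∀ x : X, Nontrivial (G.presheaf.stalk x) → δ x ≤ s)
    (hrs : ∀ x : X, Nontrivial (F.presheaf.stalk x) → Nontrivial (G.presheaf.stalk x) → δ x ≤ r + s - n) :
    IntMult.IntersectProperly δ n (Cyc.sheafFun δ r F) (Cyc.sheafFun δ s G) ∧
      ∀ ζ : X, IntMult.interProd δ n (Cyc.sheafFun δ r F) (Cyc.sheafFun δ s G) ζ =
        if δ ζ = r + s - n then IntMult.chi ↑(X.presheaf.stalk ζ) ↑(F.presheaf.stalk ζ)
          ↑(G.presheaf.stalk ζ) else 0 := by
  classical
  haveI := hX.1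
  haveI : F.IsQuasicoherent := hF.1
  haveI : F.IsFiniteType := hF.2
  haveI : G.IsQuasicoherent := hG.1
  haveI : G.IsFiniteType := hG.2
  have hne : ∀ (H : X.Modules) (k : ℤ) (x : X), Cyc.sheafFun δ k H x ≠ 0 →
      δ x = k ∧ Nontrivial (H.presheaf.stalk x) := by
    intro H k x hx
    simp only [Cyc.sheafFun] at hx
    split_ifs at hx with h
    · refine ⟨h, not_subsingleton_iff_nontrivial.1 fun hsub => hx ?_⟩
      rw [Module.length_eq_zero (M := H.presheaf.stalk x)]; rfl
    · exact absurd rfl hx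
  have hspec : ∀ (H : X.Modules) [H.IsQuasicoherent] {x y : X}, x ⤳ y →
      Nontrivial (H.presheaf.stalk x) → Nontrivial (H.presheaf.stalk y) := fun H _ x y h hx =>
    not_subsingleton_iff_nontrivial.1
      (QCSupp72.support_stableUnderSpecialization H h (not_subsingleton_iff_nontrivial.2 hx))
  refine ⟨fun ξ η ζ hξ hη hξζ hηζ => ?_, fun ζ => ?_⟩
  · obtain ⟨hξr, hξF⟩ := hne F r ξ hξ
    obtain ⟨hηs, hηG⟩ := hne G s η hη
    rw [hξr, hηs]
    exact hrs ζ (hspec F hξζ hξF) (hspec G hηζ hηG)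
  rw [IntMult.interProd]
  split_ifs with hζ
  swap
  · refine finsum_eq_zero_of_forall_eq_zero fun t => ?_
    by_cases h1 : Cyc.sheafFun δ r F t.1.1 = 0
    · rw [h1, zero_mul, zero_mul]
    by_cases h2 : Cyc.sheafFun δ s G t.1.2 = 0
    · rw [h2, mul_zero, zero_mul]
    have := t.2.2.2
    rw [(hne F r _ h1).1, (hne G s _ h2).1] at this
    exact absurd this.symm hζ
  -- the affine chart
  obtain ⟨U, hU⟩ := Div89.exists_affine_mem ζ
  letI : Algebra K Γ(X, U.1) := (WC97.kSec f U.2).toAlgebra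
  haveI : Algebra.FiniteType K Γ(X, U.1) := WC97.kSec_finiteType f U.2
  haveI : Nonempty U.1 := ⟨⟨ζ, hU⟩⟩
  haveI : Algebra.Smooth K Γ(X, U.1) := smooth_kSec f U
  haveI : IsNoetherianRing Γ(X, U.1) := IsLocallyNoetherian.component_noetherian U
  haveI : Module.Finite Γ(X, U.1) Γ(F, U.1) := QC70.finite_sections_of_isFiniteType F U.2
  haveI : Module.Finite Γ(X, U.1) Γ(G, U.1) := QC70.finite_sections_of_isFiniteType G U.2
  let S := Γ(X, U.1)
  choose pt hpt hptp using fun p : PrimeSpectrum Γ(X, U.1) => Div89.exists_point U p.asIdeal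
  have htr : ∀ (y : X) (hy : y ∈ U.1), δ y = (trdegQuot K (Div89.primeAt U y hy) : ℤ) := fun y hy => by
    rw [WC97.delta_eq_pdim f δ hδ, WC97.pdim_eq f, tdegN_eq_trdegQuot f U hy]
  have hδpt : ∀ p : PrimeSpectrum Γ(X, U.1), δ (pt p) = (trdegQuot K p.asIdeal : ℤ) := fun p => by
    rw [htr _ (hpt p), hptp p]
  have hspecle : ∀ p p' : PrimeSpectrum Γ(X, U.1), p.asIdeal ≤ p'.asIdeal → pt p ⤳ pt p' :=
    fun p p' h => (Div89.specializes_iff_primeAt_le U (hpt p') (hpt p)).2 (by rw [hptp, hptp]; exact h)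
  have hsupp : ∀ (H : X.Modules) [H.IsQuasicoherent] (p : PrimeSpectrum Γ(X, U.1)),
      p ∈ Module.support Γ(X, U.1) Γ(H, U.1) ↔ Nontrivial (H.presheaf.stalk (pt p)) := fun H _ p => by
    have h := QCSupp72.mem_support_iff H U.2 (hpt p)
    rw [show U.2.primeIdealOf ⟨pt p, hpt p⟩ = p from PrimeSpectrum.ext (hptp p)] at h
    exact h.trans not_subsingleton_iff_nontrivial
  have hminsupp : ∀ (H : X.Modules) [H.IsQuasicoherent] (k : ℤ),
      (∀ x : X, Nontrivial (H.presheaf.stalk x) → δ x ≤ k) →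
      ∀ p : PrimeSpectrum Γ(X, U.1), δ (pt p) = k →
      ∀ p' ∈ Module.support Γ(X, U.1) Γ(H, U.1), p'.asIdeal ≤ p.asIdeal → p' = p := by
    intro H _ k hk p hp p' hp' hle
    have h1 := hk _ ((hsupp H p').1 hp')
    by_cases hyy : pt p' = pt p
    · apply PrimeSpectrum.ext
      rw [← hptp p', ← hptp p]
      simp only [hyy]
    · have := (hX.2.2 _ _ (hspecle p' p hle) hyy).1
      omega
  let w := Div89.primeAt U ζ hU
  let A : Type u := X.presheaf.stalk ζ
  letI := Div89.stalkAlg U.1 ζ hU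
  haveI : IsLocalization.AtPrime (X.presheaf.stalk ζ) w := Div89.isLocalization_stalk U ζ hU
  haveI : IsRegularLocalRing (X.presheaf.stalk ζ) := by
    have : IsRegularRing Γ(X, U.1) := Var76.RegKaehler.isRegularRing_of_smooth K _
    have := IsRegularRing.isRegularLocalRing_localization (R := Γ(X, U.1)) w
    exact IsRegularLocalRing.of_ringEquiv
      (IsLocalization.algEquiv w.primeCompl (Localization.AtPrime w) (X.presheaf.stalk ζ)).toRingEquiv
  have hn0 : n = (trdegQuot K (⊥ : Ideal Γ(X, U.1)) : ℤ) := by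
    have hg := (genericPoint_specializes ζ).mem_open U.1.isOpen hU
    rw [← hn, htr _ hg, primeAt_genericPoint U hg]
  -- the components
  have hfin : ∀ (H : X.Modules) [H.IsQuasicoherent] (k : ℤ) [Module.Finite Γ(X, U.1) Γ(H, U.1)],
      (∀ x : X, Nontrivial (H.presheaf.stalk x) → δ x ≤ k) →
      {p : PrimeSpectrum Γ(X, U.1) | p ∈ Module.support Γ(X, U.1) Γ(H, U.1) ∧ p.asIdeal ≤ w ∧
        δ (pt p) = k}.Finite := by
    intro H _ k _ hk
    refine ((Ideal.finite_minimalPrimes_of_isNoetherianRing _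
      (Module.annihilator Γ(X, U.1) Γ(H, U.1))).preimage
        fun p _ q _ h => PrimeSpectrum.ext h).subset ?_
    rintro p ⟨hp, -, hpk⟩
    refine ⟨⟨p.2, Module.mem_support_iff_of_finite.1 hp⟩, fun q hq hqp => ?_⟩
    have hq' : (⟨q, hq.1⟩ : PrimeSpectrum Γ(X, U.1)) ∈ Module.support Γ(X, U.1) Γ(H, U.1) :=
      Module.mem_support_iff_of_finite.2 hq.2
    exact le_of_eq (congrArg PrimeSpectrum.asIdeal (hminsupp H k hk p hpk _ hq' hqp)).symm
  let P := (hfin F r hr).toFinset
  let Q := (hfin G s hs).toFinset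
  have hPmem : ∀ p ∈ P, p ∈ Module.support Γ(X, U.1) Γ(F, U.1) ∧ p.asIdeal ≤ w ∧ δ (pt p) = r :=
    fun p hp => (hfin F r hr).mem_toFinset.1 hp
  have hQmem : ∀ p ∈ Q, p ∈ Module.support Γ(X, U.1) Γ(G, U.1) ∧ p.asIdeal ≤ w ∧ δ (pt p) = s :=
    fun p hp => (hfin G s hs).mem_toFinset.1 hp
  have hgood : ∀ v : PrimeSpectrum Γ(X, U.1), v ∈ Module.support Γ(X, U.1) Γ(F, U.1) →
      v ∈ Module.support Γ(X, U.1) Γ(G, U.1) → v.asIdeal ≤ w → v.asIdeal = w := by
    intro v hvF hvG hvw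
    have h1 := hrs _ ((hsupp F v).1 hvF) ((hsupp G v).1 hvG)
    have hspv : pt v ⤳ ζ := (Div89.specializes_iff_primeAt_le U hU (hpt v)).2 ((hptp v).le.trans hvw)
    by_cases hyy : pt v = ζ
    · rw [← hptp v]
      simp only [hyy]
      rfl
    · have := (hX.2.2 _ _ hspv hyy).1
      omega
  have hzero : ∀ p ∈ Module.support Γ(X, U.1) Γ(F, U.1), p.asIdeal ≤ w →
      ∀ q ∈ Module.support Γ(X, U.1) Γ(G, U.1), q.asIdeal ≤ w → (p ∉ P ∨ q ∉ Q) →
      IntMult.chi (X.presheaf.stalk ζ)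
        (X.presheaf.stalk ζ ⧸ p.asIdeal.map (algebraMap Γ(X, U.1) (X.presheaf.stalk ζ)))
        (X.presheaf.stalk ζ ⧸ q.asIdeal.map (algebraMap Γ(X, U.1) (X.presheaf.stalk ζ))) = 0 := by
    intro p hp hpw q hq hqw hPQ
    have hmin : w ∈ (q.asIdeal ⊔ p.asIdeal).minimalPrimes := by
      refine ⟨⟨inferInstance, sup_le hqw hpw⟩, fun v hv hvw => ?_⟩
      refine le_of_eq (hgood ⟨v, hv.1⟩ ?_ ?_ hvw).symm
      · exact Module.mem_support_mono (p := p) (q := ⟨v, hv.1⟩) (le_sup_right.trans hv.2) hp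
      · exact Module.mem_support_mono (p := q) (q := ⟨v, hv.1⟩) (le_sup_left.trans hv.2) hq
    let μ : Γ(X, U.1) ⊗[K] Γ(X, U.1) →ₐ[K] Γ(X, U.1) := Algebra.TensorProduct.lmul' K (S := Γ(X, U.1))
    haveI : (w.comap μ).IsPrime := Ideal.IsPrime.comap _
    obtain ⟨l, -, -, -, -, h0, -⟩ := diag_chi' q.asIdeal p.asIdeal w hmin (X.presheaf.stalk ζ)
      (w.comap μ) rfl (Localization.AtPrime (w.comap μ))
    refine h0 ?_
    have h1 := hr _ ((hsupp F p).1 hp)
    have h2 := hs _ ((hsupp G q).1 hq)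
    have h3 : ¬ (δ (pt p) = r ∧ δ (pt q) = s) := fun h => hPQ.elim
      (fun h' => h' ((hfin F r hr).mem_toFinset.2 ⟨hp, hpw, h.1⟩))
      (fun h' => h' ((hfin G s hs).mem_toFinset.2 ⟨hq, hqw, h.2⟩))
    have h4 : δ ζ = (trdegQuot K w : ℤ) := htr ζ hU
    rw [hδpt] at h1 h2 h3
    rw [hδpt] at h3
    omega
  -- the right hand side
  letI := Div89.stalkModule F U.1 ζ hU
  letI := Div89.stalkModule G U.1 ζ hU
  haveI := Div89.isScalarTower_stalk F U.1 ζ hU
  haveI := Div89.isScalarTower_stalk G U.1 ζ hU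
  haveI : IsLocalizedModule w.primeCompl (Div89.germLin F U.1 ζ hU) :=
    Div89.isLocalizedModule_germLin F hF.1 U ζ hU
  haveI : IsLocalizedModule w.primeCompl (Div89.germLin G U.1 ζ hU) :=
    Div89.isLocalizedModule_germLin G hG.1 U ζ hU
  have eF := (IsLocalizedModule.isBaseChange w.primeCompl (X.presheaf.stalk ζ)
    (Div89.germLin F U.1 ζ hU)).equiv
  have eG := (IsLocalizedModule.isBaseChange w.primeCompl (X.presheaf.stalk ζ)
    (Div89.germLin G U.1 ζ hU)).equiv
  rw [← chi_congr_left _ eF, ← chi_congr_right _ eG,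
    chi_dev (X.presheaf.stalk ζ) w Γ(F, U.1) Γ(G, U.1) P Q
      (fun p hp => ⟨(hPmem p hp).1, (hPmem p hp).2.1, hminsupp F r hr p (hPmem p hp).2.2⟩)
      (fun q hq => ⟨(hQmem q hq).2.1, hminsupp G s hs q (hQmem q hq).2.2⟩) hgood hzero]
  -- the left hand side
  have hcond : ∀ p ∈ P, ∀ q ∈ Q, pt p ⤳ ζ ∧ pt q ⤳ ζ ∧ δ (pt p) + δ (pt q) - n = δ ζ :=
    fun p hp q hq =>
      ⟨(Div89.specializes_iff_primeAt_le U hU (hpt p)).2 ((hptp p).le.trans (hPmem p hp).2.1),
        (Div89.specializes_iff_primeAt_le U hU (hpt q)).2 ((hptp q).le.trans (hQmem q hq).2.1),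
        by rw [(hPmem p hp).2.2, (hQmem q hq).2.2, hζ]⟩
  let ι : {p // p ∈ P} × {q // q ∈ Q} →
      {t : X × X // t.1 ⤳ ζ ∧ t.2 ⤳ ζ ∧ δ t.1 + δ t.2 - n = δ ζ} :=
    fun a => ⟨(pt a.1.1, pt a.2.1), hcond _ a.1.2 _ a.2.2⟩
  have hptinj : Function.Injective pt := fun a b h => by
    apply PrimeSpectrum.ext
    rw [← hptp a, ← hptp b]
    simp only [h]
  have hιinj : Function.Injective ι := fun a b h => by
    have h' := congrArg Subtype.val h
    exact Prod.ext (Subtype.ext (hptinj (congrArg Prod.fst h')))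
      (Subtype.ext (hptinj (congrArg Prod.snd h')))
  have hback : ∀ (H : X.Modules) [H.IsQuasicoherent] (k : ℤ) (x : X), x ⤳ ζ →
      Cyc.sheafFun δ k H x ≠ 0 →
      ∃ p : PrimeSpectrum Γ(X, U.1), pt p = x ∧ p ∈ Module.support Γ(X, U.1) Γ(H, U.1) ∧
        p.asIdeal ≤ w ∧ δ (pt p) = k := by
    intro H _ k x hx hx0
    have hxU := hx.mem_open U.1.isOpen hU
    let p : PrimeSpectrum Γ(X, U.1) := ⟨Div89.primeAt U x hxU, inferInstance⟩
    have hp : pt p = x := Div89.primeAt_inj U (hpt p) hxU (hptp p)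
    exact ⟨p, hp, (hsupp H p).2 (hp.symm ▸ (hne H k x hx0).2),
      (Div89.specializes_iff_primeAt_le U hU hxU).1 hx, hp.symm ▸ (hne H k x hx0).1⟩
  rw [finsum_eq_sum_of_support_subset (s := Finset.univ.image ι) _ ?_,
    Finset.sum_image fun a _ b _ h => hιinj h, Fintype.sum_prod_type,
    ← Finset.sum_coe_sort P]
  swap
  · intro t ht
    rw [Function.mem_support] at ht
    obtain ⟨p, hp, hp'⟩ := hback F r t.1.1 t.2.1 fun h => ht (by rw [h, zero_mul, zero_mul])
    obtain ⟨q, hq, hq'⟩ := hback G s t.1.2 t.2.2.1 fun h => ht (by rw [h, mul_zero, zero_mul])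
    refine Finset.mem_coe.2 (Finset.mem_image.2 ⟨(⟨p, (hfin F r hr).mem_toFinset.2 hp'⟩,
      ⟨q, (hfin G s hs).mem_toFinset.2 hq'⟩), Finset.mem_univ _, Subtype.ext (Prod.ext hp hq)⟩)
  refine Finset.sum_congr rfl fun p _ => ?_
  rw [← Finset.sum_coe_sort Q]
  refine Finset.sum_congr rfl fun q _ => ?_
  have hmult : ∀ v : PrimeSpectrum Γ(X, U.1), v.asIdeal ≤ w →
      IntMult.stalkIdeal (IntMult.ptIdeal (pt v)) ζ =
        v.asIdeal.map (algebraMap Γ(X, U.1) (X.presheaf.stalk ζ)) := fun v _ => by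
    rw [stalkIdeal_eq, Div89.stalkIdeal_eq _ U ζ hU, ptIdeal_ideal U _ (hpt v), hptp v]
    rfl
  show Cyc.sheafFun δ r F (pt p.1) * Cyc.sheafFun δ s G (pt q.1) *
    IntMult.mult (IntMult.ptIdeal (pt p.1)) (IntMult.ptIdeal (pt q.1)) ζ = _
  simp only [Cyc.sheafFun, if_pos (hPmem _ p.2).2.2, if_pos (hQmem _ q.2).2.2,
    length_stalk_eq_locLen F hF.1 U _ (hpt p.1), length_stalk_eq_locLen G hG.1 U _ (hpt q.1)]
  rw [IntMult.mult, hmult _ (hPmem _ p.2).2.1, hmult _ (hQmem _ q.2).2.1, LA18.chi_comm]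
  simp only [hptp]

end Groth.Agent.IntMult12
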