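import Groth.Agent.IntMult12.SheafChi
import Groth.Agent.IntMult12.MultOne
import Groth.Agent.Cyc90.PushLen
import Groth.Agent.FlatMor68.FlatInfNbhd

/-!
# Intersections of multiplicity one
-/

set_option autoImplicit false
set_option linter.style.haveILetI false

universe u

open CategoryTheory CategoryTheory.Limits AlgebraicGeometry IsLocalRing

attribute [local instance] HasDerivedCategory.standard

namespace Groth.Agent.IntMult12

open CAlgH2 (trdegQuot)

/-- The length of a local ring of a closed subscheme. -/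
theorem length_stalk_closedImmersion {W X : Scheme.{u}} (i : W ⟶ X) [IsClosedImmersion i] (w : W) :
    Module.length (W.presheaf.stalk w) (W.presheaf.stalk w) =
      Module.length (X.presheaf.stalk (i w))
        (X.presheaf.stalk (i w) ⧸ Div89.stalkIdeal i.ker (i w)) := by
  rw [← FlatMor68.FlatInfNbhd.ker_stalkMap_closedImmersion i w]
  refine (Cyc90.length_eq_of_semilinear (i.stalkMap w).hom (i.stalkMap_surjective w)
    (RingHom.quotientKerEquivOfSurjective (i.stalkMap_surjective w)).toAddEquiv fun a m => ?_).symm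
  obtain ⟨m, rfl⟩ := Ideal.Quotient.mk_surjective m
  exact map_mul (RingHom.quotientKerEquivOfSurjective (i.stalkMap_surjective w))
    (Ideal.Quotient.mk _ a) (Ideal.Quotient.mk _ m)

/-- The ideal of a scheme-theoretic intersection of closed subschemes. -/
theorem ker_pullback_fst_comp {Y Z X : Scheme.{u}} (ιY : Y ⟶ X) (ιZ : Z ⟶ X) [IsClosedImmersion ιY]
    [IsClosedImmersion ιZ] : (pullback.fst ιY ιZ ≫ ιY).ker = ιY.ker ⊔ ιZ.ker := by
  set T := ιY.ker ⊔ ιZ.ker with hT
  refine le_antisymm ?_ (sup_le (Scheme.Hom.le_ker_comp _ _) ?_)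
  · have h1 : ιY.ker ≤ T.subschemeι.ker := by rw [Scheme.IdealSheafData.ker_subschemeι]; exact le_sup_left
    have h2 : ιZ.ker ≤ T.subschemeι.ker := by rw [Scheme.IdealSheafData.ker_subschemeι]; exact le_sup_right
    let l : T.subscheme ⟶ pullback ιY ιZ := pullback.lift (IsClosedImmersion.lift ιY _ h1)
      (IsClosedImmersion.lift ιZ _ h2) (by rw [IsClosedImmersion.lift_fac, IsClosedImmersion.lift_fac])
    calc (pullback.fst ιY ιZ ≫ ιY).ker ≤ (l ≫ pullback.fst ιY ιZ ≫ ιY).ker := Scheme.Hom.le_ker_comp _ _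
      _ = T := by
        rw [← Category.assoc, pullback.lift_fst, IsClosedImmersion.lift_fac,
          Scheme.IdealSheafData.ker_subschemeι]
  · rw [pullback.condition]
    exact Scheme.Hom.le_ker_comp _ _

theorem subschemeFun_point {X W : Scheme.{u}} (δ : X → ℤ) (k : ℤ) (i : W ⟶ X) [IsClosedImmersion i] (w : W)
    (h : δ (i w) = k) :
    Cyc.subschemeFun δ k i (i w) =
      ((Module.length (W.presheaf.stalk w) (W.presheaf.stalk w)).toNat : ℤ) := by
  simp only [Cyc.subschemeFun, if_pos h]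
  rw [show {w' : W | i w' = i w} = {w} from Set.ext fun w' =>
    ⟨fun h => i.isClosedEmbedding.injective h, fun h => congrArg i h⟩, finsum_mem_singleton]

theorem subschemeFun_ne_zero {X W : Scheme.{u}} {δ : X → ℤ} {k : ℤ} {i : W ⟶ X} {x : X}
    (h : Cyc.subschemeFun δ k i x ≠ 0) : δ x = k ∧ ∃ w, i w = x := by
  simp only [Cyc.subschemeFun] at h
  split_ifs at h with hk
  · refine ⟨hk, by_contra fun hx => h (finsum_mem_eq_zero_of_forall_eq_zero fun w hw => absurd ⟨w, hw⟩ hx)⟩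
  · exact absurd rfl h

theorem mem_support_ker {X W : Scheme.{u}} (i : W ⟶ X) [IsClosedImmersion i] (x : X) :
    x ∈ i.ker.support ↔ ∃ w, i w = x := by
  rw [← SetLike.mem_coe, Scheme.Hom.support_ker,
    i.isClosedEmbedding.isClosed_range.closure_eq]
  rfl

set_option maxHeartbeats 1600000 in
/-- An intersection of length one: multiplicity one and regularity. -/
theorem interProd_eq_one {K : Type u} [Field K] (X : Scheme.{u}) (f : X ⟶ Spec (CommRingCat.of K))
    [Smooth f] [IsIntegral X] (δ : X → ℤ) (hX : Cyc.IsSetup X δ)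
    (hδ : Cyc.DeltaCompat f δ (fun _ => 0)) (n : ℤ) (hn : δ (genericPoint X) = n)
    (Y Z : Scheme.{u}) (ιY : Y ⟶ X) (ιZ : Z ⟶ X) [IsClosedImmersion ιY] [IsClosedImmersion ιZ] (r s : ℤ)
    (hY : ∀ y : Y, δ (ιY y) ≤ r) (hZ : ∀ z : Z, δ (ιZ z) ≤ s) (τ : X) (hτ : δ τ = r + s - n)
    (hξ : ∃ ξ η : X, Cyc.subschemeFun δ r ιY ξ ≠ 0 ∧ Cyc.subschemeFun δ s ιZ η ≠ 0 ∧ ξ ⤳ τ ∧ η ⤳ τ)
    (hmult : Cyc.subschemeFun δ (r + s - n) (pullback.fst ιY ιZ ≫ ιY) τ = 1) :
    IntMult.interProd δ n (Cyc.subschemeFun δ r ιY) (Cyc.subschemeFun δ s ιZ) τ = 1 ∧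
      (∀ y : Y, ιY y = τ → IsRegularLocalRing (Y.presheaf.stalk y)) ∧
      (∀ z : Z, ιZ z = τ → IsRegularLocalRing (Z.presheaf.stalk z)) := by
  classical
  haveI := hX.1
  obtain ⟨ξ, η, hξ0, hη0, hξτ, hητ⟩ := hξ
  obtain ⟨U, hU⟩ := Div89.exists_affine_mem τ
  letI : Algebra K Γ(X, U.1) := (WC97.kSec f U.2).toAlgebra
  haveI : Algebra.FiniteType K Γ(X, U.1) := WC97.kSec_finiteType f U.2
  haveI : Nonempty U.1 := ⟨⟨τ, hU⟩⟩
  haveI : Algebra.Smooth K Γ(X, U.1) := smooth_kSec f U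
  have htr : ∀ (y : X) (hy : y ∈ U.1), δ y = (trdegQuot K (Div89.primeAt U y hy) : ℤ) := fun y hy => by
    rw [WC97.delta_eq_pdim f δ hδ, WC97.pdim_eq f, tdegN_eq_trdegQuot f U hy]
  have hξU := hξτ.mem_open U.1.isOpen hU
  have hηU := hητ.mem_open U.1.isOpen hU
  have hg := (genericPoint_specializes τ).mem_open U.1.isOpen hU
  let w := Div89.primeAt U τ hU
  let p := Div89.primeAt U ξ hξU
  let q := Div89.primeAt U η hηU
  have hpw : p ≤ w := (Div89.specializes_iff_primeAt_le U hU hξU).1 hξτ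
  have hqw : q ≤ w := (Div89.specializes_iff_primeAt_le U hU hηU).1 hητ
  letI := Div89.stalkAlg U.1 τ hU
  haveI : IsLocalization.AtPrime (X.presheaf.stalk τ) w := Div89.isLocalization_stalk U τ hU
  haveI hregA : IsRegularLocalRing (X.presheaf.stalk τ) := VarGal.isRegularLocalRing_stalk_of_smooth f τ
  let α := algebraMap Γ(X, U.1) (X.presheaf.stalk τ)
  have hprime : ∀ v : Ideal Γ(X, U.1), v.IsPrime → v ≤ w → (v.map α).IsPrime := fun v hv hvw =>
    IsLocalization.isPrime_of_isPrime_disjoint w.primeCompl _ v hv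
      (Set.disjoint_left.2 fun y hy hy' => hy (hvw hy'))
  have hcomap : ∀ v : Ideal Γ(X, U.1), v.IsPrime → v ≤ w → (v.map α).comap α = v := fun v hv hvw =>
    IsLocalization.under_map_of_isPrime_disjoint w.primeCompl (X.presheaf.stalk τ) hv
      (Set.disjoint_left.2 fun y hy hy' => hy (hvw hy'))
  haveI : (p.map α).IsPrime := hprime p inferInstance hpw
  haveI : (q.map α).IsPrime := hprime q inferInstance hqw
  -- the ideals of `Y` and `Z`
  obtain ⟨hξr, hξY⟩ := subschemeFun_ne_zero hξ0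
  obtain ⟨hηs, hηZ⟩ := subschemeFun_ne_zero hη0
  have hIp : ιY.ker.ideal U ≤ p :=
    (Div89.mem_support_iff_le _ U ξ hξU).1 ((mem_support_ker ιY ξ).2 hξY)
  have hJq : ιZ.ker.ideal U ≤ q :=
    (Div89.mem_support_iff_le _ U η hηU).1 ((mem_support_ker ιZ η).2 hηZ)
  have hI : Div89.stalkIdeal ιY.ker τ = (ιY.ker.ideal U).map α := Div89.stalkIdeal_eq _ U τ hU
  have hJ : Div89.stalkIdeal ιZ.ker τ = (ιZ.ker.ideal U).map α := Div89.stalkIdeal_eq _ U τ hU
  set I := Div89.stalkIdeal ιY.ker τ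
  set J := Div89.stalkIdeal ιZ.ker τ
  -- length one
  obtain ⟨-, yY, hyY⟩ : δ τ = δ τ ∧ ∃ y, ιY y = τ :=
    ⟨rfl, (mem_support_ker ιY τ).1 ((Div89.mem_support_iff_le _ U τ hU).2 (hIp.trans hpw))⟩
  have hmx : I ⊔ J = maximalIdeal (X.presheaf.stalk τ) ∧
      Module.length (X.presheaf.stalk τ) (X.presheaf.stalk τ ⧸ (I ⊔ J)) = 1 := by
    obtain ⟨-, t, ht⟩ := subschemeFun_ne_zero (by rw [hmult]; exact one_ne_zero :
      Cyc.subschemeFun δ (r + s - n) (pullback.fst ιY ιZ ≫ ιY) τ ≠ 0)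
    have h1 := hmult
    rw [← ht, subschemeFun_point δ _ (pullback.fst ιY ιZ ≫ ιY) t (by rw [ht]; exact hτ),
      length_stalk_closedImmersion (pullback.fst ιY ιZ ≫ ιY) t, ker_pullback_fst_comp, ht, Div89.stalkIdeal_sup] at h1
    have h2 : Module.length (X.presheaf.stalk τ) (X.presheaf.stalk τ ⧸ (I ⊔ J)) = 1 := by
      cases hc : Module.length (X.presheaf.stalk τ) (X.presheaf.stalk τ ⧸ (I ⊔ J)) with
      | top => rw [hc] at h1; simp at h1
      | coe a => rw [hc] at h1; simp only [ENat.toNat_natCast] at h1; exact_mod_cast h1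
    have h3 := h2
    rw [Module.length_eq_one_iff, isSimpleModule_iff_isCoatom, ← Ideal.isMaximal_def] at h3
    exact ⟨IsLocalRing.eq_maximalIdeal h3, h2⟩
  have hIp' : I ≤ p.map α := hI.le.trans (Ideal.map_mono hIp)
  have hJq' : J ≤ q.map α := hJ.le.trans (Ideal.map_mono hJq)
  have hpq : p.map α ⊔ q.map α = maximalIdeal (X.presheaf.stalk τ) :=
    le_antisymm (sup_le (le_maximalIdeal (Ideal.IsPrime.ne_top ‹_›))
      (le_maximalIdeal (Ideal.IsPrime.ne_top ‹_›))) (hmx.1 ▸ sup_le_sup hIp' hJq')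
  -- dimensions
  obtain ⟨dp, hdp, hdp'⟩ := ringKrullDim_quot_localization (k := K) (R := X.presheaf.stalk τ) w p hpw
  obtain ⟨dq, hdq, hdq'⟩ := ringKrullDim_quot_localization (k := K) (R := X.presheaf.stalk τ) w q hqw
  obtain ⟨d0, hd0, hd0'⟩ := ringKrullDim_quot_localization (k := K) (R := X.presheaf.stalk τ) w ⊥ bot_le
  rw [Ideal.map_bot, ringKrullDim_eq_of_ringEquiv (RingEquiv.quotientBot (X.presheaf.stalk τ))] at hd0
  have hd : d0 = dp + dq := by
    have e1 : δ ξ = (trdegQuot K p : ℤ) := htr ξ hξU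
    have e2 : δ η = (trdegQuot K q : ℤ) := htr η hηU
    have e3 : δ τ = (trdegQuot K w : ℤ) := htr τ hU
    have e4 : δ (genericPoint X) = (trdegQuot K (⊥ : Ideal Γ(X, U.1)) : ℤ) := by
      rw [htr _ hg, primeAt_genericPoint U hg]
    omega
  have hlen : Module.length (X.presheaf.stalk τ) (X.presheaf.stalk τ ⧸ (p.map α ⊔ q.map α)) = 1 := by
    rw [hpq, ← hmx.1]; exact hmx.2
  have D : LocalData (X.presheaf.stalk τ) (p.map α) (q.map α) :=
    ⟨inferInstance, inferInstance, inferInstance,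
      Module.length_ne_top_iff.1 (by rw [hlen]; exact ENat.one_ne_top),
      dp, dq, by rw [hd0, hd], hdp, hdq⟩
  have hregI : IsRegularLocalRing (X.presheaf.stalk τ ⧸ I) :=
    regular_of_sup_eq' d0 _ I (p.map α) J hIp' hd0 hmx.1 (by
      rw [hd0, hdp, hd, Nat.cast_add]
      exact add_le_add le_rfl (hdq ▸ ringKrullDim_le_of_surjective (Ideal.Quotient.factor hJq')
        (Ideal.Quotient.factor_surjective hJq')))
  have hregJ : IsRegularLocalRing (X.presheaf.stalk τ ⧸ J) :=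
    regular_of_sup_eq' d0 _ J (q.map α) I hJq' hd0 (sup_comm I J ▸ hmx.1) (by
      rw [hd0, hdq, hd, Nat.cast_add, add_comm]
      exact add_le_add le_rfl (hdp ▸ ringKrullDim_le_of_surjective (Ideal.Quotient.factor hIp')
        (Ideal.Quotient.factor_surjective hIp')))
  have hreg : ∀ (W : Scheme.{u}) (i : W ⟶ X) [IsClosedImmersion i] (y : W), i y = τ →
      IsRegularLocalRing (X.presheaf.stalk τ ⧸ Div89.stalkIdeal i.ker τ) →
      IsRegularLocalRing (W.presheaf.stalk y) := by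
    intro W i _ y hy h
    subst hy
    rw [← FlatMor68.FlatInfNbhd.ker_stalkMap_closedImmersion i y] at h
    exact IsRegularLocalRing.of_ringEquiv
      (RingHom.quotientKerEquivOfSurjective (i.stalkMap_surjective y))
  refine ⟨?_, fun y hy => hreg Y ιY y hy hregI, fun z hz => hreg Z ιZ z hz hregJ⟩
  -- `Y` and `Z` are integral near `τ`
  have key : ∀ (W : Scheme.{u}) (i : W ⟶ X) [IsClosedImmersion i] (k : ℤ), (∀ y : W, δ (i y) ≤ k) →
      ∀ (ζ : X) (hζU : ζ ∈ U.1), δ ζ = k → Div89.primeAt U ζ hζU ≤ w →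
      i.ker.ideal U ≤ Div89.primeAt U ζ hζU →
      IsRegularLocalRing (X.presheaf.stalk τ ⧸ Div89.stalkIdeal i.ker τ) →
      Cyc.subschemeFun δ k i ζ = 1 ∧
        ∀ x : X, x ⤳ τ → Cyc.subschemeFun δ k i x ≠ 0 → x = ζ := by
    intro W i _ k hk ζ hζU hζk hvw hIv hR
    have hI : Div89.stalkIdeal i.ker τ = (i.ker.ideal U).map α := Div89.stalkIdeal_eq _ U τ hU
    haveI := CAlg1.isDomain_regular (X.presheaf.stalk τ ⧸ Div89.stalkIdeal i.ker τ)
    haveI hIpr : (Div89.stalkIdeal i.ker τ).IsPrime := (Ideal.Quotient.isDomain_iff_prime _).1 inferInstance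
    obtain ⟨y, hy, hyv⟩ := Div89.exists_point U ((Div89.stalkIdeal i.ker τ).comap α)
    have hle : (Div89.stalkIdeal i.ker τ).comap α ≤ Div89.primeAt U ζ hζU := by
      rw [hI, ← hcomap _ inferInstance hvw]
      exact Ideal.comap_mono (Ideal.map_mono hIv)
    have heq : Div89.stalkIdeal i.ker τ = (Div89.primeAt U ζ hζU).map α := by
      have hyi : i.ker.ideal U ≤ Div89.primeAt U y hy := hyv ▸ Ideal.le_comap_of_map_le hI.ge
      obtain ⟨y', hy'⟩ := (mem_support_ker i y).1 ((Div89.mem_support_iff_le _ U y hy).2 hyi)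
      have h1 : δ y ≤ k := hy' ▸ hk y'
      have h2 : y ⤳ ζ := (Div89.specializes_iff_primeAt_le U hζU hy).2 (hyv ▸ hle)
      by_cases h3 : y = ζ
      · subst h3
        rw [hyv, IsLocalization.map_under w.primeCompl]
      · have := (hX.2.2 _ _ h2 h3).1
        omega
    refine ⟨?_, fun x hxτ hx0 => ?_⟩
    · obtain ⟨y', hy'⟩ := (mem_support_ker i ζ).1 ((Div89.mem_support_iff_le _ U ζ hζU).2 hIv)
      subst hy'
      letI := Div89.stalkAlg U.1 (i y') hζU
      haveI := Div89.isLocalization_stalk U (i y') hζU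
      have hmax : Div89.stalkIdeal i.ker (i y') = maximalIdeal (X.presheaf.stalk (i y')) := by
        rw [Div89.stalkIdeal_eq _ U _ hζU,
          ← IsLocalization.AtPrime.map_eq_maximalIdeal (Div89.primeAt U (i y') hζU) (X.presheaf.stalk (i y'))]
        refine le_antisymm (Ideal.map_mono hIv) (Ideal.map_le_iff_le_comap.2 fun c hc => ?_)
        have hc' : α c ∈ (i.ker.ideal U).map α := hI ▸ heq.symm ▸ Ideal.mem_map_of_mem α hc
        obtain ⟨t, ht, htc⟩ :=
          (IsLocalization.algebraMap_mem_map_algebraMap_iff w.primeCompl (X.presheaf.stalk τ) _ _).1 hc'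
        have hu : IsUnit ((X.presheaf.germ U.1 (i y') hζU).hom t) :=
          (Div89.germ_isUnit_iff U _ hζU t).2 fun h => ht (hvw h)
        rw [Ideal.mem_comap, ← Ideal.unit_mul_mem_iff_mem _ hu]
        exact (map_mul (X.presheaf.germ U.1 (i y') hζU).hom t c).symm ▸ Ideal.mem_map_of_mem _ htc
      rw [subschemeFun_point δ k i y' hζk, length_stalk_closedImmersion i y', hmax,
        show Module.length (X.presheaf.stalk (i y')) (X.presheaf.stalk (i y') ⧸
          maximalIdeal (X.presheaf.stalk (i y'))) = 1 from Module.length_eq_one_iff.2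
            (isSimpleModule_iff_isCoatom.2 (maximalIdeal.isMaximal _).out)]
      rfl
    · obtain ⟨hxk, hxW⟩ := subschemeFun_ne_zero hx0
      have hxU := hxτ.mem_open U.1.isOpen hU
      have hxw := (Div89.specializes_iff_primeAt_le U hU hxU).1 hxτ
      have h1 : Div89.primeAt U ζ hζU ≤ Div89.primeAt U x hxU := by
        rw [← hcomap _ inferInstance hvw, ← hcomap _ inferInstance hxw, ← heq, hI]
        exact Ideal.comap_mono
          (Ideal.map_mono ((Div89.mem_support_iff_le _ U x hxU).1 ((mem_support_ker i x).2 hxW)))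
      by_contra hne
      have := (hX.2.2 _ _ ((Div89.specializes_iff_primeAt_le U hxU hζU).2 h1) (Ne.symm hne)).1
      omega
  have hchi : IntMult.chi (X.presheaf.stalk τ) (X.presheaf.stalk τ ⧸ q.map α) (X.presheaf.stalk τ ⧸ p.map α) = 1 :=
    (@LocalData.mult_one _ _ (p.map α) (q.map α) hregA D hlen).1
  obtain ⟨hc1, huniq1⟩ := key Y ιY r hY ξ hξU hξr hpw hIp hregI
  obtain ⟨hc2, huniq2⟩ := key Z ιZ s hZ η hηU hηs hqw hJq hregJ
  rw [IntMult.interProd]
  rw [finsum_eq_single _ ⟨(ξ, η), hξτ, hητ, by rw [hξr, hηs, hτ]⟩]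
  · show Cyc.subschemeFun δ r ιY ξ * Cyc.subschemeFun δ s ιZ η *
      IntMult.mult (IntMult.ptIdeal ξ) (IntMult.ptIdeal η) τ = 1
    rw [hc1, hc2, IntMult.mult, stalkIdeal_eq, stalkIdeal_eq, Div89.stalkIdeal_eq _ U τ hU,
      Div89.stalkIdeal_eq _ U τ hU, ptIdeal_ideal U ξ hξU, ptIdeal_ideal U η hηU, one_mul, one_mul]
    exact hchi
  · intro t ht
    by_contra hne
    refine ht (Subtype.ext (Prod.ext (huniq1 _ t.2.1 fun h => hne ?_) (huniq2 _ t.2.2.1 fun h => hne ?_)))
    · rw [h, zero_mul, zero_mul]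
    · rw [h, mul_zero, zero_mul]

end Groth.Agent.IntMult12
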