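import Groth.Agent.IntMult12.AssocLocal
import Groth.Agent.IntMult12.PullProd

/-!
# Associativity of the intersection product
-/

set_option autoImplicit false
set_option linter.style.haveILetI false
set_option linter.unusedSectionVars false

universe u

open CategoryTheory CategoryTheory.Limits AlgebraicGeometry IsLocalRing TensorProduct

attribute [local instance] HasDerivedCategory.standard

namespace Groth.Agent.IntMult12

open CAlgH2 (trdegQuot)

/-- `χ(A/I, A/J)` does not depend on the model of the localisation -/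
theorem chi_localization_congr {S : Type u} [CommRing S] (η : Ideal S) [η.IsPrime]
    (A : Type u) [CommRing A] [Algebra S A] [IsLocalization.AtPrime A η]
    (B : Type u) [CommRing B] [Algebra S B] [IsLocalization.AtPrime B η] (I J : Ideal S) :
    IntMult.chi B (B ⧸ I.map (algebraMap S B)) (B ⧸ J.map (algebraMap S B)) =
      IntMult.chi A (A ⧸ I.map (algebraMap S A)) (A ⧸ J.map (algebraMap S A)) := by
  haveI : IsLocalRing A := IsLocalization.AtPrime.isLocalRing A η
  haveI : IsLocalRing B := IsLocalization.AtPrime.isLocalRing B η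
  let σ : A ≃ₐ[S] B := IsLocalization.algEquiv η.primeCompl A B
  letI : Algebra A B := σ.toRingHom.toAlgebra
  haveI : Module.Flat A B := by
    refine Module.Flat.of_linearEquiv (R := A) (M := A) (LinearEquiv.ofBijective (Algebra.linearMap A B) ?_).symm
    exact σ.bijective
  haveI : IsLocalHom (algebraMap A B) := ⟨fun a ha => (isUnit_map_iff σ a).1 ha⟩
  have hmap : ∀ K : Ideal S, (K.map (algebraMap S A)).map (algebraMap A B) = K.map (algebraMap S B) :=
    fun K => by
      rw [Ideal.map_map]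
      congr 1
      exact RingHom.ext fun s => σ.commutes s
  let e : ∀ K : Ideal S, B ⊗[A] (A ⧸ K.map (algebraMap S A)) ≃ₗ[B] B ⧸ K.map (algebraMap S B) := fun K =>
    (Algebra.TensorProduct.quotIdealMapEquivTensorQuot B (K.map (algebraMap S A))).symm.toLinearEquiv.trans
      (Submodule.quotEquivOfEq _ _ (hmap K))
  have h1 : (maximalIdeal A).map (algebraMap A B) = maximalIdeal B := by
    rw [← IsLocalization.AtPrime.map_eq_maximalIdeal η A, hmap,
      IsLocalization.AtPrime.map_eq_maximalIdeal η B]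
  rw [← chi_congr_left _ (e I), ← chi_congr_right _ (e J), chi_baseChange, h1,
    Module.length_eq_one_iff.2 (isSimpleModule_iff_isCoatom.mpr
      (Ideal.isMaximal_def.mp (maximalIdeal.isMaximal B)))]
  simp

theorem interProd_comm {X : Scheme.{u}} (δ : X → ℤ) (n : ℤ) (α β : X → ℤ) :
    IntMult.interProd δ n α β = IntMult.interProd δ n β α := by
  funext ζ
  let e : {p : X × X // p.1 ⤳ ζ ∧ p.2 ⤳ ζ ∧ δ p.1 + δ p.2 - n = δ ζ} ≃
      {p : X × X // p.1 ⤳ ζ ∧ p.2 ⤳ ζ ∧ δ p.1 + δ p.2 - n = δ ζ} :=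
    (Equiv.prodComm X X).subtypeEquiv fun p => ⟨fun h => ⟨h.2.1, h.1, by rw [add_comm]; exact h.2.2⟩,
      fun h => ⟨h.2.1, h.1, by rw [add_comm]; exact h.2.2⟩⟩
  refine finsum_eq_of_bijective e e.bijective fun p => ?_
  show _ = β p.1.2 * α p.1.1 * IntMult.mult (IntMult.ptIdeal p.1.2) (IntMult.ptIdeal p.1.1) ζ
  rw [IntMult.mult, IntMult.mult, LA18.chi_comm, mul_comm (β p.1.2)]

theorem intersectProperly_symm {X : Scheme.{u}} {δ : X → ℤ} {n : ℤ} {α β : X → ℤ}
    (h : IntMult.IntersectProperly δ n α β) : IntMult.IntersectProperly δ n β α :=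
  fun ξ η ζ h1 h2 h3 h4 => by have := h η ξ ζ h2 h1 h4 h3; omega

/-- `(a · b) · c = (a · c) · b` at a point near which they meet properly. -/
theorem interProd_swap_at {K : Type u} [Field K] (X : Scheme.{u}) (f : X ⟶ Spec (CommRingCat.of K))
    [Smooth f] [IsIntegral X] (δ : X → ℤ) (hX : Cyc.IsSetup X δ) (hδ : Cyc.DeltaCompat f δ (fun _ => 0))
    (n : ℤ) (hn : δ (genericPoint X) = n) (a b c : X)
    (ζ : X) (hab : ∀ η : X, a ⤳ η → b ⤳ η → η ⤳ ζ → δ η ≤ δ a + δ b - n)
    (hac : ∀ η : X, a ⤳ η → c ⤳ η → η ⤳ ζ → δ η ≤ δ a + δ c - n)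
    (habc : ∀ η : X, a ⤳ η → b ⤳ η → c ⤳ η → η ⤳ ζ → δ η ≤ δ a + δ b + δ c - 2 * n) :
    IntMult.interProd δ n (IntMult.interProd δ n (Set.indicator {a} 1) (Set.indicator {b} 1)) (Set.indicator {c} 1) ζ =
      IntMult.interProd δ n (IntMult.interProd δ n (Set.indicator {a} 1) (Set.indicator {c} 1)) (Set.indicator {b} 1) ζ := by
  classical
  haveI := hX.1
  have hone : ∀ (x z : X), Set.indicator ({x} : Set X) (1 : X → ℤ) z ≠ 0 → z = x := fun x z h =>
    Set.mem_singleton_iff.1 (Set.mem_of_indicator_ne_zero (s := ({x} : Set X)) h)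
  -- the first product
  have hfirst : ∀ (p q η : X), IntMult.interProd δ n (Set.indicator {p} 1) (Set.indicator {q} 1) η =
      if p ⤳ η ∧ q ⤳ η ∧ δ p + δ q - n = δ η then
        IntMult.mult (IntMult.ptIdeal p) (IntMult.ptIdeal q) η else 0 := by
    intro p q η
    by_cases h : p ⤳ η ∧ q ⤳ η
    · rw [interProd_eq_sum δ n _ _ η {p} {q} (fun z hz => (Finset.mem_singleton.1 hz) ▸ h.1)
        (fun z hz => (Finset.mem_singleton.1 hz) ▸ h.2) (fun z _ hz => Finset.mem_singleton.2 (hone _ _ hz))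
        (fun z _ hz => Finset.mem_singleton.2 (hone _ _ hz)), Finset.sum_singleton, Finset.sum_singleton]
      simp [h]
    · rw [if_neg fun h' => h ⟨h'.1, h'.2.1⟩]
      refine finsum_eq_zero_of_forall_eq_zero fun t => ?_
      by_cases h1 : t.1.1 = p
      · have h2 : t.1.2 ≠ q := fun h2 => h ⟨h1 ▸ t.2.1, h2 ▸ t.2.2.1⟩
        simp [h2]
      · simp [h1]
  by_cases hgood : a ⤳ ζ ∧ b ⤳ ζ ∧ c ⤳ ζ ∧ δ ζ = δ a + δ b + δ c - 2 * n
  swap
  · have hz : ∀ p q, (a ⤳ ζ → p ⤳ ζ → q ⤳ ζ → δ ζ = δ a + δ p + δ q - 2 * n → False) →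
        IntMult.interProd δ n (IntMult.interProd δ n (Set.indicator {a} 1) (Set.indicator {p} 1))
          (Set.indicator {q} 1) ζ = 0 := by
      intro p q hbad
      refine finsum_eq_zero_of_forall_eq_zero fun t => ?_
      by_cases h2 : t.1.2 = q
      · rw [hfirst]
        split_ifs with h3
        · refine (hbad (h3.1.trans t.2.1) (h3.2.1.trans t.2.1) (h2 ▸ t.2.2.1) ?_).elim
          have := t.2.2.2
          rw [h2] at this
          omega
        · simp
      · simp [h2]
    rw [hz b c fun h1 h2 h3 h4 => hgood ⟨h1, h2, h3, h4⟩,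
      hz c b fun h1 h2 h3 h4 => hgood ⟨h1, h3, h2, by omega⟩]
  obtain ⟨haζ, hbζ, hcζ, hdimζ⟩ := hgood
  obtain ⟨U, hU⟩ := Div89.exists_affine_mem ζ
  letI : Algebra K Γ(X, U.1) := (WC97.kSec f U.2).toAlgebra
  haveI : Algebra.FiniteType K Γ(X, U.1) := WC97.kSec_finiteType f U.2
  haveI : Nonempty U.1 := ⟨⟨ζ, hU⟩⟩
  haveI : Algebra.Smooth K Γ(X, U.1) := smooth_kSec f U
  haveI : IsNoetherianRing Γ(X, U.1) := IsLocallyNoetherian.component_noetherian U
  have htr : ∀ (y : X) (hy : y ∈ U.1), δ y = (trdegQuot K (Div89.primeAt U y hy) : ℤ) := fun y hy => by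
    rw [WC97.delta_eq_pdim f δ hδ, WC97.pdim_eq f, tdegN_eq_trdegQuot f U hy]
  have hn0 : n = (trdegQuot K (⊥ : Ideal Γ(X, U.1)) : ℤ) := by
    have hg := (genericPoint_specializes ζ).mem_open U.1.isOpen hU
    rw [← hn, htr _ hg, primeAt_genericPoint U hg]
  choose pt hpt hptp using fun p : PrimeSpectrum Γ(X, U.1) => Div89.exists_point U p.asIdeal
  let w := Div89.primeAt U ζ hU
  let A : Type u := X.presheaf.stalk ζ
  letI := Div89.stalkAlg U.1 ζ hU
  haveI : IsLocalization.AtPrime (X.presheaf.stalk ζ) w := Div89.isLocalization_stalk U ζ hU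
  have hδpt : ∀ p : PrimeSpectrum Γ(X, U.1), δ (pt p) = (trdegQuot K p.asIdeal : ℤ) := fun p => by
    rw [htr _ (hpt p), hptp p]
  have hau := haζ.mem_open U.1.isOpen hU
  have hbu := hbζ.mem_open U.1.isOpen hU
  have hcu := hcζ.mem_open U.1.isOpen hU
  let u := Div89.primeAt U a hau
  have hw : ∀ (x : X) (hx : x ∈ U.1), x ⤳ ζ → Div89.primeAt U x hx ≤ w := fun x hx h =>
    (Div89.specializes_iff_primeAt_le U hU hx).1 h
  have hua : δ a = (trdegQuot K u : ℤ) := htr a hau
  have hwζ : δ ζ = (trdegQuot K w : ℤ) := htr ζ hU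
  -- proper intersections, affinely
  have hprop : ∀ (p : X) (hp : p ∈ U.1),
      (∀ η : X, a ⤳ η → p ⤳ η → η ⤳ ζ → δ η ≤ δ a + δ p - n) →
      ∀ η : Ideal Γ(X, U.1), η.IsPrime → u ⊔ Div89.primeAt U p hp ≤ η → η ≤ w →
        trdegQuot K η + trdegQuot K (⊥ : Ideal Γ(X, U.1)) ≤
          trdegQuot K u + trdegQuot K (Div89.primeAt U p hp) := by
    intro p hp hip η hη hle hηw
    have h := hip (pt ⟨η, hη⟩)
      ((Div89.specializes_iff_primeAt_le U (hpt ⟨η, hη⟩) hau).2 (by rw [hptp]; exact le_sup_left.trans hle))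
      ((Div89.specializes_iff_primeAt_le U (hpt ⟨η, hη⟩) hp).2 (by rw [hptp]; exact le_sup_right.trans hle))
      ((Div89.specializes_iff_primeAt_le U hU (hpt ⟨η, hη⟩)).2 ((hptp ⟨η, hη⟩).le.trans hηw))
    rw [hδpt, hua, htr p hp, hn0] at h
    change (trdegQuot K η : ℤ) ≤ _ at h
    omega
  -- the components
  have hfin : ∀ v : Ideal Γ(X, U.1), (∀ η : Ideal Γ(X, U.1), η.IsPrime → u ⊔ v ≤ η → η ≤ w →
        trdegQuot K η + trdegQuot K (⊥ : Ideal Γ(X, U.1)) ≤ trdegQuot K u + trdegQuot K v) →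
      {η : PrimeSpectrum Γ(X, U.1) | u ⊔ v ≤ η.asIdeal ∧ η.asIdeal ≤ w ∧
        trdegQuot K η.asIdeal + trdegQuot K (⊥ : Ideal Γ(X, U.1)) = trdegQuot K u + trdegQuot K v}.Finite := by
    intro v hv
    refine ((Ideal.finite_minimalPrimes_of_isNoetherianRing _ (u ⊔ v)).preimage
      fun p _ q _ h => PrimeSpectrum.ext h).subset fun η hη => ?_
    obtain ⟨h1, h2, h3⟩ := hη
    refine ⟨⟨η.2, h1⟩, fun η' hη' hle => ?_⟩
    haveI := hη'.1
    have h4 := hv η' hη'.1 hη'.2 (hle.trans h2)
    exact (eq_of_le_of_trdegQuot_le (k := K) hle (by omega)).ge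
  -- a product as an affine sum
  have key : ∀ (p q : X) (hp : p ∈ U.1) (hq : q ∈ U.1) (E : Finset (PrimeSpectrum Γ(X, U.1))),
      q ⤳ ζ → δ ζ = δ a + δ p + δ q - 2 * n →
      (∀ η, η ∈ E ↔ u ⊔ Div89.primeAt U p hp ≤ η.asIdeal ∧ η.asIdeal ≤ w ∧
        trdegQuot K η.asIdeal + trdegQuot K (⊥ : Ideal Γ(X, U.1)) =
          trdegQuot K u + trdegQuot K (Div89.primeAt U p hp)) →
      IntMult.interProd δ n (IntMult.interProd δ n (Set.indicator {a} 1) (Set.indicator {p} 1))
          (Set.indicator {q} 1) ζ =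
        ∑ η ∈ E, IntMult.chi (Localization.AtPrime η.asIdeal)
          (Localization.AtPrime η.asIdeal ⧸ u.map (algebraMap Γ(X, U.1) (Localization.AtPrime η.asIdeal)))
          (Localization.AtPrime η.asIdeal ⧸ (Div89.primeAt U p hp).map
            (algebraMap Γ(X, U.1) (Localization.AtPrime η.asIdeal))) *
        IntMult.chi (X.presheaf.stalk ζ)
          (X.presheaf.stalk ζ ⧸ η.asIdeal.map (algebraMap Γ(X, U.1) (X.presheaf.stalk ζ)))
          (X.presheaf.stalk ζ ⧸ (Div89.primeAt U q hq).map (algebraMap Γ(X, U.1) (X.presheaf.stalk ζ))) := by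
    intro p q hp hq E hqζ hdim hE
    have hmem : ∀ η ∈ E, pt η ⤳ ζ ∧ a ⤳ pt η ∧ p ⤳ pt η ∧ δ a + δ p - n = δ (pt η) := fun η hη => by
      obtain ⟨h1, h2, h3⟩ := (hE η).1 hη
      refine ⟨(Div89.specializes_iff_primeAt_le U hU (hpt η)).2 ((hptp η).le.trans h2),
        (Div89.specializes_iff_primeAt_le U (hpt η) hau).2 (by rw [hptp]; exact le_sup_left.trans h1),
        (Div89.specializes_iff_primeAt_le U (hpt η) hp).2 (by rw [hptp]; exact le_sup_right.trans h1), ?_⟩
      rw [hδpt, hua, htr p hp, hn0]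
      change u ⊔ _ ≤ _ at h1
      omega
    have hptinj : Function.Injective pt := fun x y h => by
      apply PrimeSpectrum.ext
      rw [← hptp x, ← hptp y]
      simp only [h]
    rw [interProd_eq_sum δ n _ _ ζ (E.image pt) {q}
      (fun z hz => by obtain ⟨η, hη, rfl⟩ := Finset.mem_image.1 hz; exact (hmem η hη).1)
      (fun z hz => (Finset.mem_singleton.1 hz) ▸ hqζ) (fun z hz hne => ?_)
      (fun z _ hz => Finset.mem_singleton.2 (hone _ _ hz)), Finset.sum_image fun x _ y _ h => hptinj h]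
    swap
    · rw [hfirst] at hne
      split_ifs at hne with h
      swap
      · exact absurd rfl hne
      have hzU := hz.mem_open U.1.isOpen hU
      let η : PrimeSpectrum Γ(X, U.1) := ⟨Div89.primeAt U z hzU, inferInstance⟩
      refine Finset.mem_image.2 ⟨η, (hE η).2 ⟨sup_le ?_ ?_, hw z hzU hz, ?_⟩,
        Div89.primeAt_inj U (hpt η) hzU (hptp η)⟩
      · exact (Div89.specializes_iff_primeAt_le U hzU hau).1 h.1
      · exact (Div89.specializes_iff_primeAt_le U hzU hp).1 h.2.1
      · have := h.2.2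
        rw [htr z hzU, hua, htr p hp, hn0] at this
        show trdegQuot K (Div89.primeAt U z hzU) + _ = trdegQuot K u + _
        omega
    refine Finset.sum_congr rfl fun η hη => ?_
    obtain ⟨h1, h2, h3, h4⟩ := hmem η hη
    rw [Finset.sum_singleton, if_pos (by omega), hfirst, if_pos ⟨h2, h3, h4⟩,
      Set.indicator_of_mem (Set.mem_singleton _)]
    simp only [Pi.one_apply, mul_one]
    have hst : ∀ (x : X) (hx : x ∈ U.1) (y : X) (hy : y ∈ U.1),
        IntMult.stalkIdeal (IntMult.ptIdeal x) y =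
          letI := Div89.stalkAlg U.1 y hy
          (Div89.primeAt U x hx).map (algebraMap Γ(X, U.1) (X.presheaf.stalk y)) := fun x hx y hy => by
      rw [stalkIdeal_eq, Div89.stalkIdeal_eq _ U y hy, ptIdeal_ideal U _ hx]
      rfl
    congr 1
    · letI := Div89.stalkAlg U.1 (pt η) (hpt η)
      haveI : IsLocalization.AtPrime (X.presheaf.stalk (pt η)) η.asIdeal := by
        have h := Div89.isLocalization_stalk U (pt η) (hpt η)
        have he : (Div89.primeAt U (pt η) (hpt η)).primeCompl = η.asIdeal.primeCompl := by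
          ext s; show s ∉ _ ↔ s ∉ _; rw [hptp]
        change IsLocalization (Div89.primeAt U (pt η) (hpt η)).primeCompl (X.presheaf.stalk (pt η)) at h
        rw [he] at h
        exact h
      rw [IntMult.mult, hst a hau _ (hpt η), hst p hp _ (hpt η), LA18.chi_comm]
      exact chi_localization_congr η.asIdeal (Localization.AtPrime η.asIdeal)
        (X.presheaf.stalk (pt η)) u (Div89.primeAt U p hp)
    · rw [IntMult.mult, hst _ (hpt η) ζ hU, hst q hq ζ hU, LA18.chi_comm]
      rw [hptp η]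
  let Eb := (hfin _ (hprop b hbu hab)).toFinset
  let Ec := (hfin _ (hprop c hcu hac)).toFinset
  have hEb := fun η => (hfin _ (hprop b hbu hab)).mem_toFinset (a := η)
  have hEc := fun η => (hfin _ (hprop c hcu hac)).mem_toFinset (a := η)
  rw [key b c hbu hcu Eb hcζ hdimζ hEb, key c b hcu hbu Ec hbζ (by omega) hEc]
  refine assoc_local u (Div89.primeAt U b hbu) (Div89.primeAt U c hcu) w (X.presheaf.stalk ζ)
    (hw b hbu hbζ) (hw c hcu hcζ) (fun η hη hle hηw => ?_) ?_ (hprop b hbu hab) (hprop c hcu hac) Eb Ec hEb hEc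
  · let e : PrimeSpectrum Γ(X, U.1) := ⟨η, hη⟩
    have h1 := (Div89.specializes_iff_primeAt_le U hU (hpt e)).2 ((hptp e).le.trans hηw)
    by_cases hyy : pt e = ζ
    · show e.asIdeal = w
      rw [← hptp e]
      simp only [hyy]
      rfl
    · exfalso
      have h2 := habc (pt e)
        ((Div89.specializes_iff_primeAt_le U (hpt e) hau).2
          (by rw [hptp]; exact (le_sup_left.trans le_sup_left).trans hle))
        ((Div89.specializes_iff_primeAt_le U (hpt e) hbu).2
          (by rw [hptp]; exact (le_sup_right.trans le_sup_left).trans hle))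
        ((Div89.specializes_iff_primeAt_le U (hpt e) hcu).2 (by rw [hptp]; exact le_sup_right.trans hle)) h1
      have := (hX.2.2 _ _ h1 hyy).1
      omega
  · have h1 := hwζ
    have h2 := hua
    have h3 := htr b hbu
    have h4 := htr c hcu
    omega

/-- `(a · b) · c = (a · c) · b` for prime cycles meeting properly. -/
theorem interProd_swap {K : Type u} [Field K] (X : Scheme.{u}) (f : X ⟶ Spec (CommRingCat.of K))
    [Smooth f] [IsIntegral X] (δ : X → ℤ) (hX : Cyc.IsSetup X δ) (hδ : Cyc.DeltaCompat f δ (fun _ => 0))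
    (n : ℤ) (hn : δ (genericPoint X) = n) (a b c : X)
    (hab : IntMult.IntersectProperly δ n (Set.indicator {a} 1) (Set.indicator {b} 1))
    (hac : IntMult.IntersectProperly δ n (Set.indicator {a} 1) (Set.indicator {c} 1))
    (habc : ∀ ζ : X, a ⤳ ζ → b ⤳ ζ → c ⤳ ζ → δ ζ ≤ δ a + δ b + δ c - 2 * n) :
    IntMult.interProd δ n (IntMult.interProd δ n (Set.indicator {a} 1) (Set.indicator {b} 1)) (Set.indicator {c} 1) =
      IntMult.interProd δ n (IntMult.interProd δ n (Set.indicator {a} 1) (Set.indicator {c} 1)) (Set.indicator {b} 1) :=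
  funext fun ζ => interProd_swap_at X f δ hX hδ n hn a b c ζ
    (fun η h1 h2 _ => hab a b η (by simp) (by simp) h1 h2)
    (fun η h1 h2 _ => hac a c η (by simp) (by simp) h1 h2) (fun η h1 h2 h3 _ => habc η h1 h2 h3)

end Groth.Agent.IntMult12
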