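import Groth.Agent.IntMult12.ChiAdd
import Groth.Agent.Len90.Multiplicity
import Mathlib.RingTheory.TensorProduct.Quotient

/-!
# Dévissage of the Tor Euler characteristic at a point
-/

set_option autoImplicit false
set_option linter.style.haveILetI false

universe u

open TensorProduct IsLocalRing

attribute [local instance] HasDerivedCategory.standard

namespace Groth.Agent.IntMult12

variable {S : Type u} [CommRing S] (A : Type u) [CommRing A] [Algebra S A]

theorem mem_support_of_baseChange {M : Type u} [AddCommGroup M] [Module S M] [Module.Finite S M]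
    {v : PrimeSpectrum A} (hv : v ∈ Module.support A (A ⊗[S] M)) :
    PrimeSpectrum.comap (algebraMap S A) v ∈ Module.support S M := by
  rw [Module.mem_support_iff_of_finite] at hv ⊢
  intro a ha
  refine hv (Module.mem_annihilator.2 fun z => ?_)
  induction z using TensorProduct.induction_on with
  | zero => simp
  | tmul b m =>
    rw [IsScalarTower.algebraMap_smul, ← TensorProduct.tmul_smul, Module.mem_annihilator.1 ha m, tmul_zero]
  | add y z hy hz => rw [smul_add, hy, hz, add_zero]

theorem chi_subsingleton_left [IsRegularLocalRing A] (M N : Type u) [AddCommGroup M] [Module A M]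
    [Module.Finite A M] [AddCommGroup N] [Module A N] [Module.Finite A N] [Subsingleton M] :
    IntMult.chi A M N = 0 := by
  refine finsum_eq_zero_of_forall_eq_zero fun i => ?_
  haveI : Subsingleton (DRing.Tor A i M N) := by
    rw [← Module.support_eq_empty_iff (R := A), Set.eq_empty_iff_forall_notMem]
    intro p hp
    have h := (mem_support_of_tor M N i hp).1
    rw [Module.support_eq_empty] at h
    exact h
  simp [Module.length_eq_zero]

variable (w : Ideal S) [w.IsPrime] [IsLocalization.AtPrime A w] [IsNoetherianRing S] [IsRegularLocalRing A]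
include w

/-- Dévissage of `χ` in the first variable. -/
theorem chi_dev_left (N : Type u) [AddCommGroup N] [Module A N] [Module.Finite A N]
    (M : Type u) [AddCommGroup M] [Module S M] [Module.Finite S M] (P : Finset (PrimeSpectrum S))
    (hmin : ∀ p ∈ P, p.asIdeal ≤ w ∧ ∀ p' ∈ Module.support S M, p'.asIdeal ≤ p.asIdeal → p' = p)
    (hgood : ∀ v : PrimeSpectrum A, PrimeSpectrum.comap (algebraMap S A) v ∈ Module.support S M →
      v ∈ Module.support A N → v.asIdeal.IsMaximal)
    (hzero : ∀ p ∈ Module.support S M, p.asIdeal ≤ w → p ∉ P →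
      IntMult.chi A (A ⧸ p.asIdeal.map (algebraMap S A)) N = 0) :
    IntMult.chi A (A ⊗[S] M) N = ∑ p ∈ P, ((Len90.locLen p.asIdeal M).toNat : ℤ) *
      IntMult.chi A (A ⧸ p.asIdeal.map (algebraMap S A)) N := by
  suffices H : ∀ (M' : Type u) [AddCommGroup M'] [Module S M'] [Module.Finite S M'],
      Module.support S M' ⊆ Module.support S M → (∀ p ∈ P, Len90.locLen p.asIdeal M' ≠ ⊤) ∧
      IntMult.chi A (A ⊗[S] M') N = ∑ p ∈ P, ((Len90.locLen p.asIdeal M').toNat : ℤ) *
        IntMult.chi A (A ⧸ p.asIdeal.map (algebraMap S A)) N from (H M subset_rfl).2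
  intro M' _ _ hM'
  induction hM' using IsNoetherianRing.induction_on_isQuotientEquivQuotientPrime S with
  | subsingleton M' =>
    intro _
    have h0 : ∀ p : PrimeSpectrum S, Len90.locLen p.asIdeal M' = 0 := fun p => by
      rw [Len90.locLen, Module.length_eq_zero_iff]
      refine subsingleton_of_forall_eq 0 fun z => ?_
      induction z using LocalizedModule.induction_on with
      | h m s => rw [Subsingleton.elim m 0, LocalizedModule.zero_mk]
    haveI : Subsingleton (A ⊗[S] M') := by
      refine subsingleton_of_forall_eq 0 fun z => ?_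
      induction z using TensorProduct.induction_on with
      | zero => rfl
      | tmul a m => rw [Subsingleton.elim m 0, tmul_zero]
      | add y z hy hz => rw [hy, hz, add_zero]
    refine ⟨fun p _ => by simp [h0], ?_⟩
    rw [chi_subsingleton_left, Finset.sum_eq_zero fun p _ => by simp [h0]]
  | quotient M' p₀ e =>
    intro hsub
    have hp₀ : p₀ ∈ Module.support S M := hsub (by
      rw [e.support_eq, Module.mem_support_iff_of_finite, Ideal.annihilator_quotient])
    have hloc : ∀ p : PrimeSpectrum S, Len90.locLen p.asIdeal M' = Len90.locLen p.asIdeal (S ⧸ p₀.asIdeal) :=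
      fun p => Len90.locLen_congr _ e
    let eA : (A ⊗[S] M') ≃ₗ[A] A ⧸ p₀.asIdeal.map (algebraMap S A) :=
      (TensorProduct.AlgebraTensorModule.congr (LinearEquiv.refl A A) e).trans
        (Algebra.TensorProduct.quotIdealMapEquivTensorQuot A p₀.asIdeal).symm.toLinearEquiv
    have hle : ∀ p ∈ P, p₀.asIdeal ≤ p.asIdeal → p₀ = p := fun p hp h => (hmin p hp).2 p₀ hp₀ h
    have hval : ∀ p ∈ P, p ≠ p₀ → Len90.locLen p.asIdeal M' = 0 := fun p hp hne => by
      rw [hloc]
      exact Len90.locLen_quot_of_not_le _ _ fun h => hne (hle p hp h).symm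
    refine ⟨fun p hp => ?_, ?_⟩
    · by_cases h : p = p₀
      · subst h
        rw [hloc, Len90.locLen_quot_self]
        exact ENat.one_ne_top
      · rw [hval p hp h]
        exact ENat.zero_ne_top
    rw [chi_congr_left N eA]
    by_cases hmem : p₀ ∈ P
    · rw [Finset.sum_eq_single p₀ (fun p hp hne => by simp [hval p hp hne]) (fun h => absurd hmem h), hloc,
        Len90.locLen_quot_self]
      simp
    · rw [Finset.sum_eq_zero fun p hp => by simp [hval p hp (fun h => hmem (h ▸ hp))]]
      by_cases hw : p₀.asIdeal ≤ w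
      · exact hzero p₀ hp₀ hw hmem
      · have htop : p₀.asIdeal.map (algebraMap S A) = ⊤ := by
          obtain ⟨c, hc, hcw⟩ := SetLike.not_le_iff_exists.1 hw
          exact Ideal.eq_top_of_isUnit_mem _ (Ideal.mem_map_of_mem _ hc)
            (IsLocalization.map_units A (⟨c, hcw⟩ : w.primeCompl))
        haveI : Subsingleton (A ⧸ p₀.asIdeal.map (algebraMap S A)) := Ideal.Quotient.subsingleton_iff.2 htop
        exact chi_subsingleton_left A _ N
  | exact M₁ M₂ M₃ f g hf hg hfg ih₁ ih₃ =>
    intro hsub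
    have hs := Module.support_of_exact hfg hf hg
    obtain ⟨t₁, e₁⟩ := ih₁ fun p hp => hsub (hs ▸ Or.inl hp)
    obtain ⟨t₃, e₃⟩ := ih₃ fun p hp => hsub (hs ▸ Or.inr hp)
    have hlen : ∀ p ∈ P, Len90.locLen p.asIdeal M₂ = Len90.locLen p.asIdeal M₁ + Len90.locLen p.asIdeal M₃ :=
      fun p _ => Len90.locLen_exact _ f g hf hg hfg
    refine ⟨fun p hp => ?_, ?_⟩
    · rw [hlen p hp]
      exact WithTop.add_ne_top.2 ⟨t₁ p hp, t₃ p hp⟩
    haveI : Module.Flat S A := IsLocalization.flat A w.primeCompl
    rw [chi_add N (f.baseChange A) (g.baseChange A) (Module.Flat.lTensor_preserves_injective_linearMap f hf)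
      (lTensor_exact A hfg hg) (LinearMap.lTensor_surjective A hg)
      (fun v hv hvN => hgood v (hsub (mem_support_of_baseChange A hv)) hvN), e₁, e₃, ← Finset.sum_add_distrib]
    refine Finset.sum_congr rfl fun p hp => ?_
    rw [hlen p hp, ENat.toNat_add (t₁ p hp) (t₃ p hp)]
    push_cast
    ring

/-- Dévissage of `χ` in both variables. -/
theorem chi_dev (M N : Type u) [AddCommGroup M] [Module S M] [Module.Finite S M] [AddCommGroup N] [Module S N]
    [Module.Finite S N] (P Q : Finset (PrimeSpectrum S))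
    (hP : ∀ p ∈ P, p ∈ Module.support S M ∧ p.asIdeal ≤ w ∧
      ∀ p' ∈ Module.support S M, p'.asIdeal ≤ p.asIdeal → p' = p)
    (hQ : ∀ q ∈ Q, q.asIdeal ≤ w ∧ ∀ q' ∈ Module.support S N, q'.asIdeal ≤ q.asIdeal → q' = q)
    (hgood : ∀ v : PrimeSpectrum S, v ∈ Module.support S M → v ∈ Module.support S N → v.asIdeal ≤ w →
      v.asIdeal = w)
    (hzero : ∀ p ∈ Module.support S M, p.asIdeal ≤ w → ∀ q ∈ Module.support S N, q.asIdeal ≤ w →
      (p ∉ P ∨ q ∉ Q) →
        IntMult.chi A (A ⧸ p.asIdeal.map (algebraMap S A)) (A ⧸ q.asIdeal.map (algebraMap S A)) = 0) :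
    IntMult.chi A (A ⊗[S] M) (A ⊗[S] N) = ∑ p ∈ P, ∑ q ∈ Q,
      ((Len90.locLen p.asIdeal M).toNat : ℤ) * ((Len90.locLen q.asIdeal N).toNat : ℤ) *
        IntMult.chi A (A ⧸ p.asIdeal.map (algebraMap S A)) (A ⧸ q.asIdeal.map (algebraMap S A)) := by
  have hcomap : ∀ v : PrimeSpectrum A, (PrimeSpectrum.comap (algebraMap S A) v).asIdeal ≤ w := fun v => by
    rw [← IsLocalization.AtPrime.under_maximalIdeal A w]
    exact Ideal.comap_mono (le_maximalIdeal v.2.ne_top)
  have hmax : ∀ v : PrimeSpectrum A, (PrimeSpectrum.comap (algebraMap S A) v).asIdeal = w →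
      v.asIdeal.IsMaximal := fun v hv => by
    have : v.asIdeal = maximalIdeal A := by
      refine le_antisymm (le_maximalIdeal v.2.ne_top) ?_
      rw [← IsLocalization.AtPrime.map_eq_maximalIdeal w A, ← hv]
      exact Ideal.map_comap_le
    rw [this]
    exact maximalIdeal.isMaximal A
  -- `χ(A/p, N) = Σ`
  have hinner : ∀ p ∈ Module.support S M, p.asIdeal ≤ w → ∀ Q' : Finset (PrimeSpectrum S),
      (∀ q ∈ Q', q.asIdeal ≤ w ∧ ∀ q' ∈ Module.support S N, q'.asIdeal ≤ q.asIdeal → q' = q) →
      (∀ q ∈ Module.support S N, q.asIdeal ≤ w → q ∉ Q' →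
        IntMult.chi A (A ⧸ p.asIdeal.map (algebraMap S A)) (A ⧸ q.asIdeal.map (algebraMap S A)) = 0) →
      IntMult.chi A (A ⧸ p.asIdeal.map (algebraMap S A)) (A ⊗[S] N) =
        ∑ q ∈ Q', ((Len90.locLen q.asIdeal N).toNat : ℤ) *
          IntMult.chi A (A ⧸ p.asIdeal.map (algebraMap S A)) (A ⧸ q.asIdeal.map (algebraMap S A)) := by
    intro p hp hpw Q' hQ' hz
    rw [LA18.chi_comm, chi_dev_left A w _ N Q' hQ' (fun v hvN hv => hmax v ?_) (fun q hq hqw hqQ => by
      rw [LA18.chi_comm]; exact hz q hq hqw hqQ)]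
    · exact Finset.sum_congr rfl fun q _ => by
        rw [LA18.chi_comm (A ⧸ q.asIdeal.map (algebraMap S A)) (A ⧸ p.asIdeal.map (algebraMap S A))]
    · refine hgood _ ?_ hvN (hcomap v)
      rw [Module.support_eq_zeroLocus, PrimeSpectrum.mem_zeroLocus, SetLike.coe_subset_coe,
        Ideal.annihilator_quotient, Ideal.map_le_iff_le_comap] at hv
      exact Module.mem_support_mono (p := p) (q := PrimeSpectrum.comap (algebraMap S A) v) hv hp
  rw [chi_dev_left A w (A ⊗[S] N) M P (fun p hp => (hP p hp).2)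
    (fun v hvM hvN => hmax v (hgood _ hvM (mem_support_of_baseChange A hvN) (hcomap v)))
    (fun p hp hpw hpP => by
      rw [hinner p hp hpw ∅ (by simp) (fun q hq hqw _ => hzero p hp hpw q hq hqw (Or.inl hpP)),
        Finset.sum_empty])]
  refine Finset.sum_congr rfl fun p hp => ?_
  rw [hinner p (hP p hp).1 (hP p hp).2.1 Q hQ (fun q hq hqw hqQ =>
    hzero p (hP p hp).1 (hP p hp).2.1 q hq hqw (Or.inr hqQ)), Finset.mul_sum]
  exact Finset.sum_congr rfl fun q _ => by ring

end Groth.Agent.IntMult12
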