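import Groth.Agent.IntMult12.ThetaRec
import Groth.Agent.IntMult12.ChiDev

/-!
# Dévissage of the Koszul characteristic of a derived tensor product
-/

set_option autoImplicit false
set_option linter.style.haveILetI false
set_option linter.unusedSectionVars false

universe u

open IsLocalRing TensorProduct
open scoped Pointwise

attribute [local instance] HasDerivedCategory.standard

namespace Groth.Agent.IntMult12

namespace Theta

variable {R : Type u} [CommRing R]

section Loc

variable (S : Submonoid R) (X : Type u) [AddCommGroup X] [Module R X] (f : R)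

theorem map_lsmul (z : LocalizedModule S X) :
    LocalizedModule.map S (LinearMap.lsmul R X f) z = algebraMap R (Localization S) f • z := by
  induction z using LocalizedModule.induction_on with
  | h m s => rw [LocalizedModule.map_mk, algebraMap_smul, LocalizedModule.smul'_mk]; rfl

/-- localization commutes with kernels of multiplications -/
theorem nonempty_ker_equiv :
    Nonempty (LocalizedModule S (LC17.Ker f X) ≃ₗ[Localization S]
      LC17.Ker (algebraMap R (Localization S) f) (LocalizedModule S X)) := by
  let i : LC17.Ker f X →ₗ[R] X := Submodule.subtype _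
  let iS := LocalizedModule.map S i
  have hi : Function.Injective iS := IsLocalizedModule.map_injective S
    (LocalizedModule.mkLinearMap S _) (LocalizedModule.mkLinearMap S X) i Subtype.val_injective
  have hex : Function.Exact iS (LocalizedModule.map S (LinearMap.lsmul R X f)) :=
    IsLocalizedModule.map_exact S (LocalizedModule.mkLinearMap S _) (LocalizedModule.mkLinearMap S X)
      (LocalizedModule.mkLinearMap S X) i (LinearMap.lsmul R X f) (LinearMap.exact_subtype_ker_map _)
  refine ⟨(LinearEquiv.ofInjective iS hi).trans (LinearEquiv.ofEq _ _ ?_)⟩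
  ext z
  rw [LinearMap.mem_range, LinearMap.mem_ker, LinearMap.lsmul_apply, ← map_lsmul]
  exact (hex z).symm

/-- localization commutes with cokernels of multiplications -/
theorem nonempty_cok_equiv :
    Nonempty (LocalizedModule S (LC17.Cok f X) ≃ₗ[Localization S]
      LC17.Cok (algebraMap R (Localization S) f) (LocalizedModule S X)) := by
  let q : X →ₗ[R] LC17.Cok f X := Submodule.mkQ _
  let qS := LocalizedModule.map S q
  have hq : Function.Surjective qS := IsLocalizedModule.map_surjective S
    (LocalizedModule.mkLinearMap S X) (LocalizedModule.mkLinearMap S _) q (Submodule.mkQ_surjective _)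
  have hex : Function.Exact (LocalizedModule.map S (LinearMap.lsmul R X f)) qS :=
    IsLocalizedModule.map_exact S (LocalizedModule.mkLinearMap S X) (LocalizedModule.mkLinearMap S X)
      (LocalizedModule.mkLinearMap S _) (LinearMap.lsmul R X f) q (LinearMap.exact_map_mkQ_range _)
  refine ⟨(qS.quotKerEquivOfSurjective hq).symm.trans (Submodule.quotEquivOfEq _ _ ?_)⟩
  ext z
  rw [LinearMap.mem_ker, LinearMap.mem_range]
  refine (hex z).trans (exists_congr fun y => ?_)
  rw [map_lsmul, LinearMap.lsmul_apply]

end Loc

variable [IsRegularLocalRing R] {N : Type u} [AddCommGroup N] [Module R N] [Module.Finite R N]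

theorem theta_nil {X : Type u} [AddCommGroup X] [Module R X] :
    theta ([] : List R) X N = IntMult.chi R X N :=
  finsum_congr fun i => by rw [LC17.chi_nil]; rfl

/-- The Koszul characteristic of `X ⊗ᴸ N` through the components of `supp X ∩ V(l)`. -/
theorem theta_master : ∀ (l : List R) (X : Type u) [AddCommGroup X] [Module R X] [Module.Finite R X],
    TGood l X N → ∀ S : Finset (PrimeSpectrum R),
    (∀ P ∈ S, ∀ P' ∈ Module.support R X, Ideal.ofList l ≤ P'.asIdeal → P'.asIdeal ≤ P.asIdeal → P' = P) →
    (∀ Q ∈ Module.support R X, Ideal.ofList l ≤ Q.asIdeal → Q ∉ S → IntMult.chi R (R ⧸ Q.asIdeal) N = 0) →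
    theta l X N = ∑ P ∈ S,
      LC17.chi (l.map (algebraMap R (Localization.AtPrime P.asIdeal)))
        (LocalizedModule P.asIdeal.primeCompl X) * IntMult.chi R (R ⧸ P.asIdeal) N
  | [], X, _, _, _, h, S, hmin, hzero => by
    haveI : IsLocalization.AtPrime R (maximalIdeal R) := IsLocalization.of_le_isUnit fun x hx =>
      not_not.1 fun hu => hx ((mem_maximalIdeal x).2 hu)
    have hb : (Ideal.ofList ([] : List R)) = ⊥ := Ideal.ofList_nil
    have key := chi_dev_left R (maximalIdeal R) N X S
      (fun P hP => ⟨le_maximalIdeal P.2.ne_top, fun P' hP' => hmin P hP P' hP' (hb.trans_le bot_le)⟩)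
      (fun v hv hvN => h v (by simpa using hv) hvN (hb.trans_le bot_le))
      (fun Q hQ _ hQS => by
        rw [Algebra.algebraMap_self, Ideal.map_id]
        exact hzero Q hQ (hb.trans_le bot_le) hQS)
    rw [theta_nil, ← chi_congr_left N (TensorProduct.lid R X), key]
    refine Finset.sum_congr rfl fun P _ => ?_
    rw [Algebra.algebraMap_self, Ideal.map_id, List.map_nil, LC17.chi_nil]
    rfl
  | f :: l, X, _, _, _, h, S, hmin, hzero => by
    have hsup : ∀ (Y : Type u) [AddCommGroup Y] [Module R Y],
        Module.support R Y ⊆ Module.support R X → (∀ y : Y, f • y = 0) →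
        ∀ Q ∈ Module.support R Y, Ideal.ofList l ≤ Q.asIdeal →
          Q ∈ Module.support R X ∧ Ideal.ofList (f :: l) ≤ Q.asIdeal :=
      fun Y _ _ hs hf Q hQ hl => ⟨hs hQ, by
        rw [Ideal.ofList_cons, sup_le_iff, Ideal.span_singleton_le_iff_mem]
        exact ⟨LA18.mem_of_smul_eq_zero_of_mem_support hf hQ, hl⟩⟩
    have key : ∀ (Y : Type u) [AddCommGroup Y] [Module R Y] [Module.Finite R Y],
        Module.support R Y ⊆ Module.support R X → (∀ y : Y, f • y = 0) →
        theta l Y N = ∑ P ∈ S, LC17.chi (l.map (algebraMap R (Localization.AtPrime P.asIdeal)))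
          (LocalizedModule P.asIdeal.primeCompl Y) * IntMult.chi R (R ⧸ P.asIdeal) N :=
      fun Y _ _ _ hs hf => theta_master l Y (h.tail hs 1 fun y => by rw [pow_one]; exact hf y) S
        (fun P hP P' hP' hl hle => hmin P hP P' (hsup Y hs hf P' hP' hl).1 (hsup Y hs hf P' hP' hl).2 hle)
        (fun Q hQ hl hQS => hzero Q (hsup Y hs hf Q hQ hl).1 (hsup Y hs hf Q hQ hl).2 hQS)
    rw [theta_cons h,
      key (LC17.Cok f X) (Module.support_subset_of_surjective (Submodule.mkQ _) (Submodule.mkQ_surjective _))
        (fun y => by
          obtain ⟨y, rfl⟩ := Submodule.Quotient.mk_surjective _ y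
          exact (Submodule.Quotient.mk_eq_zero _).2 ⟨y, rfl⟩),
      key (LC17.Ker f X) (Module.support_subset_of_injective (Submodule.subtype _) Subtype.val_injective)
        (fun y => Subtype.ext (LinearMap.mem_ker.1 y.2)), ← Finset.sum_sub_distrib]
    refine Finset.sum_congr rfl fun P hP => ?_
    rw [← sub_mul]
    congr 1
    let C := P.asIdeal.primeCompl
    haveI : Module.Finite (Localization C) (LocalizedModule C X) :=
      Module.Finite.of_isLocalizedModule C (LocalizedModule.mkLinearMap C X)
    haveI : IsNoetherianRing (Localization.AtPrime P.asIdeal) :=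
      IsLocalization.isNoetherianRing P.asIdeal.primeCompl _ inferInstance
    have hG : LC17.Good (algebraMap R (Localization.AtPrime P.asIdeal) f ::
        l.map (algebraMap R (Localization.AtPrime P.asIdeal))) (LocalizedModule P.asIdeal.primeCompl X) := by
      intro v hv hlv
      let v₀ : PrimeSpectrum R := PrimeSpectrum.comap (algebraMap R (Localization.AtPrime P.asIdeal)) v
      have hv₀ : v₀ ∈ Module.support R X := by
        rw [Module.mem_support_iff_of_finite]
        intro a ha
        refine Module.mem_support_iff_of_finite.1 hv (Module.mem_annihilator.2 fun z => ?_)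
        induction z using LocalizedModule.induction_on with
        | h m s => rw [algebraMap_smul, LocalizedModule.smul'_mk, Module.mem_annihilator.1 ha m,
            LocalizedModule.zero_mk]
      have hl₀ : Ideal.ofList (f :: l) ≤ v₀.asIdeal := by
        rw [← List.map_cons, ← Ideal.map_ofList, Ideal.map_le_iff_le_comap] at hlv
        exact hlv
      have hle : v₀.asIdeal ≤ P.asIdeal := by
        rw [← IsLocalization.AtPrime.under_maximalIdeal (Localization.AtPrime P.asIdeal) P.asIdeal]
        exact Ideal.comap_mono (le_maximalIdeal v.2.ne_top)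
      have heq := hmin P hP v₀ hv₀ hl₀ hle
      have : v.asIdeal = maximalIdeal (Localization.AtPrime P.asIdeal) := by
        refine le_antisymm (le_maximalIdeal v.2.ne_top) ?_
        rw [← IsLocalization.AtPrime.map_eq_maximalIdeal P.asIdeal (Localization.AtPrime P.asIdeal),
          Ideal.map_le_iff_le_comap]
        exact (congrArg PrimeSpectrum.asIdeal heq).ge
      rw [this]
      exact maximalIdeal.isMaximal _
    rw [List.map_cons, LA18.chi_cons_split hG]
    congr 1
    · exact LC17.chi_congr _ (nonempty_cok_equiv C X f).some
    · exact LC17.chi_congr _ (nonempty_ker_equiv C X f).some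

end Theta

end Groth.Agent.IntMult12
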