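import Groth.Agent.IntMult12.Diag
import Groth.Agent.IntMult12.TorFlat
import Groth.Agent.IntMult12.ThetaMaster
import Groth.Agent.IntMult12.KoszulTor
import Mathlib.RingTheory.Regular.Flat
import Mathlib.RingTheory.Localization.LocalizationLocalization

/-!
# The associativity formula at a component of a proper triple intersection
-/

set_option autoImplicit false
set_option linter.style.haveILetI false
set_option linter.unusedSectionVars false

universe u

open TensorProduct IsLocalRing RingTheory.Sequence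
open scoped Pointwise

attribute [local instance] HasDerivedCategory.standard

namespace Groth.Agent.IntMult12

open CAlgH2 (trdegQuot)

variable {k : Type u} [Field k] {S : Type u} [CommRing S] [Algebra k S] [Algebra.FiniteType k S]

theorem trdegQuot_lt_of_lt {p q : Ideal S} [p.IsPrime] [q.IsPrime] (h : p < q) :
    trdegQuot k q < trdegQuot k p := by
  have h1 := CAlgH2.height_add_trdegQuot k p q h.le
  haveI := Ideal.isPrime_map_quotientMk_of_isPrime h.le
  have h2 : (1 : ℕ∞) ≤ (q.map (Ideal.Quotient.mk p)).height := by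
    refine Order.one_le_iff_pos.2 (pos_iff_ne_zero.2 fun h0 => h.ne' ?_)
    rw [Ideal.height_eq_zero_iff_eq_bot] at h0
    rw [← sup_eq_right.2 h.le, ← Ideal.comap_map_quotientMk, h0]
    exact Ideal.mk_ker
  have h3 : ((1 + trdegQuot k q : ℕ) : ℕ∞) ≤ (trdegQuot k p : ℕ∞) := by
    rw [← h1, Nat.cast_add, Nat.cast_one]; exact add_le_add h2 le_rfl
  have : 1 + trdegQuot k q ≤ trdegQuot k p := by exact_mod_cast h3
  omega

theorem eq_of_le_of_trdegQuot_le {p q : Ideal S} [p.IsPrime] [q.IsPrime] (h : p ≤ q)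
    (ht : trdegQuot k p ≤ trdegQuot k q) : p = q :=
  h.eq_or_lt.resolve_right fun hlt => absurd (trdegQuot_lt_of_lt (k := k) hlt) (by omega)

omit [Algebra.FiniteType k S] in
/-- the right factor is flat over the left one -/
theorem flat_quot_right (w : Ideal S) [w.IsPrime] (A : Type u) [CommRing A] [Algebra S A]
    [IsLocalization.AtPrime A w] (W₀ : Ideal (S ⊗[k] S)) [W₀.IsPrime]
    (R : Type u) [CommRing R] [Algebra (S ⊗[k] S) R] [IsLocalization.AtPrime R W₀] [Algebra A R]
    (hι : ∀ s, algebraMap A R (algebraMap S A s) =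
      algebraMap (S ⊗[k] S) R ((Algebra.TensorProduct.includeLeft : S →ₐ[k] S ⊗[k] S) s))
    (q : Ideal S) :
    Module.Flat A (R ⧸ (q.map (Algebra.TensorProduct.includeRight (R := k) (A := S) (B := S))).map
      (algebraMap (S ⊗[k] S) R)) := by
  let iL : S →ₐ[k] S ⊗[k] S := Algebra.TensorProduct.includeLeft
  let iR : S →ₐ[k] S ⊗[k] S := Algebra.TensorProduct.includeRight
  let φ := algebraMap (S ⊗[k] S) R
  letI : Algebra S R := (φ.comp iL.toRingHom).toAlgebra
  haveI : IsScalarTower S A R := IsScalarTower.of_algebraMap_eq fun s => (hι s).symm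
  haveI : IsScalarTower S (S ⊗[k] S) R := IsScalarTower.of_algebraMap_eq fun s => rfl
  let Q0 : Ideal (S ⊗[k] S) := q.map iR
  let Q' : Ideal R := Q0.map φ
  have h1 : Module.Flat S (S ⊗[k] S ⧸ Q0) :=
    Module.Flat.of_linearEquiv (Algebra.TensorProduct.tensorQuotientEquiv (R := k) S S S q).symm.toLinearEquiv
  have h2 : Module.Flat (S ⊗[k] S ⧸ Q0) (R ⧸ Q') :=
    IsLocalization.flat (R ⧸ Q') (Algebra.algebraMapSubmonoid (S ⊗[k] S ⧸ Q0) W₀.primeCompl)
  haveI : IsScalarTower S (S ⊗[k] S ⧸ Q0) (R ⧸ Q') := by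
    refine ⟨fun c y z => ?_⟩
    obtain ⟨y, rfl⟩ := Ideal.Quotient.mk_surjective y
    obtain ⟨z, rfl⟩ := Ideal.Quotient.mk_surjective z
    rw [show c • Ideal.Quotient.mk Q0 y = Ideal.Quotient.mk Q0 (c • y) from rfl,
      Algebra.smul_def (Ideal.Quotient.mk Q0 (c • y)), Algebra.smul_def (Ideal.Quotient.mk Q0 y),
      Ideal.Quotient.algebraMap_quotient_map_quotient, Ideal.Quotient.algebraMap_quotient_map_quotient,
      ← map_mul, ← map_mul]
    show Ideal.Quotient.mk Q' (φ (c • y) * z) = Ideal.Quotient.mk Q' (c • (φ y * z))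
    rw [Algebra.smul_def, Algebra.smul_def, IsScalarTower.algebraMap_apply S (S ⊗[k] S) R, φ.map_mul, mul_assoc]
  have h3 : Module.Flat S (R ⧸ Q') := Module.Flat.trans S (S ⊗[k] S ⧸ Q0) (R ⧸ Q')
  exact (Module.flat_iff_of_isLocalization A w.primeCompl (R ⧸ Q')).2 h3

omit [Algebra.FiniteType k S] in
/-- the intersection inside the product -/
theorem nonempty_quot_tensor_equiv {A R : Type u} [CommRing A] [CommRing R] [Algebra A R] (Q' : Ideal R)
    (P : Ideal A) :
    Nonempty ((R ⧸ (Q' ⊔ P.map (algebraMap A R))) ≃ₗ[R] (R ⧸ Q') ⊗[A] (A ⧸ P)) := by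
  let T : Type u := (R ⧸ Q') ⊗[A] (A ⧸ P)
  let τ : R →ₗ[R] T := LinearMap.toSpanSingleton R T ((1 : R ⧸ Q') ⊗ₜ[A] (1 : A ⧸ P))
  have hτapp : ∀ r, τ r = Ideal.Quotient.mk Q' r ⊗ₜ[A] (1 : A ⧸ P) := fun r => by
    simp only [τ, LinearMap.toSpanSingleton_apply]
    rw [TensorProduct.smul_tmul']
    congr 1
    show Ideal.Quotient.mk Q' (r • (1 : R)) = _
    rw [smul_eq_mul, mul_one]
  have hτs : Function.Surjective τ := fun z => by
    induction z using TensorProduct.induction_on with
    | zero => exact ⟨0, map_zero _⟩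
    | tmul m c =>
      obtain ⟨r, rfl⟩ := Ideal.Quotient.mk_surjective m
      obtain ⟨c, rfl⟩ := Ideal.Quotient.mk_surjective c
      refine ⟨algebraMap A R c * r, ?_⟩
      rw [hτapp, show (Ideal.Quotient.mk P c) = c • (1 : A ⧸ P) by rw [Algebra.smul_def, mul_one]; rfl,
        ← TensorProduct.smul_tmul]
      congr 1
      rw [← Ideal.Quotient.mk_eq_mk, ← Ideal.Quotient.mk_eq_mk, Algebra.smul_def]
      rfl
    | add a b ha hb =>
      obtain ⟨a', rfl⟩ := ha; obtain ⟨b', rfl⟩ := hb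
      exact ⟨a' + b', map_add _ _ _⟩
  have hτk : LinearMap.ker τ = Q' ⊔ P.map (algebraMap A R) := by
    ext r
    rw [LinearMap.mem_ker, hτapp]
    have h1 : Ideal.Quotient.mk Q' r ⊗ₜ[A] (1 : A ⧸ P) = 0 ↔
        Ideal.Quotient.mk Q' r ∈ (P • ⊤ : Submodule A (R ⧸ Q')) := by
      have h2 := TensorProduct.tensorQuotEquivQuotSMul_tmul_mk P (Ideal.Quotient.mk Q' r) (1 : A)
      rw [map_one, one_smul] at h2
      rw [← (TensorProduct.tensorQuotEquivQuotSMul (R ⧸ Q') P).map_eq_zero_iff, h2,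
        Submodule.Quotient.mk_eq_zero]
    rw [h1, ← EGA4Alg4.FlatReg13.mem_smul_top_iff (B := R), smul_top_quotient' Q' (P.map (algebraMap A R))]
    constructor
    · rintro ⟨z, hz, hzr⟩
      have : r = z - (z - r) := (sub_sub_cancel z r).symm
      rw [this]
      exact sub_mem hz (Ideal.mem_sup_left ((Ideal.Quotient.eq).1 hzr))
    · exact fun hr => ⟨r, hr, rfl⟩
  exact ⟨(Submodule.quotEquivOfEq _ _ hτk.symm).trans (τ.quotKerEquivOfSurjective hτs)⟩

variable [IsDomain S] [Algebra.Smooth k S]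

/-- The derived intersection of `u`, `v`, `t` at `w` through the components of `u ∩ v`. -/
theorem theta_eval (u v t w : Ideal S) [u.IsPrime] [v.IsPrime] [t.IsPrime] [w.IsPrime]
    (A : Type u) [CommRing A] [Algebra S A] [IsLocalization.AtPrime A w] [IsRegularLocalRing A]
    (W₀ : Ideal (S ⊗[k] S)) [W₀.IsPrime]
    (R : Type u) [CommRing R] [Algebra (S ⊗[k] S) R] [IsLocalization.AtPrime R W₀] [IsRegularLocalRing R]
    [Algebra A R]
    (hι : ∀ s, algebraMap A R (algebraMap S A s) =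
      algebraMap (S ⊗[k] S) R ((Algebra.TensorProduct.includeLeft : S →ₐ[k] S ⊗[k] S) s))
    (π : R →ₐ[A] A)
    (hπ : ∀ z, π (algebraMap (S ⊗[k] S) R z) = algebraMap S A (Algebra.TensorProduct.lmul' k (S := S) z))
    (l : List R) (hker : RingHom.ker π = Ideal.ofList l) (hreg : IsWeaklyRegular R l)
    (hlK : Ideal.ofList l = (KaehlerDifferential.ideal k S).map (algebraMap (S ⊗[k] S) R))
    (htw : t ≤ w) (hwmin : ∀ η : Ideal S, η.IsPrime → u ⊔ v ⊔ t ≤ η → η ≤ w → η = w)
    (hdim : trdegQuot k u + trdegQuot k v + trdegQuot k t = trdegQuot k w + 2 * trdegQuot k (⊥ : Ideal S))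
    (hprop : ∀ η : Ideal S, η.IsPrime → u ⊔ v ≤ η → η ≤ w →
      trdegQuot k η + trdegQuot k (⊥ : Ideal S) ≤ trdegQuot k u + trdegQuot k v)
    (E : Finset (PrimeSpectrum S))
    (hE : ∀ η, η ∈ E ↔ u ⊔ v ≤ η.asIdeal ∧ η.asIdeal ≤ w ∧
      trdegQuot k η.asIdeal + trdegQuot k (⊥ : Ideal S) = trdegQuot k u + trdegQuot k v) :
    Theta.theta l ((R ⧸ (u.map (Algebra.TensorProduct.includeRight (R := k) (A := S) (B := S))).map
        (algebraMap (S ⊗[k] S) R)) ⊗[A] (A ⧸ v.map (algebraMap S A)))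
        (R ⊗[A] (A ⧸ t.map (algebraMap S A))) =
      ∑ η ∈ E, IntMult.chi (Localization.AtPrime η.asIdeal)
          (Localization.AtPrime η.asIdeal ⧸ u.map (algebraMap S (Localization.AtPrime η.asIdeal)))
          (Localization.AtPrime η.asIdeal ⧸ v.map (algebraMap S (Localization.AtPrime η.asIdeal))) *
        IntMult.chi A (A ⧸ η.asIdeal.map (algebraMap S A)) (A ⧸ t.map (algebraMap S A)) := by
  classical
  let iL : S →ₐ[k] S ⊗[k] S := Algebra.TensorProduct.includeLeft
  let iR : S →ₐ[k] S ⊗[k] S := Algebra.TensorProduct.includeRight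
  let μ : S ⊗[k] S →ₐ[k] S := Algebra.TensorProduct.lmul' k (S := S)
  let φ := algebraMap (S ⊗[k] S) R
  let α := algebraMap S A
  have hμL : ∀ s, μ (iL s) = s := fun s => by simp [μ, iL]
  have hμR : ∀ s, μ (iR s) = s := fun s => by simp [μ, iR]
  haveI : Module.Flat A R := by
    haveI := flat_quot_right w A W₀ R hι ⊥
    exact Module.Flat.of_linearEquiv ((Submodule.quotEquivOfEqBot
      (((⊥ : Ideal S).map (Algebra.TensorProduct.includeRight (R := k) (A := S) (B := S))).map
        (algebraMap (S ⊗[k] S) R)) (by simp)).restrictScalars A).symm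
  let Q' : Ideal R := (u.map iR).map φ
  let P : Ideal A := v.map α
  let P' : Ideal R := (v.map iL).map φ
  let X : Type u := (R ⧸ Q') ⊗[A] (A ⧸ P)
  let N : Type u := R ⊗[A] (A ⧸ t.map α)
  have hP' : P.map (algebraMap A R) = P' := by
    simp only [P, P']
    rw [Ideal.map_map, show (algebraMap A R).comp α = φ.comp iL.toRingHom from RingHom.ext hι, ← Ideal.map_map]
    rfl
  obtain ⟨eT⟩ : Nonempty ((R ⧸ (Q' ⊔ P')) ≃ₗ[R] X) := hP' ▸ nonempty_quot_tensor_equiv Q' P
  haveI : Module.Finite R X := Module.Finite.equiv eT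
  haveI : Module.Finite R N := Module.Finite.base_change A R _
  -- primes containing the diagonal
  have hπs : Function.Surjective π := fun z => ⟨algebraMap A R z, π.commutes z⟩
  let Pη : Ideal S → Ideal R := fun η => (η.map α).comap π
  have hαη : ∀ η : Ideal S, η.IsPrime → η ≤ w → (η.map α).IsPrime ∧ (η.map α).comap α = η := fun η hη hle =>
    ⟨IsLocalization.isPrime_of_isPrime_disjoint w.primeCompl A η hη
      (Set.disjoint_left.2 fun y hy hy' => hy (hle hy')),
     IsLocalization.comap_map_of_isPrime_disjoint w.primeCompl A hη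
      (Set.disjoint_left.2 fun y hy hy' => hy (hle hy'))⟩
  have hPφ : ∀ η : Ideal S, η.IsPrime → η ≤ w → ∀ z, φ z ∈ Pη η ↔ μ z ∈ η := fun η hη hle z => by
    show π (φ z) ∈ η.map α ↔ _
    rw [hπ, ← Ideal.mem_comap, (hαη η hη hle).2]
  have hdecomp : ∀ p : PrimeSpectrum R, Ideal.ofList l ≤ p.asIdeal → ∃ η : Ideal S, η.IsPrime ∧ η ≤ w ∧
      p.asIdeal = Pη η := by
    intro p hp
    have hkp : RingHom.ker π ≤ p.asIdeal := hker ▸ hp
    haveI : (p.asIdeal.map π).IsPrime := Ideal.map_isPrime_of_surjective hπs hkp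
    refine ⟨(p.asIdeal.map π).comap α, Ideal.IsPrime.comap _, ?_, ?_⟩
    · rw [← IsLocalization.AtPrime.under_maximalIdeal A w]
      exact Ideal.comap_mono (le_maximalIdeal (Ideal.IsPrime.ne_top ‹_›))
    · show p.asIdeal = (((p.asIdeal.map π).comap α).map α).comap π
      rw [IsLocalization.map_comap w.primeCompl A (p.asIdeal.map π), Ideal.comap_map_of_surjective π hπs,
        ← RingHom.ker_eq_comap_bot, sup_eq_left.2 hkp]
  have hsuppX : ∀ p : PrimeSpectrum R, p ∈ Module.support R X → Q' ⊔ P' ≤ p.asIdeal := fun p hp => by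
    rwa [← eT.support_eq, Module.support_eq_zeroLocus, PrimeSpectrum.mem_zeroLocus, SetLike.coe_subset_coe,
      Ideal.annihilator_quotient] at hp
  have huv : ∀ η : Ideal S, η.IsPrime → η ≤ w → Q' ⊔ P' ≤ Pη η → u ⊔ v ≤ η := by
    intro η hη hle h
    refine sup_le (fun s hs => ?_) (fun s hs => ?_)
    · have := (hPφ η hη hle (iR s)).1 (le_sup_left.trans h (Ideal.mem_map_of_mem _ (Ideal.mem_map_of_mem _ hs)))
      rwa [hμR] at this
    · have := (hPφ η hη hle (iL s)).1 (le_sup_right.trans h (Ideal.mem_map_of_mem _ (Ideal.mem_map_of_mem _ hs)))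
      rwa [hμL] at this
  have hmax : (Pη w).IsMaximal := by
    show ((w.map α).comap π).IsMaximal
    rw [IsLocalization.AtPrime.map_eq_maximalIdeal w A]
    exact Ideal.comap_isMaximal_of_surjective π hπs
  have hG : Theta.TGood l X N := by
    intro p hp hpN hl
    obtain ⟨η, hη, hle, he⟩ := hdecomp p hl
    have ht := mem_support_of_baseChange R hpN
    rw [Module.support_eq_zeroLocus, PrimeSpectrum.mem_zeroLocus, SetLike.coe_subset_coe,
      Ideal.annihilator_quotient, Ideal.map_le_iff_le_comap] at ht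
    have htη : t ≤ η := fun s hs => by
      have h1 : algebraMap A R (α s) ∈ p.asIdeal := ht hs
      rw [hι, he] at h1
      have := (hPφ η hη hle (iL s)).1 h1
      rwa [hμL] at this
    rw [he, hwmin η hη (sup_le (huv η hη hle (he ▸ hsuppX p hp)) htη) hle]
    exact hmax
  -- the components
  let toR : {η // η ∈ E} → PrimeSpectrum R := fun η =>
    ⟨Pη η.1.asIdeal, haveI := (hαη _ η.1.2 ((hE η.1).1 η.2).2.1).1; Ideal.IsPrime.comap π⟩
  have hinj : Function.Injective toR := by
    intro a b h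
    refine Subtype.ext (PrimeSpectrum.ext ?_)
    have h' : Pη a.1.asIdeal = Pη b.1.asIdeal := congrArg PrimeSpectrum.asIdeal h
    have h2 := Ideal.comap_injective_of_surjective π hπs h'
    rw [← (hαη _ a.1.2 ((hE a.1).1 a.2).2.1).2, ← (hαη _ b.1.2 ((hE b.1).1 b.2).2.1).2, h2]
  have hmono : ∀ η η' : Ideal S, η.IsPrime → η ≤ w → η'.IsPrime → η' ≤ w → Pη η' ≤ Pη η → η' ≤ η :=
    fun η η' hη hle hη' hle' h s hs => by
      have h1 : φ (iL s) ∈ Pη η' := (hPφ η' hη' hle' _).2 (by rwa [hμL])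
      have := (hPφ η hη hle _).1 (h h1)
      rwa [hμL] at this
  let S' : Finset (PrimeSpectrum R) := E.attach.image toR
  rw [Theta.theta_master l X hG S' (fun p hp p' hp' hl' hle' => ?_) (fun Q hQ hl hQS => ?_),
    Finset.sum_image fun a _ b _ h => hinj h, ← Finset.sum_attach E]
  · refine Finset.sum_congr rfl fun η _ => ?_
    obtain ⟨⟨η, hηp⟩, hmem⟩ := η
    obtain ⟨h1, h2, h3⟩ := (hE _).1 hmem
    change u ⊔ v ≤ η at h1
    change η ≤ w at h2
    change trdegQuot k η + _ = _ at h3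
    congr 1
    · -- the multiplicity of `η`
      let p : Ideal R := Pη η
      haveI hpp : p.IsPrime := (toR ⟨⟨η, hηp⟩, hmem⟩).2
      let Wη : Ideal (S ⊗[k] S) := η.comap μ
      haveI : Wη.IsPrime := Ideal.IsPrime.comap _
      have hWη : p.comap φ = Wη := Ideal.ext fun z => hPφ η hηp h2 z
      let Rp := Localization.AtPrime p
      haveI : IsLocalization.AtPrime Rp Wη := by
        have h := IsLocalization.isLocalization_isLocalization_atPrime_isLocalization W₀.primeCompl Rp p
        have e : (p.comap φ).primeCompl = Wη.primeCompl := by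
          ext z; show z ∉ p.comap φ ↔ z ∉ Wη; rw [hWη]
        change IsLocalization (p.comap φ).primeCompl Rp at h
        rw [e] at h
        exact h
      have hηmin : η ∈ (v ⊔ u).minimalPrimes := by
        refine ⟨⟨hηp, sup_comm v u ▸ h1⟩, fun η' hη' hle => ?_⟩
        haveI := hη'.1
        have h4 := hprop η' hη'.1 (sup_comm u v ▸ hη'.2) (hle.trans h2)
        exact (eq_of_le_of_trdegQuot_le (k := k) hle (by omega)).ge
      obtain ⟨l', -, hl'K, hl'reg, hchi, -, -⟩ :=
        diag_chi' v u η hηmin (Localization.AtPrime η) Wη rfl Rp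
      haveI : Module.Flat R Rp := IsLocalization.flat Rp p.primeCompl
      have hreg' : IsWeaklyRegular Rp (l.map (algebraMap R Rp)) := IsWeaklyRegular.of_flat hreg
      have hlK' : Ideal.ofList (l.map (algebraMap R Rp)) =
          (KaehlerDifferential.ideal k S).map (algebraMap (S ⊗[k] S) Rp) := by
        rw [← Ideal.map_ofList, hlK, Ideal.map_map, ← IsScalarTower.algebraMap_eq]
      let J : Ideal Rp := (u.map iR).map (algebraMap (S ⊗[k] S) Rp) ⊔ (v.map iL).map (algebraMap (S ⊗[k] S) Rp)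
      have hJ : (Q' ⊔ P').map (algebraMap R Rp) = J := by
        rw [Ideal.map_sup, Ideal.map_map, Ideal.map_map, ← IsScalarTower.algebraMap_eq]
      let eX : LocalizedModule p.primeCompl X ≃ₗ[Rp] Rp ⧸ J :=
        ((LocalizedModule.equivTensorProduct p.primeCompl X).trans
          (TensorProduct.AlgebraTensorModule.congr (LinearEquiv.refl Rp Rp) eT.symm)).trans
          ((Algebra.TensorProduct.quotIdealMapEquivTensorQuot Rp (Q' ⊔ P')).symm.toLinearEquiv.trans
            (Submodule.quotEquivOfEq _ _ hJ))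
      calc LC17.chi (l.map (algebraMap R Rp)) (LocalizedModule p.primeCompl X)
          = LC17.chi (l.map (algebraMap R Rp)) (Rp ⧸ J) := LC17.chi_congr _ eX
        _ = IntMult.chi Rp (Rp ⧸ Ideal.ofList (l.map (algebraMap R Rp))) (Rp ⧸ J) :=
            (chi_eq _ (Koszul19.kR_of_isWeaklyRegular _ hreg') _).symm
        _ = IntMult.chi Rp (Rp ⧸ Ideal.ofList l') (Rp ⧸ J) :=
            chi_congr_left _ (Submodule.quotEquivOfEq _ _ (hlK'.trans hl'K.symm))
        _ = LC17.chi l' (Rp ⧸ J) := chi_eq _ (Koszul19.kR_of_isWeaklyRegular _ hl'reg) _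
        _ = _ := hchi.symm
    · -- the multiplicity of `η` and `t`
      show IntMult.chi R (R ⧸ Pη η) N = _
      rw [chi_tor_retract π (R ⧸ Pη η) (fun r hr x => ?_) (A ⧸ t.map α)]
      · refine chi_congr_left _ (LinearEquiv.ofBijective
          ((Ideal.quotientMapₐ (η.map α) π (le_refl (Pη η))).toLinearMap) ⟨?_, ?_⟩)
        · exact Ideal.quotientMap_injective
        · intro z
          obtain ⟨z, rfl⟩ := Ideal.Quotient.mk_surjective z
          obtain ⟨r, rfl⟩ := hπs z
          exact ⟨Ideal.Quotient.mk _ r, rfl⟩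
      · obtain ⟨x, rfl⟩ := Ideal.Quotient.mk_surjective x
        refine (Submodule.Quotient.mk_eq_zero _).2 (Ideal.mul_mem_right x _ ?_)
        show π r ∈ η.map α
        rw [hr]; exact zero_mem _
  · -- minimality
    obtain ⟨⟨⟨η, hηp⟩, hmem⟩, -, rfl⟩ := Finset.mem_image.1 hp
    obtain ⟨-, h2, h3⟩ := (hE _).1 hmem
    change η ≤ w at h2
    change trdegQuot k η + _ = _ at h3
    obtain ⟨η', hη', hle'', he⟩ := hdecomp p' hl'
    have h1' := huv η' hη' hle'' (he ▸ hsuppX p' hp')
    have h4 := hmono η η' hηp h2 hη' hle'' (he ▸ hle')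
    have h5 := hprop η' hη' h1' hle''
    haveI := hη'
    refine PrimeSpectrum.ext (he.trans ?_)
    rw [eq_of_le_of_trdegQuot_le (k := k) h4 (by omega)]
  · -- excess components
    obtain ⟨η, hη, hle, he⟩ := hdecomp Q hl
    have h1 := huv η hη hle (he ▸ hsuppX Q hQ)
    have h5 := hprop η hη h1 hle
    have h6 : trdegQuot k η + trdegQuot k (⊥ : Ideal S) ≠ trdegQuot k u + trdegQuot k v := fun h => hQS
      (Finset.mem_image.2 ⟨⟨⟨η, hη⟩, (hE _).2 ⟨h1, hle, h⟩⟩, Finset.mem_attach _ _, PrimeSpectrum.ext he.symm⟩)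
    let W : Ideal (S ⊗[k] S) := w.comap μ
    haveI : W.IsPrime := Ideal.IsPrime.comap _
    obtain ⟨-, -, -, -, -, hex, -⟩ := diag_chi' η t w
      ⟨⟨inferInstance, sup_le hle htw⟩, fun η' hη' hle' => (hwmin η' hη'.1
        (sup_le (h1.trans (le_sup_left.trans hη'.2)) (le_sup_right.trans hη'.2)) hle').ge⟩
      A W rfl (Localization.AtPrime W)
    rw [he, chi_tor_retract π (R ⧸ Pη η) (fun r hr x => ?_) (A ⧸ t.map α),
      chi_congr_left _ (LinearEquiv.ofBijective
        ((Ideal.quotientMapₐ (η.map α) π (le_refl (Pη η))).toLinearMap)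
        ⟨Ideal.quotientMap_injective, fun z => by
          obtain ⟨z, rfl⟩ := Ideal.Quotient.mk_surjective z
          obtain ⟨r, rfl⟩ := hπs z
          exact ⟨Ideal.Quotient.mk _ r, rfl⟩⟩), LA18.chi_comm]
    · exact hex (by omega)
    · obtain ⟨x, rfl⟩ := Ideal.Quotient.mk_surjective x
      refine (Submodule.Quotient.mk_eq_zero _).2 (Ideal.mul_mem_right x _ ?_)
      show π r ∈ η.map α
      rw [hr]; exact zero_mem _

/-- The two ways of bracketing agree at a component of a proper triple intersection. -/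
theorem assoc_local (u v t w : Ideal S) [u.IsPrime] [v.IsPrime] [t.IsPrime] [w.IsPrime]
    (A : Type u) [CommRing A] [Algebra S A] [IsLocalization.AtPrime A w]
    (hvw : v ≤ w) (htw : t ≤ w) (hwmin : ∀ η : Ideal S, η.IsPrime → u ⊔ v ⊔ t ≤ η → η ≤ w → η = w)
    (hdim : trdegQuot k u + trdegQuot k v + trdegQuot k t = trdegQuot k w + 2 * trdegQuot k (⊥ : Ideal S))
    (hpropv : ∀ η : Ideal S, η.IsPrime → u ⊔ v ≤ η → η ≤ w →
      trdegQuot k η + trdegQuot k (⊥ : Ideal S) ≤ trdegQuot k u + trdegQuot k v)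
    (hpropt : ∀ η : Ideal S, η.IsPrime → u ⊔ t ≤ η → η ≤ w →
      trdegQuot k η + trdegQuot k (⊥ : Ideal S) ≤ trdegQuot k u + trdegQuot k t)
    (Ev Et : Finset (PrimeSpectrum S))
    (hEv : ∀ η, η ∈ Ev ↔ u ⊔ v ≤ η.asIdeal ∧ η.asIdeal ≤ w ∧
      trdegQuot k η.asIdeal + trdegQuot k (⊥ : Ideal S) = trdegQuot k u + trdegQuot k v)
    (hEt : ∀ η, η ∈ Et ↔ u ⊔ t ≤ η.asIdeal ∧ η.asIdeal ≤ w ∧
      trdegQuot k η.asIdeal + trdegQuot k (⊥ : Ideal S) = trdegQuot k u + trdegQuot k t) :
    ∑ η ∈ Ev, IntMult.chi (Localization.AtPrime η.asIdeal)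
          (Localization.AtPrime η.asIdeal ⧸ u.map (algebraMap S (Localization.AtPrime η.asIdeal)))
          (Localization.AtPrime η.asIdeal ⧸ v.map (algebraMap S (Localization.AtPrime η.asIdeal))) *
        IntMult.chi A (A ⧸ η.asIdeal.map (algebraMap S A)) (A ⧸ t.map (algebraMap S A)) =
      ∑ η ∈ Et, IntMult.chi (Localization.AtPrime η.asIdeal)
          (Localization.AtPrime η.asIdeal ⧸ u.map (algebraMap S (Localization.AtPrime η.asIdeal)))
          (Localization.AtPrime η.asIdeal ⧸ t.map (algebraMap S (Localization.AtPrime η.asIdeal))) *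
        IntMult.chi A (A ⧸ η.asIdeal.map (algebraMap S A)) (A ⧸ v.map (algebraMap S A)) := by
  let iL : S →ₐ[k] S ⊗[k] S := Algebra.TensorProduct.includeLeft
  let μ : S ⊗[k] S →ₐ[k] S := Algebra.TensorProduct.lmul' k (S := S)
  have hμL : ∀ s, μ (iL s) = s := fun s => by simp [μ, iL]
  let W₀ : Ideal (S ⊗[k] S) := w.comap μ
  haveI : W₀.IsPrime := Ideal.IsPrime.comap _
  let R := Localization.AtPrime W₀
  haveI : Algebra.FiniteType k (S ⊗[k] S) := Algebra.FiniteType.trans (S := S) inferInstance inferInstance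
  haveI : IsNoetherianRing (S ⊗[k] S) := Algebra.FiniteType.isNoetherianRing k _
  haveI : Algebra.Smooth k (S ⊗[k] S) := Algebra.Smooth.comp k S (S ⊗[k] S)
  haveI : IsRegularLocalRing R := by
    have : IsRegularRing (S ⊗[k] S) := Var76.RegKaehler.isRegularRing_of_smooth k _
    exact IsRegularRing.isRegularLocalRing_localization (R := S ⊗[k] S) W₀
  haveI : IsRegularLocalRing A := by
    have : IsRegularRing S := Var76.RegKaehler.isRegularRing_of_smooth k _
    have := IsRegularRing.isRegularLocalRing_localization (R := S) w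
    exact IsRegularLocalRing.of_ringEquiv
      (IsLocalization.algEquiv w.primeCompl (Localization.AtPrime w) A).toRingEquiv
  let φ := algebraMap (S ⊗[k] S) R
  let α := algebraMap S A
  have hπu : ∀ y : W₀.primeCompl, IsUnit ((α.comp μ.toRingHom) y) := fun y =>
    IsLocalization.map_units A (⟨μ y, fun h => y.2 h⟩ : w.primeCompl)
  let π₀ : R →+* A := IsLocalization.lift hπu
  have hπ₀ : ∀ z, π₀ (φ z) = α (μ z) := fun z => IsLocalization.lift_eq hπu z
  have hLu : ∀ y : w.primeCompl, IsUnit ((φ.comp iL.toRingHom) y) := fun y =>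
    IsLocalization.map_units R (⟨iL y, fun h => y.2 (hμL y ▸ h)⟩ : W₀.primeCompl)
  let ι : A →+* R := IsLocalization.lift hLu
  have hι : ∀ s, ι (α s) = φ (iL s) := fun s => IsLocalization.lift_eq hLu s
  have hπι : ∀ z, π₀ (ι z) = z := RingHom.congr_fun (IsLocalization.ringHom_ext w.primeCompl
    (j := π₀.comp ι) (k := RingHom.id A) (RingHom.ext fun s => by
      show π₀ (ι (α s)) = α s
      rw [hι, hπ₀, hμL]))
  letI : Algebra A R := ι.toAlgebra
  let π : R →ₐ[A] A := { π₀ with commutes' := hπι }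
  obtain ⟨l, -, hlK, hlreg, -⟩ := diag_chi' (k := k) (⊥ : Ideal S) w w
    ⟨⟨inferInstance, by simp⟩, fun η hη _ => le_sup_right.trans hη.2⟩ A W₀ rfl R
  have hker : RingHom.ker π = Ideal.ofList l := by
    refine le_antisymm ?_ ?_
    · intro z hz
      obtain ⟨⟨z', c⟩, htc⟩ := IsLocalization.surj W₀.primeCompl z
      rw [hlK, ← Ideal.mul_unit_mem_iff_mem _ (IsLocalization.map_units R c), htc]
      have h0 : α (μ z') = 0 := by
        rw [← hπ₀ z', show φ z' = z * φ c from htc.symm, map_mul, show π₀ z = 0 from RingHom.mem_ker.1 hz,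
          zero_mul]
      obtain ⟨⟨c', hc'⟩, hc0⟩ := (IsLocalization.map_eq_zero_iff w.primeCompl A _).1 h0
      have hu : IsUnit (φ (iL c')) := hι c' ▸ (IsLocalization.map_units A (⟨c', hc'⟩ : w.primeCompl)).map ι
      rw [← Ideal.unit_mul_mem_iff_mem _ hu, ← map_mul]
      refine Ideal.mem_map_of_mem _ ?_
      show μ (iL c' * z') = 0
      rw [map_mul, hμL]
      exact hc0
    · rw [hlK, Ideal.map_le_iff_le_comap]
      intro z hz
      show π₀ (φ z) = 0
      rw [hπ₀, show μ z = 0 from hz, map_zero]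
  rw [← theta_eval u v t w A W₀ R hι π hπ₀ l hker hlreg hlK htw hwmin hdim hpropv Ev hEv,
    ← theta_eval u t v w A W₀ R hι π hπ₀ l hker hlreg hlK hvw
      (fun η hη h hle => hwmin η hη (sup_right_comm u v t ▸ h) hle) (by omega) hpropt Et hEt]
  refine finsum_congr fun i => ?_
  haveI := flat_quot_right w A W₀ R hι u
  haveI : Module.Flat A R := by
    haveI := flat_quot_right w A W₀ R hι ⊥
    exact Module.Flat.of_linearEquiv ((Submodule.quotEquivOfEqBot
      (((⊥ : Ideal S).map (Algebra.TensorProduct.includeRight (R := k) (A := S) (B := S))).map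
        (algebraMap (S ⊗[k] S) R)) (by simp)).restrictScalars A).symm
  let B := R ⧸ (u.map (Algebra.TensorProduct.includeRight (R := k) (A := S) (B := S))).map φ
  obtain ⟨e1⟩ := nonempty_tor_flat_flat (A := A) (R := R) B (A ⧸ v.map α) (A ⧸ t.map α) i
  obtain ⟨e2⟩ := nonempty_tor_flat_flat (A := A) (R := R) B (A ⧸ t.map α) (A ⧸ v.map α) i
  obtain ⟨e3⟩ := LA18.tor_symm (A := A) (A ⧸ v.map α) (A ⧸ t.map α) i
  rw [LC17.chi_congr l (e1.trans ((TensorProduct.AlgebraTensorModule.congr (LinearEquiv.refl R B) e3).trans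
    e2.symm))]

end Groth.Agent.IntMult12
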