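import Groth.Agent.IntMult12.TorFlat

/-!
# `χ` over a local ring of a finite algebra, as a sum over its maximal ideals
-/

set_option autoImplicit false
set_option linter.unusedSectionVars false
set_option linter.style.haveILetI false

universe u

open CategoryTheory CategoryTheory.Limits TensorProduct

attribute [local instance] HasDerivedCategory.standard

namespace Groth.Agent.IntMult12

/-- homology does not change under restriction of scalars -/
theorem Cx.nonempty_H_restrict {A M : Type u} [CommRing A] [CommRing M] [Algebra A M] (C : Cx M)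
    (D : Cx A) (e : ∀ i, C.X i ≃+ D.X i) (he : ∀ i (a : A) x, e i (algebraMap A M a • x) = a • e i x)
    (hc : ∀ i x, e i (C.d i x) = D.d i (e (i + 1) x)) (i : ℕ) :
    ∃ g : C.H i ≃+ D.H i, ∀ (a : A) x, g (algebraMap A M a • x) = a • g x := by
  have hZ : ∀ i z, z ∈ C.Z i ↔ e i z ∈ D.Z i := by
    intro i z
    cases i with
    | zero => exact iff_of_true trivial trivial
    | succ i =>
      show C.d i z = 0 ↔ D.d i (e (i + 1) z) = 0
      rw [← hc, map_eq_zero_iff _ (e i).injective]
  let eZ : C.Z i →+ D.H i := ((Submodule.mkQ _).toAddMonoidHom).comp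
    { toFun := fun z => (⟨e i z.1, (hZ i z.1).1 z.2⟩ : D.Z i)
      map_zero' := Subtype.ext (map_zero _)
      map_add' := fun _ _ => Subtype.ext (map_add _ _ _) }
  have hk : ∀ z, eZ z = 0 ↔ z ∈ (LinearMap.range (C.d i)).comap (C.Z i).subtype := fun z => by
    show (Submodule.Quotient.mk (⟨e i z.1, _⟩ : D.Z i) : D.H i) = 0 ↔ _
    rw [Submodule.Quotient.mk_eq_zero]
    constructor
    · rintro ⟨y, hy⟩
      obtain ⟨x, rfl⟩ := (e (i + 1)).surjective y
      exact ⟨x, (e i).injective ((hc i x).trans hy)⟩
    · rintro ⟨x, hx⟩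
      exact ⟨e (i + 1) x, (hc i x).symm.trans (congrArg (e i) hx)⟩
  let g : C.H i →+ D.H i := QuotientAddGroup.lift _ eZ fun z hz => (hk z).2 hz
  have hg : Function.Bijective g := by
    refine ⟨(injective_iff_map_eq_zero g).2 fun q => ?_, fun q => ?_⟩
    · obtain ⟨z, rfl⟩ := Submodule.Quotient.mk_surjective _ q
      exact fun h => (Submodule.Quotient.mk_eq_zero _).2 ((hk z).1 h)
    · obtain ⟨⟨y, hy⟩, rfl⟩ := Submodule.Quotient.mk_surjective _ q
      obtain ⟨x, rfl⟩ := (e i).surjective y
      exact ⟨Submodule.Quotient.mk ⟨x, (hZ i x).2 hy⟩, rfl⟩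
  refine ⟨AddEquiv.ofBijective g hg, fun a q => ?_⟩
  obtain ⟨z, rfl⟩ := Submodule.Quotient.mk_surjective _ q
  show (Submodule.Quotient.mk (⟨e i (algebraMap A M a • z.1), _⟩ : D.Z i) : D.H i) =
    a • Submodule.Quotient.mk (⟨e i z.1, _⟩ : D.Z i)
  rw [← Submodule.Quotient.mk_smul]
  exact congrArg _ (Subtype.ext (he i a z.1))

variable {A M : Type u} [CommRing A] [IsRegularLocalRing A] [CommRing M] [Algebra A M] [Module.Finite A M]
  (N : Type u) [AddCommGroup N] [Module A N] [Module.Finite A N]

/-- `χ_A(M, N) = Σ deg · χ_{R_j}(C_j, R_j ⊗_A N)` -/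
theorem chi_semilocal {ι : Type u} [Fintype ι] (C R : ι → Type u) [∀ j, CommRing (C j)] [∀ j, CommRing (R j)]
    [∀ j, Algebra M (C j)] [∀ j, Algebra A (C j)] [∀ j, IsScalarTower A M (C j)] [∀ j, Module.Flat M (C j)]
    [∀ j, Algebra A (R j)] [∀ j, Module.Flat A (R j)] [∀ j, Algebra (R j) (C j)]
    [∀ j, IsScalarTower A (R j) (C j)] (hsurj : ∀ j, Function.Surjective (algebraMap (R j) (C j)))
    (deg : ι → ℕ)
    (hlen : ∀ (H : Type u) [AddCommGroup H] [Module M H] [Module A H] [IsScalarTower A M H],
      IsFiniteLength M H →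
        Module.length A H = ∑ j, (deg j : ℕ∞) * Module.length (C j) (C j ⊗[M] H))
    (hgood : ∀ p ∈ Module.support A M, p ∈ Module.support A N → p.asIdeal.IsMaximal) :
    IntMult.chi A M N = ∑ j, (deg j : ℤ) * IntMult.chi (R j) (C j) (R j ⊗[A] N) := by
  classical
  obtain ⟨F, f, hproj, hf, h0, hs⟩ := exists_cx_resolution (A := A) N
  obtain ⟨d, hd⟩ : ∃ d : ℕ, ringKrullDim A = d :=
    ⟨_, (IsRegularLocalRing.spanFinrank_maximalIdeal (R := A)).symm⟩
  let G : Cx M := Cx.tens (R := M) M F
  let D : Cx A := Cx.tens (R := A) M F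
  let L : ι → ℕ → ℕ∞ := fun j i => Module.length (C j) (C j ⊗[M] G.H i)
  -- the local terms
  have hR : ∀ j i, Module.length (R j) (DRing.Tor (R j) i (C j) (R j ⊗[A] N)) = L j i := by
    intro j i
    obtain ⟨e⟩ := nonempty_tor_tens (R := R j) N F hproj f hf h0 hs (C j) i
    haveI : RingHomSurjective (algebraMap (R j) (C j)) := ⟨hsurj j⟩
    let eσ : ∀ k, (Cx.tens (R := R j) (C j) F).X k →ₛₗ[algebraMap (R j) (C j)]
        (Cx.tens (R := C j) (C j) F).X k := fun k =>
      { toFun := id
        map_add' := fun _ _ => rfl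
        map_smul' := fun r z => by
          change C j ⊗[A] F.X k at z
          show r • z = algebraMap (R j) (C j) r • z
          induction z with
          | zero => simp
          | tmul m y => rw [TensorProduct.smul_tmul', TensorProduct.smul_tmul', algebraMap_smul]
          | add a b ha hb => rw [smul_add, smul_add, ha, hb] }
    rw [e.length_eq, Cx.length_H_eq eσ (fun _ _ => rfl) (fun _ => Function.bijective_id) i]
    obtain ⟨e1⟩ := Cx.nonempty_H_tens_flat (R := C j) (C j) G i
    obtain ⟨e2⟩ := Cx.H_congr (C := Cx.tens (R := C j) (C j) G) (D := Cx.tens (R := C j) (C j) F)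
      (fun k => AlgebraTensorModule.cancelBaseChange A M (C j) (C j) (F.X k)) (fun k z => by
        change C j ⊗[M] (M ⊗[A] F.X (k + 1)) at z
        show AlgebraTensorModule.cancelBaseChange A M (C j) (C j) (F.X k)
            (AlgebraTensorModule.lTensor (C j) (C j) (AlgebraTensorModule.lTensor M M (F.d k)) z) =
          AlgebraTensorModule.lTensor (C j) (C j) (F.d k)
            (AlgebraTensorModule.cancelBaseChange A M (C j) (C j) (F.X (k + 1)) z)
        induction z with
        | zero => simp
        | tmul x y =>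
          induction y with
          | zero => simp
          | tmul r m => simp
          | add a b ha hb => simp only [TensorProduct.tmul_add, map_add, ha, hb]
        | add a b ha hb => simp only [map_add, ha, hb]) i
    exact (e2.symm.trans e1).length_eq
  -- the global terms
  have hA : ∀ i, Module.length A (DRing.Tor A i M N) ≠ ⊤ ∧
      Module.length A (DRing.Tor A i M N) = ∑ j, (deg j : ℕ∞) * L j i := by
    intro i
    have hne := length_tor_ne_top M N hgood i
    refine ⟨hne, ?_⟩
    obtain ⟨eA⟩ := nonempty_tor_equiv_H M N F hproj f hf h0 hs i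
    let hmod : Module A (G.H i) := Module.compHom _ (algebraMap A M)
    letI := hmod
    haveI : IsScalarTower A M (G.H i) := IsScalarTower.of_algebraMap_smul fun _ _ => rfl
    obtain ⟨g, hg⟩ := Cx.nonempty_H_restrict (A := A) G D (fun _ => AddEquiv.refl _) (fun k a x => by
      change M ⊗[A] F.X k at x
      show algebraMap A M a • x = a • x
      exact algebraMap_smul M a x) (fun _ _ => rfl) i
    let gl : G.H i ≃ₗ[A] D.H i := { g with map_smul' := fun a x => hg a x }
    have hlA : Module.length A (DRing.Tor A i M N) = Module.length A (G.H i) :=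
      (eA.trans gl.symm).length_eq
    rw [hlA] at hne ⊢
    refine hlen (G.H i) ?_
    haveI : IsFiniteLength A (G.H i) := Module.length_ne_top_iff.1 hne
    have h := isFiniteLength_iff_isNoetherian_isArtinian.1 ‹IsFiniteLength A (G.H i)›
    haveI := h.1
    haveI := h.2
    exact isFiniteLength_iff_isNoetherian_isArtinian.2 ⟨isNoetherian_of_tower A h.1, isArtinian_of_tower A h.2⟩
  -- sum up
  have hL : ∀ j i, deg j = 0 ∨ L j i ≠ ⊤ := fun j i => by
    by_contra h
    rw [not_or, not_not] at h
    refine (hA i).1 ((hA i).2.trans ?_)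
    refine top_le_iff.1 (le_trans ?_ (Finset.single_le_sum (fun k _ => bot_le) (Finset.mem_univ j)))
    rw [h.2, ENat.mul_top (by simpa using h.1)]
  have hA' : ∀ i, ((Module.length A (DRing.Tor A i M N)).toNat : ℤ) =
      ∑ j, (deg j : ℤ) * ((L j i).toNat : ℤ) := fun i => by
    rw [(hA i).2]
    have hterm : ∀ j, (deg j : ℕ∞) * L j i = ((deg j * (L j i).toNat : ℕ) : ℕ∞) := fun j => by
      rcases hL j i with h | h
      · simp [h]
      · rw [Nat.cast_mul, ENat.coe_toNat h]
    rw [Finset.sum_congr rfl fun j _ => hterm j, ← Nat.cast_sum, ENat.toNat_natCast]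
    push_cast
    rfl
  have hvan : ∀ j i, d < i → (deg j : ℤ) * ((L j i).toNat : ℤ) = 0 := fun j i hi => by
    haveI := subsingleton_tor_of_lt hd M N i hi
    have h := (hA i).2
    rw [Module.length_eq_zero] at h
    have h' := (Finset.sum_eq_zero_iff.1 h.symm) j (Finset.mem_univ j)
    rcases mul_eq_zero.1 h' with h0 | h0
    · rw [Nat.cast_eq_zero] at h0; simp [h0]
    · simp [h0]
  rw [IntMult.chi, finsum_eq_sum_of_support_subset _ (s := Finset.range (d + 1)) fun i hi => ?_]
  swap
  · rw [Finset.coe_range, Set.mem_Iio]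
    by_contra hc
    haveI := subsingleton_tor_of_lt hd M N i (by omega)
    exact hi (by simp [Module.length_eq_zero])
  rw [Finset.sum_congr rfl fun i _ => (congrArg (fun t : ℤ => (-1 : ℤ) ^ i * t) (hA' i)).trans (Finset.mul_sum _ _ _),
    Finset.sum_comm]
  refine Finset.sum_congr rfl fun j _ => ?_
  by_cases hdj : deg j = 0
  · simp [hdj]
  rw [IntMult.chi, finsum_eq_sum_of_support_subset _ (s := Finset.range (d + 1)) fun i hi => ?_, Finset.mul_sum]
  · refine Finset.sum_congr rfl fun i _ => ?_
    rw [hR]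
    ring
  · rw [Finset.coe_range, Set.mem_Iio]
    by_contra hc
    refine hi ?_
    rcases mul_eq_zero.1 (hvan j i (by omega)) with h | h
    · exact absurd (Nat.cast_eq_zero.1 h) hdj
    · show (-1 : ℤ) ^ i * ((Module.length (R j) (DRing.Tor (R j) i (C j) (R j ⊗[A] N))).toNat : ℤ) = 0
      rw [hR, h, mul_zero]

end Groth.Agent.IntMult12
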