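import Groth.Agent.DCK91.Amp
import Groth.Agent.DCK91.LpullTensor
import Groth.Agent.DCK91.PullFlat
import Groth.Agent.DCX42.Res
import Groth.Agent.DerComp18.TensorSingle
import Groth.Agent.DerComp18.LTensor
import Groth.Agent.Mod48.KFlatSymm
import Groth.Agent.QC70.ExtCoh
import Groth.Agent.E4O.InfDescent
import Groth.Agent.Amp73.GlobGen

/-!
# Coherence of tensor products with bounded above flat complexes
-/

set_option autoImplicit false
set_option backward.isDefEq.respectTransparency false
set_option linter.style.haveILetI false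

noncomputable section

universe u

open CategoryTheory Limits AlgebraicGeometry

namespace Groth.Agent.IntMult12

open Groth.Agent.Mod48

variable {X : Scheme.{u}}

/-- the property we propagate -/
def CohH (E : CochainComplex X.Modules ℤ) : Prop := ∀ i, Coh.IsCoh (E.homology i)

theorem CohH.of_iso {E E' : CochainComplex X.Modules ℤ} (e : E ≅ E') (h : CohH E) : CohH E' := fun i =>
  QC70.isCoh_of_iso ((HomologicalComplex.homologyFunctor X.Modules (ComplexShape.up ℤ) i).mapIso e) (h i)

theorem isCoh_homology_of_isZero {E : CochainComplex X.Modules ℤ} {i : ℤ} (h : IsZero (E.X i)) :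
    Coh.IsCoh (E.homology i) :=
  QC70.isCoh_of_isZero ((HomologicalComplex.exactAt_iff_isZero_homology _ i).1 (ShortComplex.exact_of_isZero_X₂ _ h))

variable [IsLocallyNoetherian X]

/-- an extension of a coherent module by a quotient of a coherent module -/
def PreCoh (A : X.Modules) : Prop :=
  ∃ (B : X.Modules) (p : B ⟶ A), Coh.IsCoh B ∧ Coh.IsCoh (cokernel p)

theorem isCoh_cokernel_of_preCoh {A B : X.Modules} (a : A ⟶ B) (hA : PreCoh A) (hB : Coh.IsCoh B) :
    Coh.IsCoh (cokernel a) := by
  obtain ⟨A', p, hA', hp⟩ := hA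
  let g : cokernel p ⟶ cokernel (p ≫ a) := cokernel.desc p (a ≫ cokernel.π (p ≫ a)) (by
    rw [← Category.assoc]; exact cokernel.condition _)
  have h1 : Coh.IsCoh (cokernel (p ≫ a)) := QC70.isCoh_cokernel _ hA'.1 hB
  let e : cokernel g ≅ cokernel a :=
    { hom := cokernel.desc g (cokernel.desc (p ≫ a) (cokernel.π a) (by simp)) (by
        rw [← cancel_epi (cokernel.π p)]; simp [g])
      inv := cokernel.desc a (cokernel.π (p ≫ a) ≫ cokernel.π g) (by
        rw [← Category.assoc, ← cokernel.π_desc p (a ≫ cokernel.π (p ≫ a))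
          (by rw [← Category.assoc]; exact cokernel.condition _), Category.assoc]
        exact (congrArg (cokernel.π p ≫ ·) (cokernel.condition g)).trans comp_zero)
      hom_inv_id := by
        rw [← cancel_epi (cokernel.π g), ← cancel_epi (cokernel.π (p ≫ a))]; simp
      inv_hom_id := by
        rw [← cancel_epi (cokernel.π a)]; simp }
  exact QC70.isCoh_of_iso e (QC70.isCoh_cokernel g hp.1 h1)

theorem isCoh_cokernel_of_exact {B C D E : X.Modules} {b : B ⟶ C} {c : C ⟶ D} {d : D ⟶ E}
    {z2 : b ≫ c = 0} {z3 : c ≫ d = 0}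
    (e2 : (ShortComplex.mk b c z2).Exact) (e3 : (ShortComplex.mk c d z3).Exact)
    (hD : Coh.IsCoh D) (hE : Coh.IsCoh E) : Coh.IsCoh (cokernel b) := by
  haveI : Epi (kernel.lift d c z3) := e3.epi_kernelLift
  have hz : b ≫ kernel.lift d c z3 = 0 := by rw [← cancel_mono (kernel.ι d)]; simp [z2]
  haveI : Mono (cokernel.desc b (kernel.lift d c z3) hz) := by
    haveI : Mono (cokernel.desc b c z2) := e2.mono_cokernelDesc
    have h : cokernel.desc b (kernel.lift d c z3) hz ≫ kernel.ι d = cokernel.desc b c z2 := by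
      rw [← cancel_epi (cokernel.π b)]; simp
    exact mono_of_mono_fac h
  haveI : Epi (cokernel.desc b (kernel.lift d c z3) hz) :=
    epi_of_epi_fac (cokernel.π_desc b (kernel.lift d c z3) hz)
  haveI : IsIso (cokernel.desc b (kernel.lift d c z3) hz) := isIso_of_mono_of_epi _
  exact QC70.isCoh_of_iso (asIso (cokernel.desc b (kernel.lift d c z3) hz)).symm
    (QC70.isCoh_kernel d hD hE.1)

/-- The middle term of an exact sequence of five. -/
theorem isCoh_of_five' {A B C D E : X.Modules} {a : A ⟶ B} {b : B ⟶ C} {c : C ⟶ D} {d : D ⟶ E}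
    {z1 : a ≫ b = 0} {z2 : b ≫ c = 0} {z3 : c ≫ d = 0}
    (e1 : (ShortComplex.mk a b z1).Exact) (e2 : (ShortComplex.mk b c z2).Exact)
    (e3 : (ShortComplex.mk c d z3).Exact)
    (hA : PreCoh A) (hB : Coh.IsCoh B) (hD : Coh.IsCoh D) (hE : Coh.IsCoh E) : Coh.IsCoh C := by
  let S : ShortComplex X.Modules := ShortComplex.mk (cokernel.desc a b z1) (cokernel.π b) (by
    rw [← cancel_epi (cokernel.π a)]; simp)
  haveI hm : Mono S.f := e1.mono_cokernelDesc
  have hS : S.Exact := by
    let T : ShortComplex X.Modules := ShortComplex.mk b (cokernel.π b) (cokernel.condition b)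
    have hT : T.Exact := ShortComplex.exact_cokernel b
    exact (ShortComplex.exact_iff_of_epi_of_isIso_of_mono
      ({ τ₁ := cokernel.π a, τ₂ := 𝟙 _, τ₃ := 𝟙 _ } : T ⟶ S)).1 hT
  exact QC70.isCoh_X₂ S { exact := hS } (isCoh_cokernel_of_preCoh a hA hB)
    (isCoh_cokernel_of_exact e2 e3 hD hE)

theorem preCoh_of_isCoh {A : X.Modules} (h : Coh.IsCoh A) : PreCoh A :=
  ⟨A, 𝟙 A, h, QC70.isCoh_of_isZero (isZero_cokernel_of_epi _)⟩

theorem CohH.X₂ {S : ShortComplex (CochainComplex X.Modules ℤ)} (hS : S.ShortExact) (h1 : CohH S.X₁)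
    (h3 : CohH S.X₃) : CohH S.X₂ := fun i =>
  isCoh_of_five' (hS.homology_exact₁ (i - 1) i (sub_add_cancel i 1)) (hS.homology_exact₂ i)
    (hS.homology_exact₃ i (i + 1) rfl) (preCoh_of_isCoh (h3 (i - 1))) (h1 i) (h3 i) (h1 (i + 1))

/-- In degree `i` the third homology is coherent given the two next ones. -/
theorem isCoh_homology_X₃ {S : ShortComplex (CochainComplex X.Modules ℤ)} (hS : S.ShortExact) (i : ℤ)
    (h1 : Coh.IsCoh (S.X₁.homology i)) (h2 : Coh.IsCoh (S.X₂.homology i))
    (h1' : Coh.IsCoh (S.X₁.homology (i + 1))) (h2' : Coh.IsCoh (S.X₂.homology (i + 1))) :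
    Coh.IsCoh (S.X₃.homology i) :=
  isCoh_of_five' (hS.homology_exact₂ i) (hS.homology_exact₃ i (i + 1) rfl)
    (hS.homology_exact₁ i (i + 1) rfl) (preCoh_of_isCoh h1) h2 h1' h2'

section Flat

variable (F : CochainComplex X.Modules ℤ) (b : ℤ) (hb : ∀ i, b < i → IsZero (F.X i))
  (hfl : ∀ i, ModSite.IsFlat (O := X.sheaf) (F.X i))

omit [IsLocallyNoetherian X]

/-- `M ⊗ F`, termwise. -/
abbrev modTens (M : X.Modules) : CochainComplex X.Modules ℤ :=
  (((ModSite.tensorBi X.sheaf).obj M).mapHomologicalComplex (ComplexShape.up ℤ)).obj F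

include hb in
theorem isZero_modTens (M : X.Modules) (i : ℤ) (hi : b < i) : IsZero ((modTens F M).X i) :=
  Functor.map_isZero ((ModSite.tensorBi X.sheaf).obj M) (hb i hi)

/-- the short complex of complexes obtained by tensoring with `F` -/
def modTensSC (S : ShortComplex X.Modules) : ShortComplex (CochainComplex X.Modules ℤ) :=
  ShortComplex.mk ((NatTrans.mapHomologicalComplex ((ModSite.tensorBi X.sheaf).map S.f) (ComplexShape.up ℤ)).app F)
    ((NatTrans.mapHomologicalComplex ((ModSite.tensorBi X.sheaf).map S.g) (ComplexShape.up ℤ)).app F) (by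
      ext n : 1
      change ((ModSite.tensorBi X.sheaf).map S.f).app (F.X n) ≫
        ((ModSite.tensorBi X.sheaf).map S.g).app (F.X n) = 0
      rw [← NatTrans.comp_app, ← Functor.map_comp, S.zero, Functor.map_zero, NatTrans.app_zero])

include hfl in
theorem shortExact_modTensSC (S : ShortComplex X.Modules) (hS : S.ShortExact) :
    (modTensSC F S).ShortExact :=
  HomologicalComplex.shortExact_of_degreewise_shortExact _ fun n =>
    haveI := (hfl n).1
    haveI := (hfl n).2
    hS.map_of_exact ((ModSite.tensorBi X.sheaf).flip.obj (F.X n))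

include hfl in
theorem cohH_modTens_free [IsLocallyNoetherian X] (hF : CohH F) {n : ℕ} :
    CohH (modTens F (⨁ fun _ : Fin n => Coh.structureModule X)) := by
  refine QC70.biproduct_induction (fun M => CohH (modTens F M)) ?_ ?_ _ fun _ => ?_
  · intro M hM i
    exact isCoh_homology_of_isZero (((Functor.map_isZero (ModSite.tensorBi X.sheaf) hM)).obj (F.X i))
  · intro S hS h1 h3
    exact CohH.X₂ (shortExact_modTensSC F hfl S hS) h1 h3
  · let u : ((ModSite.tensorBi X.sheaf).obj (Coh.structureModule X) : X.Modules ⥤ X.Modules) ≅ 𝟭 X.Modules :=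
      tensUnit
    exact CohH.of_iso (HomologicalComplex.Hom.isoOfComponents (fun j => (u.app (F.X j)).symm)
      fun j k _ => (u.inv.naturality (F.d j k)).symm) hF

variable [IsLocallyNoetherian X]

include hb hfl in
theorem isCoh_modTens_affine [IsAffine X] (hF : CohH F) :
    ∀ (d : ℕ) (i : ℤ), b < i + d → ∀ M : X.Modules, Coh.IsCoh M → Coh.IsCoh ((modTens F M).homology i)
  | 0, i, hi, M, _ => isCoh_homology_of_isZero (isZero_modTens F b hb M i (by omega))
  | d + 1, i, hi, M, hM => by
    have next_deg : ∀ N, Coh.IsCoh N → Coh.IsCoh ((modTens F N).homology (i + 1)) :=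
      isCoh_modTens_affine hF d (i + 1) (by push_cast at hi; omega)
    have step : ∀ N : X.Modules, Coh.IsCoh N → ∃ (n : ℕ) (q : (⨁ fun _ : Fin n => Coh.structureModule X) ⟶ N),
        Coh.IsCoh (kernel q) ∧ Epi q := fun N hN => by
      obtain ⟨n, p, hp⟩ := Amp73.exists_epi_freeMod hN.1 hN.2 fun x =>
        ⟨⊤, trivial, isAffineOpen_top X, by
          exact eq_top_iff.mpr fun t _ => Submodule.subset_span ⟨t, QC70.res_self t⟩⟩
      let e : (⨁ fun _ : Fin n => Coh.structureModule X) ≅ FlatMod.freeMod X n := biproduct.isoCoproduct _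
      exact ⟨n, e.hom ≫ p,
        QC70.isCoh_kernel _ (QC70.isCoh_biproduct _ fun _ => QC70.isCoh_unit) hN.1, inferInstance⟩
    obtain ⟨n, q, hK, hq⟩ := step M hM
    obtain ⟨n', q', hK', hq'⟩ := step (kernel q) hK
    have hS : (ShortComplex.mk (kernel.ι q) q (kernel.condition q)).ShortExact :=
      { exact := ShortComplex.exact_kernel q }
    have hS' : (ShortComplex.mk (kernel.ι q') q' (kernel.condition q')).ShortExact :=
      { exact := ShortComplex.exact_kernel q' }
    have hT := shortExact_modTensSC F hfl _ hS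
    have hT' := shortExact_modTensSC F hfl _ hS'
    have h2 := cohH_modTens_free F hfl hF (n := n)
    have h2' := cohH_modTens_free F hfl hF (n := n')
    refine isCoh_of_five' (hT.homology_exact₂ i) (hT.homology_exact₃ i (i + 1) rfl)
      (hT.homology_exact₁ i (i + 1) rfl) ?_ (h2 i) (next_deg _ hK) (h2 (i + 1))
    exact ⟨_, HomologicalComplex.homologyMap (modTensSC F (ShortComplex.mk _ q' (kernel.condition q'))).g i,
      h2' i, isCoh_cokernel_of_exact (hT'.homology_exact₃ i (i + 1) rfl) (hT'.homology_exact₁ i (i + 1) rfl)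
        (next_deg _ hK') (h2' (i + 1))⟩

end Flat

end Groth.Agent.IntMult12
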