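import Groth.Agent.LA18.GrKoszul
import Mathlib.RingTheory.Regular.RegularSequence

/-!
# Koszul Euler characteristic of a complex: reduction modulo a regular sequence
-/

set_option autoImplicit false
set_option linter.unusedSectionVars false

universe u

open Submodule
open scoped Pointwise

namespace Groth.Agent.IntMult12

variable {A : Type u} [CommRing A]

/-- a homologically indexed complex of modules -/
structure Cx (A : Type u) [CommRing A] where
  X : ℕ → Type u
  [grp : ∀ i, AddCommGroup (X i)]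
  [mod : ∀ i, Module A (X i)]
  d : ∀ i, X (i + 1) →ₗ[A] X i
  dd : ∀ i x, d i (d (i + 1) x) = 0

attribute [instance] Cx.grp Cx.mod

namespace Cx

variable (C : Cx A)

/-- cycles -/
def Z : ∀ i, Submodule A (C.X i)
  | 0 => ⊤
  | i + 1 => LinearMap.ker (C.d i)

lemma range_le : ∀ i, LinearMap.range (C.d i) ≤ C.Z i
  | 0 => le_top
  | i + 1 => by rintro _ ⟨x, rfl⟩; exact C.dd i x

/-- homology -/
abbrev H (i : ℕ) : Type u := C.Z i ⧸ (LinearMap.range (C.d i)).comap (C.Z i).subtype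

/-- reduction modulo `x` -/
def quot (x : A) : Cx A where
  X i := QuotSMulTop x (C.X i)
  d i := QuotSMulTop.map x (C.d i)
  dd i z := by
    obtain ⟨z, rfl⟩ := Submodule.Quotient.mk_surjective _ z
    show Submodule.Quotient.mk (C.d i (C.d (i + 1) z)) = _
    rw [C.dd, Submodule.Quotient.mk_zero]

lemma quot_d (x : A) (i : ℕ) (z : C.X (i + 1)) :
    (C.quot x).d i (Submodule.Quotient.mk z) = Submodule.Quotient.mk (C.d i z) := rfl

lemma mk_eq_zero_iff {M : Type u} [AddCommGroup M] [Module A M] (x : A) (v : M) :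
    (Submodule.Quotient.mk v : QuotSMulTop x M) = 0 ↔ ∃ w, x • w = v := by
  rw [Submodule.Quotient.mk_eq_zero, Submodule.mem_smul_pointwise_iff_exists]
  simp

lemma finite_H [IsNoetherianRing A] (hfin : ∀ i, Module.Finite A (C.X i)) (i : ℕ) :
    Module.Finite A (C.H i) := by
  have := hfin i
  infer_instance

/-- Euler characteristic of the Koszul characteristics of the homology -/
noncomputable def euler (l : List A) (N : ℕ) : ℤ :=
  ∑ i ∈ Finset.range (N + 1), (-1 : ℤ) ^ i * LC17.chi l (C.H i)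

section Step

variable {C} {x : A}

/-- the zeroth homology of the reduction -/
theorem h0_equiv : Nonempty ((C.quot x).H 0 ≃ₗ[A] LC17.Cok x (C.H 0)) := by
  let φ : C.X 0 →ₗ[A] (C.quot x).H 0 :=
    (Submodule.mkQ _) ∘ₗ ((x • ⊤ : Submodule A (C.X 0)).mkQ.codRestrict ((C.quot x).Z 0) fun _ => trivial)
  let ψ : C.X 0 →ₗ[A] LC17.Cok x (C.H 0) :=
    (Submodule.mkQ _) ∘ₗ ((Submodule.mkQ _) ∘ₗ (LinearMap.id (R := A) (M := C.X 0)).codRestrict (C.Z 0) fun _ => trivial)
  have hφ : Function.Surjective φ := by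
    intro z
    obtain ⟨⟨z, hz⟩, rfl⟩ := Submodule.Quotient.mk_surjective _ z
    obtain ⟨w, rfl⟩ := Submodule.Quotient.mk_surjective _ z
    exact ⟨w, rfl⟩
  have hψ : Function.Surjective ψ := by
    intro z
    obtain ⟨z, rfl⟩ := Submodule.Quotient.mk_surjective _ z
    obtain ⟨⟨w, hw⟩, rfl⟩ := Submodule.Quotient.mk_surjective _ z
    exact ⟨w, rfl⟩
  have hker : LinearMap.ker φ = LinearMap.ker ψ := by
    ext v
    show (Submodule.Quotient.mk _ : (C.quot x).H 0) = 0 ↔ (Submodule.Quotient.mk _ : LC17.Cok x (C.H 0)) = 0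
    rw [Submodule.Quotient.mk_eq_zero, Submodule.Quotient.mk_eq_zero]
    constructor
    · rintro ⟨u, hu⟩
      obtain ⟨u, rfl⟩ := Submodule.Quotient.mk_surjective _ u
      rw [quot_d] at hu
      have hd : (Submodule.Quotient.mk (v - C.d 0 u) : QuotSMulTop x (C.X 0)) = 0 := by
        rw [Submodule.Quotient.mk_sub]
        exact sub_eq_zero.2 hu.symm
      obtain ⟨w, hw⟩ := (mk_eq_zero_iff x _).1 hd
      refine ⟨Submodule.Quotient.mk ⟨w, trivial⟩, (Submodule.Quotient.eq _).2 ⟨-u, ?_⟩⟩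
      show C.d 0 (-u) = x • w - v
      rw [hw, map_neg]; abel
    · rintro ⟨u, hu⟩
      obtain ⟨⟨w, hw⟩, rfl⟩ := Submodule.Quotient.mk_surjective _ u
      have hu' : (Submodule.Quotient.mk (x • (⟨w, hw⟩ : C.Z 0)) : C.H 0) =
          Submodule.Quotient.mk (⟨v, trivial⟩ : C.Z 0) := hu
      obtain ⟨e, he⟩ := (Submodule.Quotient.eq _).1 hu'
      refine ⟨Submodule.Quotient.mk (-e), ?_⟩
      rw [quot_d]
      show (Submodule.Quotient.mk (C.d 0 (-e)) : QuotSMulTop x (C.X 0)) = Submodule.Quotient.mk v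
      rw [Submodule.Quotient.eq, map_neg, he]
      refine (Submodule.mem_smul_pointwise_iff_exists _ _ _).2 ⟨-w, trivial, ?_⟩
      show x • -w = -(x • w - v) - v
      rw [smul_neg]; abel
  exact ⟨((φ.quotKerEquivOfSurjective hφ).symm.trans (Submodule.quotEquivOfEq _ _ hker)).trans
    (ψ.quotKerEquivOfSurjective hψ)⟩

/-- `0 → H_{i+1}/x → H_{i+1}(C/x) → H_i[x] → 0` -/
theorem h_succ_exact (hx : ∀ i, IsSMulRegular (C.X i) x) (i : ℕ) :
    ∃ (f : LC17.Cok x (C.H (i + 1)) →ₗ[A] (C.quot x).H (i + 1))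
      (g : (C.quot x).H (i + 1) →ₗ[A] LC17.Ker x (C.H i)),
      Function.Injective f ∧ Function.Surjective g ∧ Function.Exact f g := by
  let μ : C.X i →ₗ[A] C.X i := LinearMap.lsmul A (C.X i) x
  let U : Submodule A (C.X (i + 1)) := (LinearMap.range μ).comap (C.d i)
  let e : C.X i ≃ₗ[A] LinearMap.range μ := LinearEquiv.ofInjective μ (hx i)
  let ψ : U →ₗ[A] C.X i :=
    e.symm.toLinearMap ∘ₗ ((C.d i) ∘ₗ U.subtype).codRestrict (LinearMap.range μ) fun u => u.2
  have hψ : ∀ u : U, x • ψ u = C.d i (u : C.X (i + 1)) := fun u => by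
    have := congrArg Subtype.val (e.apply_symm_apply ⟨_, u.2⟩)
    exact this
  have hψZ : ∀ u, ψ u ∈ C.Z i := by
    intro u
    cases i with
    | zero => trivial
    | succ i =>
      refine hx i ?_
      show x • C.d i (ψ u) = x • (0 : C.X i)
      rw [smul_zero, ← map_smul, hψ, C.dd]
  let π : U →ₗ[A] (C.quot x).H (i + 1) :=
    (Submodule.mkQ _) ∘ₗ ((x • ⊤ : Submodule A (C.X (i + 1))).mkQ ∘ₗ U.subtype).codRestrict ((C.quot x).Z (i + 1))
      fun u => by
        show (C.quot x).d i (Submodule.Quotient.mk (u : C.X (i + 1))) = 0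
        rw [quot_d]
        exact (mk_eq_zero_iff x _).2 ⟨ψ u, hψ u⟩
  have hπ : Function.Surjective π := by
    intro z
    obtain ⟨⟨z, hz⟩, rfl⟩ := Submodule.Quotient.mk_surjective _ z
    obtain ⟨w, rfl⟩ := Submodule.Quotient.mk_surjective _ z
    obtain ⟨y, hy⟩ := (mk_eq_zero_iff x _).1 (show (Submodule.Quotient.mk (C.d i w) : QuotSMulTop x (C.X i)) = 0 from hz)
    exact ⟨⟨w, ⟨y, hy⟩⟩, rfl⟩
  let γ : U →ₗ[A] C.H i := (Submodule.mkQ _) ∘ₗ ψ.codRestrict (C.Z i) hψZ
  let γ' : U →ₗ[A] LC17.Ker x (C.H i) := γ.codRestrict _ fun u => by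
    rw [LinearMap.mem_ker, LinearMap.lsmul_apply]
    show x • (Submodule.Quotient.mk _ : C.H i) = 0
    rw [← Submodule.Quotient.mk_smul, Submodule.Quotient.mk_eq_zero]
    exact ⟨(u : C.X (i + 1)), (hψ u).symm⟩
  have hker : LinearMap.ker π ≤ LinearMap.ker γ' := by
    intro u hu
    have hu' : (Submodule.Quotient.mk _ : (C.quot x).H (i + 1)) = 0 := hu
    obtain ⟨v, hv⟩ := (Submodule.Quotient.mk_eq_zero _).1 hu'
    obtain ⟨v, rfl⟩ := Submodule.Quotient.mk_surjective _ v
    rw [quot_d] at hv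
    obtain ⟨w, hw⟩ := (mk_eq_zero_iff x _).1 (show (Submodule.Quotient.mk ((u : C.X (i + 1)) - C.d (i + 1) v) :
        QuotSMulTop x (C.X (i + 1))) = 0 by rw [Submodule.Quotient.mk_sub]; exact sub_eq_zero.2 hv.symm)
    rw [LinearMap.mem_ker]
    apply Subtype.ext
    show (Submodule.Quotient.mk _ : C.H i) = 0
    rw [Submodule.Quotient.mk_eq_zero]
    refine ⟨w, hx i ?_⟩
    show x • C.d i w = x • ψ u
    rw [hψ, ← map_smul, hw, map_sub, C.dd, sub_zero]
  let g : (C.quot x).H (i + 1) →ₗ[A] LC17.Ker x (C.H i) :=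
    (LinearMap.ker π).liftQ γ' hker ∘ₗ (π.quotKerEquivOfSurjective hπ).symm.toLinearMap
  have hg : ∀ u, g (π u) = γ' u := fun u => by
    have : (π.quotKerEquivOfSurjective hπ).symm (π u) = Submodule.Quotient.mk u := by
      rw [LinearEquiv.symm_apply_eq]; rfl
    show (LinearMap.ker π).liftQ γ' hker ((π.quotKerEquivOfSurjective hπ).symm (π u)) = _
    rw [this]; rfl
  let ζ : C.Z (i + 1) →ₗ[A] U := Submodule.inclusion fun z hz =>
    ⟨0, by rw [map_zero]; exact (show C.d i z = 0 from hz).symm⟩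
  have hf0 : (LinearMap.range (C.d (i + 1))).comap (C.Z (i + 1)).subtype ≤ LinearMap.ker (π ∘ₗ ζ) := by
    rintro z ⟨v, hv⟩
    show (Submodule.Quotient.mk _ : (C.quot x).H (i + 1)) = 0
    rw [Submodule.Quotient.mk_eq_zero]
    exact ⟨Submodule.Quotient.mk v, by rw [quot_d]; exact congrArg Submodule.Quotient.mk hv⟩
  let f₀ : C.H (i + 1) →ₗ[A] (C.quot x).H (i + 1) := Submodule.liftQ _ (π ∘ₗ ζ) hf0
  have hf1 : LinearMap.range (LinearMap.lsmul A (C.H (i + 1)) x) ≤ LinearMap.ker f₀ := by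
    rintro _ ⟨z, rfl⟩
    rw [LinearMap.mem_ker, LinearMap.lsmul_apply, map_smul]
    obtain ⟨w, hw⟩ := Submodule.Quotient.mk_surjective _ (f₀ z)
    rw [← hw, ← Submodule.Quotient.mk_smul, Submodule.Quotient.mk_eq_zero]
    refine ⟨0, ?_⟩
    rw [map_zero]
    obtain ⟨w', hw'⟩ := Submodule.Quotient.mk_surjective _ w.1
    show (0 : QuotSMulTop x (C.X (i + 1))) = x • w.1
    rw [← hw']
    exact ((mk_eq_zero_iff x _).2 ⟨w', rfl⟩).symm.trans (Submodule.Quotient.mk_smul _ x w')
  refine ⟨Submodule.liftQ _ f₀ hf1, g, ?_, ?_, ?_⟩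
  · rw [injective_iff_map_eq_zero]
    intro z hz
    obtain ⟨z, rfl⟩ := Submodule.Quotient.mk_surjective _ z
    obtain ⟨⟨z, hzZ⟩, rfl⟩ := Submodule.Quotient.mk_surjective _ z
    have hz' : (Submodule.Quotient.mk _ : (C.quot x).H (i + 1)) = 0 := hz
    obtain ⟨v, hv⟩ := (Submodule.Quotient.mk_eq_zero _).1 hz'
    obtain ⟨v, rfl⟩ := Submodule.Quotient.mk_surjective _ v
    rw [quot_d] at hv
    obtain ⟨w, hw⟩ := (mk_eq_zero_iff x _).1 (show (Submodule.Quotient.mk (z - C.d (i + 1) v) :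
        QuotSMulTop x (C.X (i + 1))) = 0 by rw [Submodule.Quotient.mk_sub]; exact sub_eq_zero.2 hv.symm)
    have hwZ : w ∈ C.Z (i + 1) := hx i (show x • C.d i w = x • (0 : C.X i) by
      rw [smul_zero, ← map_smul, hw, map_sub, C.dd, sub_zero]; exact hzZ)
    rw [Submodule.Quotient.mk_eq_zero]
    refine ⟨Submodule.Quotient.mk ⟨w, hwZ⟩, ?_⟩
    rw [LinearMap.lsmul_apply, ← Submodule.Quotient.mk_smul, Submodule.Quotient.eq]
    exact ⟨-v, by show C.d (i + 1) (-v) = x • w - z; rw [hw, map_neg]; abel⟩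
  · intro z
    obtain ⟨z, hz⟩ := z
    obtain ⟨⟨y, hy⟩, rfl⟩ := Submodule.Quotient.mk_surjective _ z
    rw [LinearMap.mem_ker, LinearMap.lsmul_apply, ← Submodule.Quotient.mk_smul,
      Submodule.Quotient.mk_eq_zero] at hz
    obtain ⟨w, hw⟩ := hz
    have hwU : w ∈ U := ⟨y, hw.symm⟩
    refine ⟨π ⟨w, hwU⟩, ?_⟩
    rw [hg]
    apply Subtype.ext
    show (Submodule.Quotient.mk _ : C.H i) = Submodule.Quotient.mk ⟨y, hy⟩
    congr 1
    apply Subtype.ext
    show ψ ⟨w, hwU⟩ = y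
    exact hx i (show x • ψ ⟨w, hwU⟩ = x • y by rw [hψ]; exact hw)
  · intro z
    obtain ⟨⟨u, huU⟩, rfl⟩ := hπ z
    constructor
    · intro h
      rw [hg] at h
      have h' : (Submodule.Quotient.mk _ : C.H i) = 0 := congrArg Subtype.val h
      obtain ⟨v, hv⟩ := (Submodule.Quotient.mk_eq_zero _).1 h'
      have hv' : C.d i v = ψ ⟨u, huU⟩ := hv
      have hz : u - x • v ∈ C.Z (i + 1) := by
        show C.d i (u - x • v) = 0
        rw [map_sub, map_smul, hv', hψ, sub_self]
      refine ⟨Submodule.Quotient.mk (Submodule.Quotient.mk ⟨_, hz⟩), ?_⟩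
      show (Submodule.Quotient.mk _ : (C.quot x).H (i + 1)) = Submodule.Quotient.mk _
      rw [Submodule.Quotient.eq]
      refine ⟨0, ?_⟩
      rw [map_zero]
      show (0 : QuotSMulTop x (C.X (i + 1))) = Submodule.Quotient.mk (u - x • v) - Submodule.Quotient.mk u
      rw [← Submodule.Quotient.mk_sub]
      exact ((mk_eq_zero_iff x _).2 ⟨-v, by rw [smul_neg]; abel⟩).symm
    · rintro ⟨w, hw⟩
      obtain ⟨w, rfl⟩ := Submodule.Quotient.mk_surjective _ w
      obtain ⟨w, rfl⟩ := Submodule.Quotient.mk_surjective _ w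
      rw [← hw]
      show g (π (ζ w)) = 0
      rw [hg]
      apply Subtype.ext
      show (Submodule.Quotient.mk _ : C.H i) = 0
      rw [Submodule.Quotient.mk_eq_zero]
      refine ⟨0, ?_⟩
      rw [map_zero]
      exact hx i (show x • (0 : C.X i) = x • ψ (ζ w) by rw [smul_zero, hψ]; exact (show C.d i (w : C.X (i + 1)) = 0 from w.2).symm)

variable [IsNoetherianRing A]

theorem good_quot {l : List A} (hfin : ∀ i, Module.Finite A (C.X i)) (hx : ∀ i, IsSMulRegular (C.X i) x)
    (hG : ∀ i, LC17.Good (x :: l) (C.H i)) (i : ℕ) : LC17.Good l ((C.quot x).H i) := by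
  have := C.finite_H hfin
  have hc : ∀ j, LC17.Good l (LC17.Cok x (C.H j)) := fun j =>
    LA18.good_tail_of_smul_eq_zero (hG j) (Module.support_subset_of_surjective _ (Submodule.mkQ_surjective _))
      fun z => by
        obtain ⟨z, rfl⟩ := Submodule.Quotient.mk_surjective _ z
        rw [← Submodule.Quotient.mk_smul, Submodule.Quotient.mk_eq_zero]
        exact ⟨z, rfl⟩
  have hk : ∀ j, LC17.Good l (LC17.Ker x (C.H j)) := fun j =>
    LA18.good_tail_of_smul_eq_zero (hG j) (Module.support_subset_of_injective _ (Submodule.subtype_injective _))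
      fun z => Subtype.ext (LinearMap.mem_ker.1 z.2)
  cases i with
  | zero =>
    obtain ⟨e⟩ := h0_equiv (C := C) (x := x)
    exact (hc 0).mono (Module.support_subset_of_injective e.toLinearMap e.injective)
  | succ i =>
    obtain ⟨f, g, hf, hg, hfg⟩ := h_succ_exact hx i
    intro p hp hl
    rw [Module.support_of_exact hfg hf hg] at hp
    rcases hp with hp | hp
    · exact hc (i + 1) p hp hl
    · exact hk i p hp hl

theorem euler_step {l : List A} (N : ℕ) (hfin : ∀ i, Module.Finite A (C.X i))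
    (hx : ∀ i, IsSMulRegular (C.X i) x) (hG : ∀ i, LC17.Good (x :: l) (C.H i))
    (hN : Subsingleton (C.H (N + 1))) (hN' : Subsingleton (C.H N)) :
    C.euler (x :: l) N = (C.quot x).euler l N := by
  have := C.finite_H hfin
  have hfq : ∀ i, Module.Finite A ((C.quot x).X i) := fun i => by
    have := hfin i
    show Module.Finite A (QuotSMulTop x (C.X i))
    infer_instance
  have := (C.quot x).finite_H hfq
  have hsucc : ∀ i, LC17.chi l ((C.quot x).H (i + 1)) =
      LC17.chi l (LC17.Cok x (C.H (i + 1))) + LC17.chi l (LC17.Ker x (C.H i)) := fun i => by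
    obtain ⟨f, g, hf, hg, hfg⟩ := h_succ_exact hx i
    exact LC17.chi_exact l f g hf hg hfg (good_quot hfin hx hG (i + 1))
  have hzero : LC17.chi l ((C.quot x).H 0) = LC17.chi l (LC17.Cok x (C.H 0)) :=
    LC17.chi_congr l h0_equiv.some
  have hk : LC17.chi l (LC17.Ker x (C.H N)) = 0 := LC17.chi_subsingleton _ _
  unfold euler
  rw [Finset.sum_range_succ' (fun i => (-1 : ℤ) ^ i * LC17.chi l ((C.quot x).H i))]
  simp only [hsucc, hzero, fun i => LA18.chi_cons_split (hG i), mul_add, mul_sub,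
    Finset.sum_add_distrib, Finset.sum_sub_distrib]
  rw [Finset.sum_range_succ' (fun i => (-1 : ℤ) ^ i * LC17.chi l (LC17.Cok x (C.H i))),
    Finset.sum_range_succ (fun i => (-1 : ℤ) ^ i * LC17.chi l (LC17.Ker x (C.H i))), hk, mul_zero, add_zero,
    Finset.sum_congr rfl (fun i _ => show (-1 : ℤ) ^ (i + 1) * LC17.chi l (LC17.Ker x (C.H i)) =
      -((-1 : ℤ) ^ i * LC17.chi l (LC17.Ker x (C.H i))) by ring), Finset.sum_neg_distrib]
  ring

end Step

end Cx

end Groth.Agent.IntMult12
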