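import Groth.Agent.IntMult12.CxEuler
import Groth.Agent.IntMult12.TorVanish
import Groth.Agent.EGA4Alg4.FlatReg
import Groth.Agent.LC17.KDim
import Groth.Prelude.Def_IntMult

/-!
# `χ(M/(l)M, N)` is the Koszul characteristic of `M ⊗ N`

`R` is an `A`-algebra, `M` an `R`-module flat over `A`, `l` a sequence of `R` regular on `M`, and the
reduction `M/(l)M` is an `A`-module through a surjection `R → A`.
-/

set_option autoImplicit false
set_option linter.unusedSectionVars false
set_option linter.style.haveILetI false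

universe u

open CategoryTheory CategoryTheory.Limits MonoidalCategory TensorProduct
open scoped Pointwise

attribute [local instance] HasDerivedCategory.standard

namespace Groth.Agent.IntMult12

variable {A R : Type u} [CommRing A] [CommRing R]

/-- length along a semilinear bijection over a surjection of rings -/
theorem length_eq_of_semilinear {σ : R →+* A} [RingHomSurjective σ] {V W : Type u} [AddCommGroup V]
    [Module R V] [AddCommGroup W] [Module A W] (e : V →ₛₗ[σ] W) (he : Function.Bijective e) :
    Module.length R V = Module.length A W := by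
  let φ : Submodule R V ≃o Submodule A W :=
    { toFun := Submodule.map e
      invFun := Submodule.comap e
      left_inv := fun p => Submodule.comap_map_eq_of_injective he.1 p
      right_inv := fun p => Submodule.map_comap_eq_of_surjective he.2 p
      map_rel_iff' := fun {a b} => ⟨fun h => by
        have := Submodule.comap_mono (f := e) h
        simpa [Submodule.comap_map_eq_of_injective he.1] using this, Submodule.map_mono⟩ }
  refine WithBot.coe_inj.1 ?_
  rw [Module.coe_length, Module.coe_length]
  exact Order.krullDim_eq_of_orderIso φ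

namespace Cx

section Map

variable {σ : R →+* A} {C : Cx R} {D : Cx A} (e : ∀ i, C.X i →ₛₗ[σ] D.X i)
  (hc : ∀ i x, e i (C.d i x) = D.d i (e (i + 1) x))
include hc

lemma mem_Z : ∀ i z, z ∈ C.Z i → e i z ∈ D.Z i
  | 0, _, _ => trivial
  | i + 1, z, hz => by
    show D.d i (e (i + 1) z) = 0
    rw [← hc, show C.d i z = 0 from hz, map_zero]

/-- the map on homology -/
def Hmap (i : ℕ) : C.H i →ₛₗ[σ] D.H i :=
  Submodule.liftQ _ ((Submodule.mkQ _).comp (((e i).comp (C.Z i).subtype).codRestrict (D.Z i)
    fun z => mem_Z e hc i z.1 z.2)) (by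
      rintro z ⟨x, hx⟩
      show (Submodule.Quotient.mk _ : D.H i) = 0
      rw [Submodule.Quotient.mk_eq_zero]
      exact ⟨e (i + 1) x, (hc i x).symm.trans (congrArg (e i) hx)⟩)

lemma Hmap_bijective [RingHomSurjective σ] (he : ∀ i, Function.Bijective (e i)) (i : ℕ) :
    Function.Bijective (Hmap e hc i) := by
  have hZ : ∀ i z, e i z ∈ D.Z i → z ∈ C.Z i := by
    intro i z hz
    cases i with
    | zero => trivial
    | succ i =>
      refine (he i).1 ?_
      rw [hc, map_zero]
      exact hz
  constructor
  · rw [injective_iff_map_eq_zero]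
    intro z hz
    obtain ⟨⟨z, hzZ⟩, rfl⟩ := Submodule.Quotient.mk_surjective _ z
    obtain ⟨y, hy⟩ := (Submodule.Quotient.mk_eq_zero _).1 (show (Submodule.Quotient.mk _ : D.H i) = 0 from hz)
    obtain ⟨x, rfl⟩ := (he (i + 1)).2 y
    rw [Submodule.Quotient.mk_eq_zero]
    exact ⟨x, (he i).1 ((hc i x).trans hy)⟩
  · intro z
    obtain ⟨⟨z, hzZ⟩, rfl⟩ := Submodule.Quotient.mk_surjective _ z
    obtain ⟨x, rfl⟩ := (he i).2 z
    exact ⟨Submodule.Quotient.mk ⟨x, hZ i x hzZ⟩, rfl⟩

theorem length_H_eq [RingHomSurjective σ] (he : ∀ i, Function.Bijective (e i)) (i : ℕ) :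
    Module.length R (C.H i) = Module.length A (D.H i) :=
  length_eq_of_semilinear (Hmap e hc i) (Hmap_bijective e hc he i)

end Map

theorem H_congr {C D : Cx R} (e : ∀ i, C.X i ≃ₗ[R] D.X i)
    (hc : ∀ i x, e i (C.d i x) = D.d i (e (i + 1) x)) (i : ℕ) : Nonempty (C.H i ≃ₗ[R] D.H i) :=
  ⟨LinearEquiv.ofBijective (Hmap (σ := RingHom.id R) (fun i => (e i).toLinearMap) hc i)
    (Hmap_bijective _ _ (fun i => (e i).bijective) i)⟩

section Tens

variable [Algebra A R] (M : Type u) [AddCommGroup M] [Module R M] [Module A M] [IsScalarTower A R M]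

/-- `M ⊗_A F` as a complex over `R` -/
noncomputable def tens (F : Cx A) : Cx R where
  X i := M ⊗[A] F.X i
  d i := AlgebraTensorModule.lTensor R M (F.d i)
  dd i x := by
    have h : F.d i ∘ₗ F.d (i + 1) = 0 := LinearMap.ext (F.dd i)
    show (F.d i).lTensor M ((F.d (i + 1)).lTensor M x) = 0
    rw [← LinearMap.lTensor_comp_apply, h, LinearMap.lTensor_zero]
    rfl

variable {M} (F : Cx A)

theorem finite_tens [Module.Finite R M] (hF : ∀ i, Module.Finite A (F.X i)) (i : ℕ) :
    Module.Finite R ((tens (R := R) M F).X i) := by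
  haveI := hF i
  exact FlatCrit65.finite_tensor R (M := M) (R := A) (F.X i)

theorem subsingleton_tens (i : ℕ) (h : Subsingleton (F.X i)) : Subsingleton ((tens (R := R) M F).X i) := by
  have h0 : ∀ z : M ⊗[A] F.X i, z = 0 := fun z => by
    induction z with
    | zero => rfl
    | tmul m y => rw [Subsingleton.elim y 0, tmul_zero]
    | add a b ha hb => rw [ha, hb, add_zero]
  exact ⟨fun a b => (h0 a).trans (h0 b).symm⟩

theorem smul_tens_regular (hF : ∀ i, Module.Flat A (F.X i)) {x : R} (hx : IsSMulRegular M x) (i : ℕ) :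
    IsSMulRegular ((tens (R := R) M F).X i) x := by
  haveI := hF i
  let mul : M →ₗ[A] M := (LinearMap.lsmul R M x).restrictScalars A
  have hmul : ∀ z : M ⊗[A] F.X i, mul.rTensor (F.X i) z = x • z := by
    intro z
    induction z with
    | zero => simp
    | tmul m a => simp [mul, TensorProduct.smul_tmul']
    | add a b ha hb => rw [map_add, ha, hb, smul_add]
  intro a b hab
  refine Module.Flat.rTensor_preserves_injective_linearMap (M := F.X i) mul hx ?_
  rw [hmul, hmul]
  exact hab

variable {M' : Type u} [AddCommGroup M'] [Module R M'] [Module A M'] [IsScalarTower A R M']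

theorem H_tens_congr (g : M ≃ₗ[R] M') (i : ℕ) :
    Nonempty ((tens (R := R) M F).H i ≃ₗ[R] (tens (R := R) M' F).H i) :=
  H_congr (C := tens (R := R) M F) (D := tens (R := R) M' F)
    (fun _ => AlgebraTensorModule.congr g (LinearEquiv.refl A _)) (fun i z => by
      change M ⊗[A] F.X (i + 1) at z
      show AlgebraTensorModule.congr g (LinearEquiv.refl A _) ((F.d i).lTensor M z) =
        (F.d i).lTensor M' (AlgebraTensorModule.congr g (LinearEquiv.refl A _) z)
      induction z with
      | zero => simp
      | tmul m y => simp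
      | add a b ha hb => simp only [map_add, ha, hb]) i

/-- reduction commutes with tensoring -/
theorem H_quot_tens (x : R) (i : ℕ) :
    Nonempty (((tens (R := R) M F).quot x).H i ≃ₗ[R] (tens (R := R) (QuotSMulTop x M) F).H i) := by
  obtain ⟨g, hgdef⟩ : ∃ g : M →ₗ[A] QuotSMulTop x M, ∀ m, g m = Submodule.Quotient.mk m :=
    ⟨(x • ⊤ : Submodule R M).mkQ.restrictScalars A, fun _ => rfl⟩
  have hg : Function.Surjective g := fun w => by
    obtain ⟨m, rfl⟩ := Submodule.Quotient.mk_surjective _ w
    exact ⟨m, hgdef m⟩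
  have hΦ : ∀ j (z : M ⊗[A] F.X j),
      AlgebraTensorModule.map (R := A) (A := R) (x • ⊤ : Submodule R M).mkQ
        (LinearMap.id (R := A) (M := F.X j)) z = g.rTensor (F.X j) z := by
    intro j z
    induction z with
    | zero => simp
    | tmul m y => rw [AlgebraTensorModule.map_tmul, LinearMap.rTensor_tmul, hgdef]; rfl
    | add a b ha hb => rw [map_add, map_add, ha, hb]
  have hsurj : ∀ j, Function.Surjective
      (AlgebraTensorModule.map (R := A) (A := R) (x • ⊤ : Submodule R M).mkQ (LinearMap.id (M := F.X j))) :=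
    fun j w => by
      obtain ⟨z, hz⟩ := LinearMap.rTensor_surjective (F.X j) hg w
      exact ⟨z, (hΦ j z).trans hz⟩
  have hle : ∀ j, (x • ⊤ : Submodule R (M ⊗[A] F.X j)) ≤ LinearMap.ker
      (AlgebraTensorModule.map (R := A) (A := R) (x • ⊤ : Submodule R M).mkQ (LinearMap.id (M := F.X j))) := by
    intro j z hz
    obtain ⟨w, -, rfl⟩ := (Submodule.mem_smul_pointwise_iff_exists _ _ _).1 hz
    rw [LinearMap.mem_ker, map_smul]
    clear hz
    induction w with
    | zero => simp
    | tmul m y =>
      rw [AlgebraTensorModule.map_tmul, TensorProduct.smul_tmul', ← map_smul,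
        show ((x • ⊤ : Submodule R M).mkQ (x • m)) = 0 from (Submodule.Quotient.mk_eq_zero _).2
          (Submodule.smul_mem_pointwise_smul m x ⊤ trivial), zero_tmul]
    | add a b ha hb => rw [map_add, smul_add, ha, hb, add_zero]
  have hge : ∀ j, LinearMap.ker
      (AlgebraTensorModule.map (R := A) (A := R) (x • ⊤ : Submodule R M).mkQ (LinearMap.id (M := F.X j))) ≤
        (x • ⊤ : Submodule R (M ⊗[A] F.X j)) := by
    intro j z hz
    let mul : M →ₗ[A] M := (LinearMap.lsmul R M x).restrictScalars A
    rw [LinearMap.mem_ker, hΦ] at hz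
    have hex : Function.Exact mul g := fun m => by
      rw [hgdef, Submodule.Quotient.mk_eq_zero, Submodule.mem_smul_pointwise_iff_exists]
      simp [mul]
    obtain ⟨w, rfl⟩ := (rTensor_exact (f := mul) (g := g) (F.X j) hex hg z).1 hz
    have hmul : ∀ z : M ⊗[A] F.X j, mul.rTensor (F.X j) z = x • z := by
      intro z
      induction z with
      | zero => simp
      | tmul m a => simp [mul, TensorProduct.smul_tmul']
      | add a b ha hb => rw [map_add, ha, hb, smul_add]
    rw [hmul]
    exact Submodule.smul_mem_pointwise_smul w x ⊤ trivial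
  refine H_congr (fun j => (Submodule.quotEquivOfEq _ _ (le_antisymm (hle j) (hge j))).trans
    (LinearMap.quotKerEquivOfSurjective _ (hsurj j))) (fun j z => ?_) i
  obtain ⟨z, rfl⟩ := Submodule.Quotient.mk_surjective _ z
  change M ⊗[A] F.X (j + 1) at z
  show AlgebraTensorModule.map (x • ⊤ : Submodule R M).mkQ LinearMap.id ((F.d j).lTensor M z) =
    (F.d j).lTensor (QuotSMulTop x M)
      (AlgebraTensorModule.map (x • ⊤ : Submodule R M).mkQ LinearMap.id z)
  induction z with
  | zero => simp
  | tmul m y => simp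
  | add a b ha hb => simp only [map_add, ha, hb]

end Tens

theorem euler_congr {C D : Cx R} (l : List R) (N : ℕ) (e : ∀ i, Nonempty (C.H i ≃ₗ[R] D.H i)) :
    C.euler l N = D.euler l N :=
  Finset.sum_congr rfl fun i _ => by rw [LC17.chi_congr l (e i).some]

variable [Algebra A R] [IsNoetherianRing R]

/-- the Euler characteristic of `M ⊗ F` after reduction modulo a regular sequence -/
theorem euler_tens (F : Cx A) (hflat : ∀ i, Module.Flat A (F.X i)) (hfin : ∀ i, Module.Finite A (F.X i))
    (N : ℕ) (hz : ∀ i, N ≤ i → Subsingleton (F.X i)) : ∀ (l : List R) (M : Type u) [AddCommGroup M]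
    [Module R M] [Module A M] [IsScalarTower A R M] [Module.Finite R M],
    RingTheory.Sequence.IsWeaklyRegular M l → (∀ i, LC17.Good l ((tens (R := R) M F).H i)) →
    (tens (R := R) M F).euler l N = ∑ i ∈ Finset.range (N + 1), (-1 : ℤ) ^ i *
      LC17.lenZ R ((tens (R := R) (M ⧸ (Ideal.ofList l • (⊤ : Submodule R M))) F).H i)
  | [], M, _, _, _, _, _, _, _ => by
    refine Finset.sum_congr rfl fun i _ => ?_
    rw [LC17.chi_nil, LC17.lenZ_congr (H_tens_congr F (Submodule.quotEquivOfEqBot
      (Ideal.ofList ([] : List R) • (⊤ : Submodule R M)) (by simp)).symm i).some]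
  | x :: l, M, _, _, _, _, _, hreg, hG => by
    obtain ⟨hx, hl⟩ := (RingTheory.Sequence.isWeaklyRegular_cons_iff M x l).1 hreg
    have hCfin := finite_tens (R := R) (M := M) F hfin
    have hsub : ∀ j, N ≤ j → Subsingleton ((tens (R := R) M F).H j) := fun j hj => by
      haveI := subsingleton_tens (R := R) (M := M) F j (hz j hj)
      infer_instance
    rw [euler_step N hCfin (smul_tens_regular F hflat hx) hG (hsub _ (Nat.le_succ N)) (hsub _ le_rfl),
      euler_congr l N fun i => H_quot_tens F x i,
      euler_tens F hflat hfin N hz l (QuotSMulTop x M) hl fun i =>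
        (good_quot hCfin (smul_tens_regular F hflat hx) hG i).mono
          (H_quot_tens F x i).some.support_eq.ge]
    refine Finset.sum_congr rfl fun i _ => ?_
    rw [LC17.lenZ_congr (H_tens_congr F
      (Submodule.quotOfListConsSMulTopEquivQuotSMulTopInner M x l).symm i).some]

end Cx

section Main

variable [Algebra A R]

theorem nonempty_tor_equiv_H (M' N : Type u) [AddCommGroup M'] [Module A M'] [AddCommGroup N] [Module A N]
    (F : Cx A) (hproj : ∀ i, Module.Projective A (F.X i)) (f : F.X 0 →ₗ[A] N) (hf : Function.Surjective f)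
    (h0 : LinearMap.ker f = LinearMap.range (F.d 0))
    (hs : ∀ i, LinearMap.ker (F.d i) = LinearMap.range (F.d (i + 1))) (i : ℕ) :
    Nonempty (DRing.Tor A i M' N ≃ₗ[A] (Cx.tens (R := A) M' F).H i) := by
  let X : ℕ → ModuleCat.{u} A := fun j => ModuleCat.of A (F.X j)
  let C : ChainComplex (ModuleCat.{u} A) ℕ := ChainComplex.of X (fun j => ModuleCat.ofHom (F.d j))
    fun j => by ext1; exact LinearMap.ext (F.dd j)
  have hC : ∀ j, C.d (j + 1) j = ModuleCat.ofHom (F.d j) := fun j => by simp [C, X]
  have hw : C.d 1 0 ≫ (ModuleCat.ofHom f : C.X 0 ⟶ ModuleCat.of A N) = 0 := by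
    rw [hC 0]
    ext1
    refine LinearMap.ext fun x => ?_
    have : F.d 0 x ∈ LinearMap.ker f := by rw [h0]; exact ⟨x, rfl⟩
    exact this
  let P : ProjectiveResolution (ModuleCat.of A N) :=
    { complex := C
      projective := fun j => (IsProjective.iff_projective (R := A) (X j)).1 (hproj j)
      π := (ChainComplex.toSingle₀Equiv _ _).symm ⟨ModuleCat.ofHom f, hw⟩
      quasiIso := ⟨fun n => by
        cases n
        · rw [ChainComplex.quasiIsoAt₀_iff, ShortComplex.quasiIso_iff_of_zeros']
          · refine (ShortComplex.exact_and_epi_g_iff_of_iso ?_).2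
              ⟨(ShortComplex.moduleCat_exact_iff_range_eq_ker
                (ShortComplex.mk (C.d 1 0) (ModuleCat.ofHom f : C.X 0 ⟶ ModuleCat.of A N) hw)).2 (by
                  rw [show (ShortComplex.mk (C.d 1 0) (ModuleCat.ofHom f : C.X 0 ⟶ ModuleCat.of A N) hw).f
                    = ModuleCat.ofHom (F.d 0) from hC 0]
                  exact h0.symm),
                (ModuleCat.epi_iff_surjective _).2 hf⟩
            exact ShortComplex.isoMk (Iso.refl _) (Iso.refl _) (Iso.refl _)
              ((Category.id_comp _).trans (Category.comp_id _).symm)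
              ((Category.id_comp _).trans ((ChainComplex.toSingle₀Equiv_symm_apply_f_zero (C := C) _ hw).symm.trans (Category.comp_id _).symm))
          all_goals rfl
        · rw [quasiIsoAt_iff_exactAt']
          · rename_i n
            rw [HomologicalComplex.exactAt_iff' _ (n + 2) (n + 1) n (by simp) (by simp)]
            refine (ShortComplex.moduleCat_exact_iff_range_eq_ker _).2 ?_
            show LinearMap.range (C.d (n + 2) (n + 1)).hom = LinearMap.ker (C.d (n + 1) n).hom
            rw [hC n, show C.d (n + 2) (n + 1) = ModuleCat.ofHom (F.d (n + 1)) from hC (n + 1)]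
            exact (hs n).symm
          · apply ChainComplex.exactAt_succ_single_obj⟩ }
  let T := (tensoringLeft (ModuleCat.{u} A)).obj (ModuleCat.of A M')
  let K := (T.mapHomologicalComplex (ComplexShape.down ℕ)).obj P.complex
  let D : Cx A := Cx.tens (R := A) M' F
  let S := K.sc' (i + 1) i (i - 1)
  let e1 : DRing.Tor A i M' N ≃ₗ[A] _ := ((P.isoLeftDerivedObj T i) ≪≫
    (K.homologyIsoSc' (i + 1) i (i - 1) (by simp) (by cases i <;> simp)) ≪≫
    S.moduleCatHomologyIso).toLinearEquiv
  have hd : ∀ j, (K.d (j + 1) j).hom = (F.d j).lTensor M' := fun j => by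
    change (T.map (C.d (j + 1) j)).hom = _
    rw [hC j]
    rfl
  have hg : ∀ z : D.X i, (K.d i (i - 1)).hom z = 0 ↔ z ∈ D.Z i := by
    cases i with
    | zero =>
      intro z
      rw [show K.d 0 (0 - 1) = 0 from K.shape 0 0 (by simp)]
      exact ⟨fun _ => trivial, fun _ => rfl⟩
    | succ j =>
      intro z
      exact Iff.of_eq (congrArg (fun w => w = 0) (LinearMap.congr_fun (hd j) z))
  let φ : LinearMap.ker S.g.hom ≃ₗ[A] D.Z i :=
    { toFun := fun z => ⟨z.1, (hg z.1).1 z.2⟩
      invFun := fun z => ⟨z.1, (hg z.1).2 z.2⟩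
      left_inv := fun _ => rfl
      right_inv := fun _ => rfl
      map_add' := fun _ _ => rfl
      map_smul' := fun _ _ => rfl }
  refine ⟨e1.trans (Submodule.Quotient.equiv _ _ φ ?_)⟩
  ext z
  constructor
  · rintro ⟨x, ⟨w, hw'⟩, rfl⟩
    exact ⟨w, (LinearMap.congr_fun (hd i) w).symm.trans (congrArg Subtype.val hw')⟩
  · rintro ⟨w, hw'⟩
    exact ⟨φ.symm z, ⟨w, Subtype.ext ((LinearMap.congr_fun (hd i) w).trans hw')⟩, φ.apply_symm_apply z⟩

theorem length_tor_eq (M' N : Type u) [AddCommGroup M'] [Module A M'] [AddCommGroup N] [Module A N]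
    (F : Cx A) (hproj : ∀ i, Module.Projective A (F.X i)) (f : F.X 0 →ₗ[A] N) (hf : Function.Surjective f)
    (h0 : LinearMap.ker f = LinearMap.range (F.d 0))
    (hs : ∀ i, LinearMap.ker (F.d i) = LinearMap.range (F.d (i + 1))) (i : ℕ) :
    Module.length A (DRing.Tor A i M' N) = Module.length A ((Cx.tens (R := A) M' F).H i) :=
  (nonempty_tor_equiv_H M' N F hproj f hf h0 hs i).some.length_eq

/-- `χ_A(M/(l)M, N) = χ(l; M ⊗_A N)`. -/
theorem chi_eq_koszul [IsNoetherianRing A] [IsLocalRing A] [IsNoetherianRing R] (π : R →ₐ[A] A) (l : List R)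
    (hker : RingHom.ker π = Ideal.ofList l)
    (M : Type u) [AddCommGroup M] [Module R M] [Module A M] [IsScalarTower A R M] [Module.Finite R M]
    [Module.Flat A M] (hreg : RingTheory.Sequence.IsWeaklyRegular M l)
    (N : Type u) [AddCommGroup N] [Module A N] [Module.Finite A N] (e : ℕ)
    (hpd : HasProjectiveDimensionLE (ModuleCat.of A N) e) (hG : LC17.Good l (M ⊗[A] N)) :
    IntMult.chi A (M ⧸ (Ideal.ofList l • (⊤ : Submodule R M))) N = LC17.chi l (M ⊗[A] N) := by
  obtain ⟨X, d, f, hfree, hz, hf, h0, hs⟩ := exists_free_resolution e N hpd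
  have hdd : ∀ i x, d i (d (i + 1) x) = 0 := fun i x => by
    have : d (i + 1) x ∈ LinearMap.ker (d i) := by rw [hs]; exact ⟨x, rfl⟩
    exact this
  let F : Cx A := ⟨fun i => (X i : Type u), d, hdd⟩
  have hproj : ∀ i, Module.Projective A (F.X i) := fun i => by
    haveI : Module.Free A (F.X i) := (hfree i).1
    infer_instance
  have hflat : ∀ i, Module.Flat A (F.X i) := fun i => by
    haveI := hproj i; infer_instance
  have hfin : ∀ i, Module.Finite A (F.X i) := fun i => (hfree i).2
  have hzero : ∀ i, e + 1 ≤ i → Subsingleton (F.X i) := fun i hi =>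
    ModuleCat.subsingleton_of_isZero (hz i (by omega))
  let C : Cx R := Cx.tens (R := R) M F
  -- the homology of `M ⊗ F`
  have hsub : ∀ i, Subsingleton (C.H (i + 1)) := fun i => by
    refine ⟨fun a b => ?_⟩
    have key : ∀ z : C.H (i + 1), z = 0 := fun z => by
      obtain ⟨⟨z, hz'⟩, rfl⟩ := Submodule.Quotient.mk_surjective _ z
      rw [Submodule.Quotient.mk_eq_zero]
      exact (Module.Flat.lTensor_exact M (LinearMap.exact_iff.2 (hs i)) z).1 hz'
    rw [key a, key b]
  obtain ⟨e0⟩ : Nonempty (C.H 0 ≃ₗ[R] M ⊗[A] N) := by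
    let φ : C.Z 0 →ₗ[R] M ⊗[A] N := (AlgebraTensorModule.lTensor R M f) ∘ₗ (C.Z 0).subtype
    have hφ : Function.Surjective φ := fun w => by
      obtain ⟨z, hz'⟩ := LinearMap.lTensor_surjective M hf w
      exact ⟨⟨z, trivial⟩, hz'⟩
    refine ⟨(Submodule.quotEquivOfEq _ _ ?_).trans (φ.quotKerEquivOfSurjective hφ)⟩
    ext z
    exact ((lTensor_exact M (LinearMap.exact_iff.2 h0) hf) z.1).symm
  have hGH : ∀ i, LC17.Good l (C.H i) := fun i => by
    cases i with
    | zero => exact hG.mono e0.support_eq.le
    | succ i =>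
      haveI := hsub i
      intro p hp
      rw [Module.support_eq_empty] at hp
      exact hp.elim
  have h1 : C.euler l (e + 1) = LC17.chi l (M ⊗[A] N) := by
    rw [Cx.euler, Finset.sum_range_succ', Finset.sum_eq_zero fun i _ => ?_, zero_add, pow_zero, one_mul,
      LC17.chi_congr l e0]
    haveI := hsub i
    rw [LC17.chi_subsingleton, mul_zero]
  rw [← h1, Cx.euler_tens F hflat hfin (e + 1) hzero l M hreg hGH]
  -- compare with Tor
  let M' : Type u := M ⧸ (Ideal.ofList l • (⊤ : Submodule R M))
  have hkill : ∀ (r : R) (m : M'), r • m = π r • m := fun r m => by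
    obtain ⟨m, rfl⟩ := Submodule.Quotient.mk_surjective _ m
    have hmem : r - algebraMap A R (π r) ∈ Ideal.ofList l := by
      rw [← hker, RingHom.mem_ker, map_sub, AlgHom.commutes, Algebra.algebraMap_self, RingHom.id_apply,
        sub_self]
    rw [← IsScalarTower.algebraMap_smul R (π r), ← Submodule.Quotient.mk_smul, ← Submodule.Quotient.mk_smul,
      Submodule.Quotient.eq, ← sub_smul]
    exact Submodule.smul_mem_smul hmem trivial
  haveI : RingHomSurjective π.toRingHom := ⟨fun a => ⟨algebraMap A R a, π.commutes a⟩⟩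
  let eσ : ∀ j, (Cx.tens (R := R) M' F).X j →ₛₗ[π.toRingHom] (Cx.tens (R := A) M' F).X j := fun j =>
    { toFun := id
      map_add' := fun _ _ => rfl
      map_smul' := fun r z => by
        change M' ⊗[A] F.X j at z
        show r • z = π r • z
        induction z with
        | zero => simp
        | tmul m y => rw [TensorProduct.smul_tmul', TensorProduct.smul_tmul', hkill]
        | add a b ha hb => rw [smul_add, smul_add, ha, hb] }
  have hlen : ∀ i, LC17.lenZ R ((Cx.tens (R := R) M' F).H i) =
      ((Module.length A (DRing.Tor A i M' N)).toNat : ℤ) := fun i => by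
    rw [LC17.lenZ, Cx.length_H_eq eσ (fun _ _ => rfl) (fun _ => Function.bijective_id) i,
      length_tor_eq M' N F hproj f hf h0 hs i]
  simp only [M', hlen] at hlen ⊢
  unfold IntMult.chi
  refine finsum_eq_sum_of_support_subset _ fun i hi => ?_
  rw [Finset.coe_range, Set.mem_Iio]
  by_contra hc
  refine hi ?_
  show (-1 : ℤ) ^ i * _ = 0
  haveI := Cx.subsingleton_tens (R := A) (M := M') F i (hzero i (by omega))
  rw [length_tor_eq M' N F hproj f hf h0 hs i, Module.length_eq_zero_iff.2 inferInstance]
  simp

end Main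

end Groth.Agent.IntMult12
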