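import Groth.Agent.IntMult12.DiagIneq
import Groth.Agent.Div89.Codim
import Groth.Agent.WC97.Dim
import Groth.Agent.VarGal.SmoothReg
import Groth.Agent.CAlg1.SmoothKaehlerDim
import Groth.Agent.Var76.KaehlerFibre
import Groth.Agent.LC17.KGood
import Groth.Prelude.Def_IntMult

/-!
# Local rings at a component of a proper intersection on a nonsingular variety
-/

set_option autoImplicit false
set_option linter.unusedSectionVars false
set_option linter.style.haveILetI false

universe u

open CategoryTheory AlgebraicGeometry IsLocalRing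
open scoped TensorProduct

namespace Groth.Agent.IntMult12

open CAlgH2 (trdegQuot dimAt)

theorem stalkIdeal_eq {X : Scheme.{u}} (I : X.IdealSheafData) (x : X) :
    IntMult.stalkIdeal I x = Div89.stalkIdeal I x := rfl

section Affine

variable {k : Type u} [Field k] {S : Type u} [CommRing S] [IsDomain S] [Algebra k S]
  [Algebra.FiniteType k S]

theorem exists_span_kaehler (w : Ideal S) [w.IsPrime] [Algebra.IsSmoothAt k w] :
    ∃ (x : Fin (trdegQuot k (⊥ : Ideal S)) → S) (a : S), a ∉ w ∧ ∀ ω : Ω[S⁄k],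
      a • ω ∈ Submodule.span S (Set.range fun i => KaehlerDifferential.D k S (x i)) := by
  classical
  set n := trdegQuot k (⊥ : Ideal S)
  have hdim : dimAt k w = n := by
    have : {P : Ideal S | P ∈ minimalPrimes S ∧ P ≤ w} = {⊥} := by
      ext P
      simp [IsDomain.minimalPrimes_eq_singleton_bot]
      aesop
    rw [CAlgH2.dimAt, this, Set.image_singleton, csSup_singleton]
  have hle : Module.finrank w.ResidueField (w.ResidueField ⊗[S] Ω[S⁄k]) ≤ n :=
    (CAlg1.le_dimAt_of_isSmoothAt k w).trans hdim.le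
  let v : S → w.ResidueField ⊗[S] Ω[S⁄k] := fun s => 1 ⊗ₜ KaehlerDifferential.D k S s
  have htop : Submodule.span w.ResidueField (Set.range v) = ⊤ := by
    refine eq_top_iff.2 fun z _ => ?_
    induction z using TensorProduct.induction_on with
    | zero => simp
    | tmul c ω =>
      rw [show c ⊗ₜ[S] ω = c • ((1 : w.ResidueField) ⊗ₜ[S] ω) by simp [TensorProduct.smul_tmul']]
      refine Submodule.smul_mem _ _ ?_
      clear! c
      have hω : ω ∈ Submodule.span S (Set.range (KaehlerDifferential.D k S)) := by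
        rw [KaehlerDifferential.span_range_derivation]; trivial
      induction hω using Submodule.span_induction with
      | mem y hy => obtain ⟨s, rfl⟩ := hy; exact Submodule.subset_span ⟨s, rfl⟩
      | zero => simp
      | add y z _ _ hy hz => rw [TensorProduct.tmul_add]; exact add_mem hy hz
      | smul s y _ hy =>
        rw [TensorProduct.tmul_smul]
        exact Submodule.smul_of_tower_mem _ s hy
    | add a b ha hb => exact add_mem (ha trivial) (hb trivial)
  obtain ⟨t, htsub, htspan, htli⟩ := exists_linearIndependent w.ResidueField (Set.range v)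
  rw [htop] at htspan
  have : Finite t := htli.finite
  have : Fintype t := Fintype.ofFinite t
  have hcard : Fintype.card t ≤ n := by
    rw [← Set.toFinset_card, ← finrank_span_set_eq_card htli, htspan, finrank_top]
    exact hle
  let e : t ↪ Fin n := (Fintype.equivFin t).toEmbedding.trans (Fin.castLEEmb hcard)
  let x : Fin n → S := Function.extend e (fun z => (htsub z.2).choose) 0
  obtain ⟨a, ha, hax⟩ := Var76.KaehlerFibre.exists_notMem_smul_le w
    (fun i => KaehlerDifferential.D k S (x i)) (by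
      rw [eq_top_iff, ← htspan, Submodule.span_le]
      intro z hz
      refine Submodule.subset_span ⟨e ⟨z, hz⟩, ?_⟩
      show v (x (e ⟨z, hz⟩)) = z
      rw [show x (e ⟨z, hz⟩) = _ from e.injective.extend_apply _ _ ⟨z, hz⟩]
      exact (htsub hz).choose_spec)
  exact ⟨x, a, ha, hax⟩

/-- `dim (S/p)_w + trdeg w = trdeg p` in the localization at `w`. -/
theorem ringKrullDim_quot_localization {R : Type u} [CommRing R] [Algebra S R] (w : Ideal S) [w.IsPrime]
    [IsLocalization.AtPrime R w] (p : Ideal S) [p.IsPrime] (hpw : p ≤ w) :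
    ∃ d : ℕ, ringKrullDim (R ⧸ p.map (algebraMap S R)) = d ∧ d + trdegQuot k w = trdegQuot k p := by
  have := Ideal.isPrime_map_quotientMk_of_isPrime hpw
  have hM : Algebra.algebraMapSubmonoid (S ⧸ p) w.primeCompl = (w.map (Ideal.Quotient.mk p)).primeCompl := by
    ext z
    obtain ⟨z, rfl⟩ := Ideal.Quotient.mk_surjective z
    show (_ ∈ Submonoid.map _ _) ↔ Ideal.Quotient.mk p z ∉ w.map (Ideal.Quotient.mk p)
    rw [Ideal.mem_quotient_iff_mem hpw]
    constructor
    · rintro ⟨y, hy, hyz⟩ hz
      have hd : y - z ∈ p := (Ideal.Quotient.eq).1 hyz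
      exact hy (by simpa using add_mem (hpw hd) hz)
    · exact fun hz => ⟨z, hz, rfl⟩
  have hinst : IsLocalization (Algebra.algebraMapSubmonoid (S ⧸ p) w.primeCompl) (R ⧸ p.map (algebraMap S R)) :=
    inferInstance
  have : IsLocalization.AtPrime (R ⧸ p.map (algebraMap S R)) (w.map (Ideal.Quotient.mk p)) :=
    IsLocalization.isLocalization_of_is_exists_mul_mem _ _ _ hM.le fun z => ⟨1, by rw [one_mul, hM]; exact z.2⟩
  have h := CAlgH2.height_add_trdegQuot k p w hpw
  have hne : (w.map (Ideal.Quotient.mk p)).height ≠ ⊤ := by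
    intro htop; rw [htop, top_add] at h; exact ENat.top_ne_natCast _ h
  obtain ⟨d, hd⟩ := ENat.ne_top_iff_exists.1 hne
  refine ⟨d, ?_, ?_⟩
  · rw [IsLocalization.AtPrime.ringKrullDim_eq_height (w.map (Ideal.Quotient.mk p)) _, ← hd]; rfl
  · rw [← hd] at h; exact_mod_cast h

end Affine

/-- The local data of a proper intersection at a component. -/
structure LocalData (A : Type u) [CommRing A] (P Q : Ideal A) : Prop where
  regular : IsRegularLocalRing A
  primeP : P.IsPrime
  primeQ : Q.IsPrime
  finiteLength : IsFiniteLength A (A ⧸ (P ⊔ Q))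
  dim : ∃ a b : ℕ, ringKrullDim A = (a + b : ℕ) ∧ ringKrullDim (A ⧸ P) = a ∧ ringKrullDim (A ⧸ Q) = b

variable {K : Type u} [Field K]

theorem tdegN_eq_trdegQuot {X : Scheme.{u}} (f : X ⟶ Spec (CommRingCat.of K)) [LocallyOfFiniteType f]
    (U : X.affineOpens) {x : X} (hx : x ∈ U.1) :
    letI := (WC97.kSec f U.2).toAlgebra
    WC97.tdegN f x = trdegQuot K (Div89.primeAt U x hx) := by
  unfold WC97.tdegN CAlgH2.trdegQuot
  exact congrArg Cardinal.toNat (WC97.tdeg_eq_trdeg_quotient f U.2 hx).symm

theorem isSmoothAt_kSec {X : Scheme.{u}} (f : X ⟶ Spec (CommRingCat.of K)) [Smooth f]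
    (U : X.affineOpens) (w : Ideal Γ(X, U.1)) [w.IsPrime] :
    letI := (WC97.kSec f U.2).toAlgebra
    Algebra.IsSmoothAt K w := by
  letI := (WC97.kSec f U.2).toAlgebra
  have hs : Smooth (Spec.map (Spec.preimage (U.2.fromSpec ≫ f))) := by
    rw [Spec.map_preimage]; infer_instance
  have h : (WC97.kSec f U.2).Smooth := (HasRingHomProperty.Spec_iff (P := @Smooth)).1 hs
  have : Algebra.Smooth K Γ(X, U.1) := RingHom.smooth_algebraMap.1 h
  infer_instance

/-- The local rings at a component of a proper intersection. -/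
theorem localData (X : Scheme.{u}) (f : X ⟶ Spec (CommRingCat.of K)) [Smooth f] [IsIntegral X]
    (IV IW : X.IdealSheafData) [IsIntegral IV.subscheme] [IsIntegral IW.subscheme] (n r s : ℕ)
    (hn : topologicalKrullDim X = n) (hr : topologicalKrullDim IV.support = r)
    (hs : topologicalKrullDim IW.support = s)
    (hprop : IntMult.ProperInt (IV.support : Set X) (IW.support : Set X) n r s) (ξ : X)
    (hξV : ξ ∈ IV.support) (hξW : ξ ∈ IW.support)
    (hmax : ∀ ξ' : X, ξ' ∈ IV.support → ξ' ∈ IW.support → ξ' ⤳ ξ → ξ' = ξ) :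
    LocalData (X.presheaf.stalk ξ) (IntMult.stalkIdeal IV ξ) (IntMult.stalkIdeal IW ξ) := by
  obtain ⟨U, hU⟩ := Div89.exists_affine_mem ξ
  letI : Algebra K Γ(X, U.1) := (WC97.kSec f U.2).toAlgebra
  have : Algebra.FiniteType K Γ(X, U.1) := WC97.kSec_finiteType f U.2
  have : Nonempty U.1 := ⟨⟨ξ, hU⟩⟩
  let w := Div89.primeAt U ξ hU
  have : Algebra.IsSmoothAt K w := isSmoothAt_kSec f U w
  -- generic points
  have hirr : ∀ (I : X.IdealSheafData) [IsIntegral I.subscheme], IsIrreducible (I.support : Set X) := by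
    intro I _
    rw [← I.range_subschemeι]
    rw [← Set.image_univ]
    exact (IrreducibleSpace.isIrreducible_univ I.subscheme).image _ I.subschemeι.continuous.continuousOn
  obtain ⟨ηV, hηV⟩ : ∃ η, IsGenericPoint η (IV.support : Set X) :=
    QuasiSober.sober (hirr IV) IV.support.isClosed
  obtain ⟨ηW, hηW⟩ : ∃ η, IsGenericPoint η (IW.support : Set X) :=
    QuasiSober.sober (hirr IW) IW.support.isClosed
  have hVU : ηV ∈ U.1 := (hηV.specializes hξV).mem_open U.1.isOpen hU
  have hWU : ηW ∈ U.1 := (hηW.specializes hξW).mem_open U.1.isOpen hU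
  let p := Div89.primeAt U ηV hVU
  let q := Div89.primeAt U ηW hWU
  have hpw : p ≤ w := (Div89.specializes_iff_primeAt_le U hU hVU).1 (hηV.specializes hξV)
  have hqw : q ≤ w := (Div89.specializes_iff_primeAt_le U hU hWU).1 (hηW.specializes hξW)
  letI := Div89.stalkAlg U.1 ξ hU
  haveI := Div89.isLocalization_stalk U ξ hU
  have hP : IntMult.stalkIdeal IV ξ = p.map (algebraMap Γ(X, U.1) (X.presheaf.stalk ξ)) := by
    rw [stalkIdeal_eq, Div89.stalkIdeal_eq IV U ξ hU, Div89.ideal_eq_primeAt_of_genericPoint IV hηV U hVU]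
    rfl
  have hQ : IntMult.stalkIdeal IW ξ = q.map (algebraMap Γ(X, U.1) (X.presheaf.stalk ξ)) := by
    rw [stalkIdeal_eq, Div89.stalkIdeal_eq IW U ξ hU, Div89.ideal_eq_primeAt_of_genericPoint IW hηW U hWU]
    rfl
  have hwmin : w ∈ (p ⊔ q).minimalPrimes := by
    refine ⟨⟨inferInstance, sup_le hpw hqw⟩, ?_⟩
    rintro v ⟨hv, hpqv⟩ hvw
    obtain ⟨y, hy, rfl⟩ := Div89.exists_point U v
    have hyV : y ∈ IV.support := by
      rw [Div89.mem_support_iff_le IV U y hy, Div89.ideal_eq_primeAt_of_genericPoint IV hηV U hVU]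
      exact le_sup_left.trans hpqv
    have hyW : y ∈ IW.support := by
      rw [Div89.mem_support_iff_le IW U y hy, Div89.ideal_eq_primeAt_of_genericPoint IW hηW U hWU]
      exact le_sup_right.trans hpqv
    obtain rfl := hmax y hyV hyW ((Div89.specializes_iff_primeAt_le U hU hy).2 hvw)
    exact le_rfl
  -- transcendence degrees
  have hdim : ∀ (x : X) (hx : x ∈ U.1), topologicalKrullDim ↥(closure ({x} : Set X)) =
      (trdegQuot K (Div89.primeAt U x hx) : ℕ) := fun x hx => by
    rw [WC97.topologicalKrullDim_closure f x, tdegN_eq_trdegQuot f U hx]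
  have hr' : trdegQuot K p = r := by
    have h : ((trdegQuot K p : ℕ) : WithBot ℕ∞) = ((r : ℕ) : WithBot ℕ∞) := by
      rw [← hr, ← hdim ηV hVU, hηV.def]
      rfl
    exact_mod_cast h
  have hs' : trdegQuot K q = s := by
    have h : ((trdegQuot K q : ℕ) : WithBot ℕ∞) = ((s : ℕ) : WithBot ℕ∞) := by
      rw [← hs, ← hdim ηW hWU, hηW.def]
      rfl
    exact_mod_cast h
  have hgen : Div89.primeAt U (genericPoint X) ((genericPoint_specializes ξ).mem_open U.1.isOpen hU) = ⊥ := by
    obtain ⟨y, hy, hy0⟩ := Div89.exists_point U (⊥ : Ideal Γ(X, U.1))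
    refine le_bot_iff.1 (hy0 ▸ ?_)
    exact (Div89.specializes_iff_primeAt_le U hy _).1 (genericPoint_specializes y)
  have hn' : trdegQuot K (⊥ : Ideal Γ(X, U.1)) = n := by
    have h1 := hdim (genericPoint X) ((genericPoint_specializes ξ).mem_open U.1.isOpen hU)
    rw [hgen, (genericPoint_spec X).def, IsHomeomorph.topologicalKrullDim_eq _
      (Homeomorph.Set.univ X).isHomeomorph, hn] at h1
    exact_mod_cast h1.symm
  obtain ⟨x, a, ha, hax⟩ := exists_span_kaehler (k := K) w
  have hineq := trdegQuot_add_le x p q w hwmin ha hax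
  rw [hn', hr', hs'] at hineq
  obtain ⟨hnrs, hZ⟩ := hprop ⟨ξ, hξV, hξW⟩
  have hz : trdegQuot K w ≤ r + s - n := by
    have h1 : closure ({ξ} : Set X) ⊆ (IV.support : Set X) ∩ (IW.support : Set X) :=
      closure_minimal (Set.singleton_subset_iff.2 ⟨hξV, hξW⟩) (IV.support.isClosed.inter IW.support.isClosed)
    have h2 := (TopDim50.dim_mono (X := X) h1).trans hZ
    rw [hdim ξ hU] at h2
    exact_mod_cast h2
  obtain ⟨dp, hdp, hdp'⟩ := ringKrullDim_quot_localization (k := K) (R := X.presheaf.stalk ξ) w p hpw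
  obtain ⟨dq, hdq, hdq'⟩ := ringKrullDim_quot_localization (k := K) (R := X.presheaf.stalk ξ) w q hqw
  obtain ⟨d0, hd0, hd0'⟩ := ringKrullDim_quot_localization (k := K) (R := X.presheaf.stalk ξ) w ⊥ bot_le
  rw [Ideal.map_bot] at hd0
  rw [ringKrullDim_eq_of_ringEquiv (RingEquiv.quotientBot (X.presheaf.stalk ξ))] at hd0
  rw [hr'] at hdp'
  rw [hs'] at hdq'
  rw [hn'] at hd0'
  have hprime : ∀ v : Ideal Γ(X, U.1), v.IsPrime → v ≤ w →
      (v.map (algebraMap Γ(X, U.1) (X.presheaf.stalk ξ))).IsPrime := fun v hv hvw =>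
    IsLocalization.isPrime_of_isPrime_disjoint w.primeCompl _ v hv
      (Set.disjoint_left.2 fun y hy hy' => hy (hvw hy'))
  haveI : IsRegularLocalRing (X.presheaf.stalk ξ) := VarGal.isRegularLocalRing_stalk_of_smooth f ξ
  refine ⟨inferInstance, hP ▸ hprime p inferInstance hpw, hQ ▸ hprime q inferInstance hqw, ?_,
    dp, dq, ?_, hP ▸ hdp, hQ ▸ hdq⟩
  · rw [← Module.length_ne_top_iff]
    refine LC17.length_ne_top_of_support fun v hv => ?_
    rw [Module.support_eq_zeroLocus, PrimeSpectrum.mem_zeroLocus, SetLike.coe_subset_coe,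
      Ideal.annihilator_quotient, hP, hQ, ← Ideal.map_sup, Ideal.map_le_iff_le_comap] at hv
    have hvw : v.asIdeal.comap (algebraMap Γ(X, U.1) (X.presheaf.stalk ξ)) ≤ w := by
      rw [← IsLocalization.AtPrime.under_maximalIdeal (X.presheaf.stalk ξ) w]
      exact Ideal.comap_mono (le_maximalIdeal v.2.ne_top)
    have heq := hwmin.2 ⟨Ideal.IsPrime.comap _, hv⟩ hvw
    have hmax' : v.asIdeal = maximalIdeal (X.presheaf.stalk ξ) := by
      refine le_antisymm (le_maximalIdeal v.2.ne_top) ?_
      rw [← IsLocalization.AtPrime.map_eq_maximalIdeal w (X.presheaf.stalk ξ)]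
      exact (Ideal.map_mono heq).trans Ideal.map_comap_le
    rw [hmax']
    exact maximalIdeal.isMaximal _
  · rw [hd0]
    congr 1
    omega

end Groth.Agent.IntMult12
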