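import Groth.Agent.IntMult12.CxTens
import Groth.Agent.IntMult12.Setup
import Groth.Agent.IntMult12.MultOne
import Groth.Agent.CAlg1.Regular
import Groth.Agent.Var76.RegKaehler
import Groth.Agent.EGA4Alg4.CMMod
import Mathlib.RingTheory.Flat.Localization
import Mathlib.RingTheory.TensorProduct.Quotient
import Mathlib.RingTheory.Smooth.Basic

/-!
# Reduction to the diagonal on an affine smooth variety
-/

set_option autoImplicit false
set_option linter.style.haveILetI false

universe u

open TensorProduct IsLocalRing RingTheory.Sequence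
open scoped Pointwise

attribute [local instance] HasDerivedCategory.standard

namespace Groth.Agent.IntMult12

/-- a sequence with flat quotient stays regular on `M/QM` -/
theorem isWeaklyRegular_smul_top {A R : Type u} [CommRing A] [CommRing R] [Algebra A R] [IsNoetherianRing A]
    [IsNoetherianRing R] [IsLocalRing R] (Q : Ideal A) : ∀ (l : List R) (M : Type u) [AddCommGroup M]
    [Module R M] [Module A M] [IsScalarTower A R M] [Module.Finite R M], (∀ f ∈ l, f ∈ maximalIdeal R) →
    IsWeaklyRegular M l → Module.Flat A (M ⧸ (Ideal.ofList l • (⊤ : Submodule R M))) →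
    IsWeaklyRegular (M ⧸ (Q.map (algebraMap A R) • (⊤ : Submodule R M))) l
  | [], M, _, _, _, _, _, _, _, _ => IsWeaklyRegular.nil R _
  | x :: l, M, _, _, _, _, _, hm, hreg, hflat => by
    obtain ⟨hx, hl⟩ := (isWeaklyRegular_cons_iff M x l).1 hreg
    have hm' : ∀ f ∈ l, f ∈ maximalIdeal R := fun f hf => hm f (List.mem_cons_of_mem _ hf)
    have hflat' : Module.Flat A (QuotSMulTop x M ⧸ (Ideal.ofList l • ⊤ : Submodule R (QuotSMulTop x M))) :=
      EGA4Alg4.FlatReg13.flat_of_linearEquiv (Submodule.quotOfListConsSMulTopEquivQuotSMulTopInner M x l).symm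
    have hflat0 := EGA4Alg4.FlatReg13.flat_take (A := A) l (QuotSMulTop x M) hm' hl hflat' 0 (Nat.zero_le _)
    haveI : Module.Flat A (QuotSMulTop x M) :=
      EGA4Alg4.FlatReg13.flat_of_linearEquiv (Submodule.quotEquivOfEqBot
        (Ideal.ofList (l.take 0) • ⊤ : Submodule R (QuotSMulTop x M))
        (EGA4Alg4.FlatReg13.take_zero_smul_top _)).symm
    let mul : M →ₗ[A] M := (LinearMap.lsmul R M x).restrictScalars A
    let g : M →ₗ[A] QuotSMulTop x M := (x • ⊤ : Submodule R M).mkQ.restrictScalars A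
    have hgs : Function.Surjective g := fun q => by
      obtain ⟨m, rfl⟩ := Submodule.Quotient.mk_surjective _ q
      exact ⟨m, rfl⟩
    have hex : Function.Exact mul g := fun m => by
      change Submodule.Quotient.mk m = 0 ↔ _
      rw [Submodule.Quotient.mk_eq_zero, Submodule.mem_smul_pointwise_iff_exists]
      simp [mul]
    have hinj : Function.Injective (mul.lTensor (A ⧸ Q)) :=
      LinearMap.lTensor_injective_of_exact_of_flat g hgs mul hx hex (A ⧸ Q)
    refine IsWeaklyRegular.cons ?_ ?_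
    · refine IsSMulRegular.of_right_eq_zero_of_smul fun z hz => ?_
      obtain ⟨m, rfl⟩ := Submodule.Quotient.mk_surjective _ z
      rw [← Submodule.Quotient.mk_smul, Submodule.Quotient.mk_eq_zero,
        EGA4Alg4.FlatReg13.mem_smul_top_iff] at hz
      rw [Submodule.Quotient.mk_eq_zero, EGA4Alg4.FlatReg13.mem_smul_top_iff,
        ← FlatCrit65.one_tmul_eq_zero_iff]
      apply hinj
      rw [LinearMap.lTensor_tmul, map_zero]
      exact (FlatCrit65.one_tmul_eq_zero_iff Q _).2 hz
    · exact ((EGA4Alg4.FlatReg13.quotSMulTopComm (Q.map (algebraMap A R)) x).isWeaklyRegular_congr l).2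
        (isWeaklyRegular_smul_top Q l (QuotSMulTop x M) hm' hl hflat')

/-- `dim (S/p)_w + trdeg w = trdeg p` in the localization at `w`. -/
theorem dim_quot_localization {k S R : Type u} [Field k] [CommRing S] [Algebra k S] [Algebra.FiniteType k S] [CommRing R] [Algebra S R] (w : Ideal S) [w.IsPrime]
    [IsLocalization.AtPrime R w] (p : Ideal S) [p.IsPrime] (hpw : p ≤ w) :
    ∃ d : ℕ, ringKrullDim (R ⧸ p.map (algebraMap S R)) = d ∧ d + CAlgH2.trdegQuot k w = CAlgH2.trdegQuot k p := by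
  have := Ideal.isPrime_map_quotientMk_of_isPrime hpw
  have hM : Algebra.algebraMapSubmonoid (S ⧸ p) w.primeCompl = (w.map (Ideal.Quotient.mk p)).primeCompl := by
    ext z
    obtain ⟨z, rfl⟩ := Ideal.Quotient.mk_surjective z
    show (_ ∈ Submonoid.map _ _) ↔ Ideal.Quotient.mk p z ∉ w.map (Ideal.Quotient.mk p)
    rw [Ideal.mem_quotient_iff_mem hpw]
    constructor
    · rintro ⟨y, hy, hyz⟩ hz
      have hd : y - z ∈ p := (Ideal.Quotient.eq).1 hyz
      exact hy (by simpa using add_mem (hpw hd) hz)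
    · exact fun hz => ⟨z, hz, rfl⟩
  have hinst : IsLocalization (Algebra.algebraMapSubmonoid (S ⧸ p) w.primeCompl) (R ⧸ p.map (algebraMap S R)) :=
    inferInstance
  have : IsLocalization.AtPrime (R ⧸ p.map (algebraMap S R)) (w.map (Ideal.Quotient.mk p)) :=
    IsLocalization.isLocalization_of_is_exists_mul_mem _ _ _ hM.le fun z => ⟨1, by rw [one_mul, hM]; exact z.2⟩
  have h := CAlgH2.height_add_trdegQuot k p w hpw
  have hne : (w.map (Ideal.Quotient.mk p)).height ≠ ⊤ := by
    intro htop; rw [htop, top_add] at h; exact ENat.top_ne_natCast _ h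
  obtain ⟨d, hd⟩ := ENat.ne_top_iff_exists.1 hne
  refine ⟨d, ?_, ?_⟩
  · rw [IsLocalization.AtPrime.ringKrullDim_eq_height (w.map (Ideal.Quotient.mk p)) _, ← hd]; rfl
  · rw [← hd] at h; exact_mod_cast h


theorem smul_top_quotient' {R : Type u} [CommRing R] (I J : Ideal R) :
    (J • (⊤ : Submodule R (R ⧸ I))) = Submodule.map I.mkQ (I ⊔ J) := by
  have h1 : Submodule.map I.mkQ (J • (⊤ : Submodule R R)) = J • (⊤ : Submodule R (R ⧸ I)) := by
    rw [Submodule.map_smul'', Submodule.map_top, LinearMap.range_eq_top.2 (Submodule.mkQ_surjective I)]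
  rw [← h1, Submodule.map_sup, Submodule.mkQ_map_self, bot_sup_eq, smul_eq_mul, Ideal.mul_top]

variable {k : Type u} [Field k] {S : Type u} [CommRing S] [Algebra k S]

/-- `n` differentials spanning `Ω` near `w` cut out the diagonal near `w` -/
theorem map_ideal_le [Algebra.FiniteType k S] {N : ℕ} (x : Fin N → S) (W₀ : Ideal (S ⊗[k] S)) [W₀.IsPrime]
    (hKW : KaehlerDifferential.ideal k S ≤ W₀) {R : Type u} [CommRing R] [Algebra (S ⊗[k] S) R]
    [IsLocalization.AtPrime R W₀] {a : S} (haW : a ⊗ₜ[k] (1 : S) ∉ W₀)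
    (hax : ∀ ω : Ω[S⁄k], a • ω ∈ Submodule.span S (Set.range fun i => KaehlerDifferential.D k S (x i))) :
    (KaehlerDifferential.ideal k S).map (algebraMap (S ⊗[k] S) R) =
      Ideal.span (Set.range fun i => algebraMap (S ⊗[k] S) R (1 ⊗ₜ[k] x i - x i ⊗ₜ[k] (1 : S))) := by
  let K := KaehlerDifferential.ideal k S
  let φ := algebraMap (S ⊗[k] S) R
  haveI : IsLocalRing R := IsLocalization.AtPrime.isLocalRing R W₀
  let J₀ : Ideal (S ⊗[k] S) := Ideal.span (Set.range fun i => 1 ⊗ₜ[k] x i - x i ⊗ₜ[k] (1 : S))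
  have hJ : J₀.map φ = Ideal.span (Set.range fun i => φ (1 ⊗ₜ[k] x i - x i ⊗ₜ[k] (1 : S))) := by
    rw [Ideal.map_span, ← Set.range_comp]
    rfl
  refine le_antisymm ?_ ?_
  swap
  · rw [Ideal.span_le]
    rintro _ ⟨i, rfl⟩
    exact Ideal.mem_map_of_mem _ (KaehlerDifferential.one_smul_sub_smul_one_mem_ideal k (x i))
  rw [← hJ]
  have hmain : ∀ s : S, (a ⊗ₜ[k] (1 : S)) * (1 ⊗ₜ[k] s - s ⊗ₜ[k] 1) ∈ J₀ ⊔ K * K := by
    intro s
    have h1 := hax (KaehlerDifferential.D k S s)
    rw [Submodule.mem_span_range_iff_exists_fun] at h1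
    obtain ⟨b, hb⟩ := h1
    let d : S → K := fun t => ⟨1 ⊗ₜ[k] t - t ⊗ₜ[k] 1, KaehlerDifferential.one_smul_sub_smul_one_mem_ideal k t⟩
    have hd : ∀ c t : S, c • KaehlerDifferential.D k S t =
        K.toCotangent ((c ⊗ₜ[k] (1 : S)) • d t) := fun c t => by
      rw [map_smul, KaehlerDifferential.D_apply]
      exact (IsScalarTower.algebraMap_smul (S ⊗[k] S) c _).symm
    have h0 : K.toCotangent ((a ⊗ₜ[k] (1 : S)) • d s - ∑ i, (b i ⊗ₜ[k] (1 : S)) • d (x i)) = 0 := by
      rw [map_sub, map_sum, ← hd, sub_eq_zero, ← hb]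
      exact Finset.sum_congr rfl fun i _ => hd _ _
    rw [Ideal.toCotangent_eq_zero, pow_two] at h0
    have h2 : (a ⊗ₜ[k] (1 : S)) * (1 ⊗ₜ[k] s - s ⊗ₜ[k] 1) =
        (((a ⊗ₜ[k] (1 : S)) • d s - ∑ i, (b i ⊗ₜ[k] (1 : S)) • d (x i) : K) : S ⊗[k] S) +
          ∑ i, (b i ⊗ₜ[k] (1 : S)) * (1 ⊗ₜ[k] x i - x i ⊗ₜ[k] (1 : S)) := by
      simp [d]
    rw [h2]
    exact add_mem (Ideal.mem_sup_right h0)
      (Ideal.mem_sup_left (sum_mem fun i _ => Ideal.mul_mem_left _ _ (Ideal.subset_span ⟨i, rfl⟩)))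
  refine Submodule.le_of_le_smul_of_le_jacobson_bot
    (Ideal.FG.map (KaehlerDifferential.ideal_fg k S) φ)
    ((Ideal.map_mono hKW).trans
      ((IsLocalization.AtPrime.map_eq_maximalIdeal W₀ R).le.trans (IsLocalRing.maximalIdeal_le_jacobson _))) ?_
  rw [smul_eq_mul, ← Ideal.map_mul, ← Ideal.map_sup]
  conv_lhs => rw [← KaehlerDifferential.span_range_eq_ideal, Ideal.map_span]
  rw [Ideal.span_le]
  rintro _ ⟨_, ⟨s, rfl⟩, rfl⟩
  have hu : IsUnit (φ (a ⊗ₜ[k] (1 : S))) := IsLocalization.map_units R (⟨_, haW⟩ : W₀.primeCompl)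
  have := Ideal.mem_map_of_mem φ (hmain s)
  rw [map_mul] at this
  exact (Ideal.unit_mul_mem_iff_mem _ hu).1 this

open CAlgH2 in
/-- Reduction to the diagonal: the Tor multiplicity at a component `w` of the intersection of `p`
and `q` is the Koszul characteristic of the diagonal on the product; it vanishes in excess dimension and is
positive for a proper intersection. -/
theorem diag_chi' [IsDomain S] [Algebra.FiniteType k S] [Algebra.Smooth k S] (p q w : Ideal S) [p.IsPrime]
    [q.IsPrime] [w.IsPrime] (hwmin : w ∈ (p ⊔ q).minimalPrimes)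
    (A : Type u) [CommRing A] [Algebra S A] [IsLocalization.AtPrime A w]
    (W₀ : Ideal (S ⊗[k] S)) [W₀.IsPrime] (hW₀ : W₀ = w.comap (Algebra.TensorProduct.lmul' k (S := S)))
    (R : Type u) [CommRing R] [Algebra (S ⊗[k] S) R] [IsLocalization.AtPrime R W₀] :
    ∃ l : List R, l.length = trdegQuot k (⊥ : Ideal S) ∧
      Ideal.ofList l = (KaehlerDifferential.ideal k S).map (algebraMap (S ⊗[k] S) R) ∧
      IsWeaklyRegular R l ∧
      IntMult.chi A (A ⧸ q.map (algebraMap S A)) (A ⧸ p.map (algebraMap S A)) =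
        LC17.chi l (R ⧸ ((q.map Algebra.TensorProduct.includeRight).map (algebraMap (S ⊗[k] S) R) ⊔
          (p.map (Algebra.TensorProduct.includeLeft : S →ₐ[k] S ⊗[k] S)).map (algebraMap (S ⊗[k] S) R))) ∧
      (trdegQuot k p + trdegQuot k q < trdegQuot k w + trdegQuot k (⊥ : Ideal S) →
        IntMult.chi A (A ⧸ q.map (algebraMap S A)) (A ⧸ p.map (algebraMap S A)) = 0) ∧
      (trdegQuot k p + trdegQuot k q = trdegQuot k w + trdegQuot k (⊥ : Ideal S) →
        0 < LC17.chi l (R ⧸ ((q.map Algebra.TensorProduct.includeRight).map (algebraMap (S ⊗[k] S) R) ⊔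
          (p.map (Algebra.TensorProduct.includeLeft : S →ₐ[k] S ⊗[k] S)).map (algebraMap (S ⊗[k] S) R)))) := by
  have hpw : p ≤ w := le_sup_left.trans hwmin.1.2
  have hqw : q ≤ w := le_sup_right.trans hwmin.1.2
  set n := trdegQuot k (⊥ : Ideal S) with hn
  haveI : Algebra.IsSmoothAt k w := inferInstance
  obtain ⟨x, a, ha, hax⟩ := exists_span_kaehler (k := k) w
  let μ : S ⊗[k] S →ₐ[k] S := Algebra.TensorProduct.lmul' k (S := S)
  let iL : S →ₐ[k] S ⊗[k] S := Algebra.TensorProduct.includeLeft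
  let iR : S →ₐ[k] S ⊗[k] S := Algebra.TensorProduct.includeRight
  have hμL : ∀ s, μ (iL s) = s := fun s => by simp [μ, iL]
  have hμR : ∀ s, μ (iR s) = s := fun s => by simp [μ, iR]
  let φ := algebraMap (S ⊗[k] S) R
  let α := algebraMap S A
  haveI : Algebra.FiniteType k (S ⊗[k] S) := Algebra.FiniteType.trans (S := S) inferInstance inferInstance
  haveI : IsNoetherianRing (S ⊗[k] S) := Algebra.FiniteType.isNoetherianRing k _
  haveI : IsNoetherianRing S := Algebra.FiniteType.isNoetherianRing k _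
  haveI : IsLocalRing R := IsLocalization.AtPrime.isLocalRing R W₀
  haveI : IsLocalRing A := IsLocalization.AtPrime.isLocalRing A w
  haveI : IsNoetherianRing R := IsLocalization.isNoetherianRing W₀.primeCompl R inferInstance
  haveI : IsNoetherianRing A := IsLocalization.isNoetherianRing w.primeCompl A inferInstance
  haveI : Algebra.Smooth k (S ⊗[k] S) := Algebra.Smooth.comp k S (S ⊗[k] S)
  haveI : IsRegularLocalRing R := by
    have : IsRegularRing (S ⊗[k] S) := Var76.RegKaehler.isRegularRing_of_smooth k _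
    have := IsRegularRing.isRegularLocalRing_localization (R := S ⊗[k] S) W₀
    exact IsRegularLocalRing.of_ringEquiv
      (IsLocalization.algEquiv W₀.primeCompl (Localization.AtPrime W₀) R).toRingEquiv
  haveI : IsRegularLocalRing A := by
    have : IsRegularRing S := Var76.RegKaehler.isRegularRing_of_smooth k _
    have := IsRegularRing.isRegularLocalRing_localization (R := S) w
    exact IsRegularLocalRing.of_ringEquiv
      (IsLocalization.algEquiv w.primeCompl (Localization.AtPrime w) A).toRingEquiv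
  -- the ring maps
  have hW : ∀ t : S ⊗[k] S, t ∈ W₀ ↔ μ t ∈ w := fun t => by rw [hW₀, Ideal.mem_comap]
  have hπu : ∀ y : W₀.primeCompl, IsUnit ((α.comp μ.toRingHom) y) := fun y =>
    IsLocalization.map_units A (⟨μ y, fun h => y.2 ((hW _).2 h)⟩ : w.primeCompl)
  let π : R →+* A := IsLocalization.lift hπu
  have hπ : ∀ t, π (φ t) = α (μ t) := fun t => IsLocalization.lift_eq hπu t
  have hLu : ∀ y : w.primeCompl, IsUnit ((φ.comp iL.toRingHom) y) := fun y =>
    IsLocalization.map_units R (⟨iL y, fun h => y.2 (hμL y ▸ (hW _).1 h)⟩ : W₀.primeCompl)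
  have hRu : ∀ y : w.primeCompl, IsUnit ((φ.comp iR.toRingHom) y) := fun y =>
    IsLocalization.map_units R (⟨iR y, fun h => y.2 (hμR y ▸ (hW _).1 h)⟩ : W₀.primeCompl)
  let ι : A →+* R := IsLocalization.lift hLu
  let ι' : A →+* R := IsLocalization.lift hRu
  have hι : ∀ s, ι (α s) = φ (iL s) := fun s => IsLocalization.lift_eq hLu s
  have hι' : ∀ s, ι' (α s) = φ (iR s) := fun s => IsLocalization.lift_eq hRu s
  have hπι : ∀ z, π (ι z) = z := RingHom.congr_fun (IsLocalization.ringHom_ext w.primeCompl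
    (j := π.comp ι) (k := RingHom.id A) (RingHom.ext fun s => by
      show π (ι (α s)) = α s
      rw [hι, hπ, hμL]))
  have hπι' : ∀ z, π (ι' z) = z := RingHom.congr_fun (IsLocalization.ringHom_ext w.primeCompl
    (j := π.comp ι') (k := RingHom.id A) (RingHom.ext fun s => by
      show π (ι' (α s)) = α s
      rw [hι', hπ, hμR]))
  have hπs : Function.Surjective π := fun z => ⟨ι z, hπι z⟩
  -- the diagonal
  let d : Fin n → R := fun i => φ (1 ⊗ₜ[k] x i - x i ⊗ₜ[k] (1 : S))
  let l : List R := List.ofFn d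
  have hKW : KaehlerDifferential.ideal k S ≤ W₀ := fun t ht => by
    rw [hW, show μ t = 0 from ht]; exact zero_mem _
  have hl : Ideal.ofList l = (KaehlerDifferential.ideal k S).map φ := by
    rw [LC17.ofList_ofFn, map_ideal_le x W₀ hKW (R := R)
      (fun h => ha (by rw [hW, show a ⊗ₜ[k] (1 : S) = iL a from rfl, hμL] at h; exact h)) hax]
  have hker : RingHom.ker π = Ideal.ofList l := by
    refine le_antisymm ?_ ?_
    · intro z hz
      obtain ⟨⟨t, c⟩, htc⟩ := IsLocalization.surj W₀.primeCompl z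
      rw [hl, ← Ideal.mul_unit_mem_iff_mem _ (IsLocalization.map_units R c), htc]
      have h0 : α (μ t) = 0 := by
        rw [← hπ t, show φ t = z * φ c from htc.symm, map_mul, (RingHom.mem_ker.1 hz), zero_mul]
      obtain ⟨⟨v, hv⟩, hv0⟩ := (IsLocalization.map_eq_zero_iff w.primeCompl A _).1 h0
      have hu : IsUnit (φ (iL v)) := hι v ▸ (IsLocalization.map_units A (⟨v, hv⟩ : w.primeCompl)).map ι
      rw [← Ideal.unit_mul_mem_iff_mem _ hu, ← map_mul]
      refine Ideal.mem_map_of_mem _ ?_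
      show μ (iL v * t) = 0
      rw [map_mul, hμL]
      exact hv0
    · rw [hl, Ideal.map_le_iff_le_comap]
      intro t ht
      show π (φ t) = 0
      rw [hπ, show μ t = 0 from ht, map_zero]
  have hm : ∀ f ∈ l, f ∈ maximalIdeal R := fun f hf =>
    le_maximalIdeal (RingHom.ker_ne_top π) (hker ▸ Ideal.subset_span hf)
  -- dimensions
  obtain ⟨dA, hdA, hdA'⟩ := dim_quot_localization (k := k) (R := A) w ⊥ bot_le
  rw [Ideal.map_bot, ringKrullDim_eq_of_ringEquiv (RingEquiv.quotientBot A)] at hdA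
  have hsurjμ : Function.Surjective μ := fun s => ⟨iL s, hμL s⟩
  have htrW : trdegQuot k W₀ = trdegQuot k w := by
    let ν : (S ⊗[k] S) →ₐ[k] S ⧸ w := (Ideal.Quotient.mkₐ k w).comp μ
    have hν : RingHom.ker ν = W₀ := by
      ext t
      rw [RingHom.mem_ker, hW]
      exact Ideal.Quotient.eq_zero_iff_mem
    unfold CAlgH2.trdegQuot
    rw [← hν]
    exact congrArg Cardinal.toNat
      (Ideal.quotientKerAlgEquivOfSurjective (Ideal.Quotient.mk_surjective.comp hsurjμ)).trdeg_eq
  have hSbot : Cardinal.toNat (Algebra.trdeg k S) = n := by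
    rw [hn]
    unfold CAlgH2.trdegQuot
    exact congrArg Cardinal.toNat (AlgEquiv.quotientBot k S).trdeg_eq.symm
  have hdR : ringKrullDim R = ((dA + n : ℕ) : WithBot ℕ∞) := by
    haveI : IsDomain R := CAlg1.isDomain_regular R
    obtain ⟨Qm, hQm, hQW⟩ := Ideal.exists_minimalPrimes_le (I := (⊥ : Ideal (S ⊗[k] S))) (J := W₀) bot_le
    haveI : Qm.IsPrime := hQm.1.1
    obtain ⟨dR, hdR, hdR'⟩ := dim_quot_localization (k := k) (R := R) W₀ Qm hQW
    rw [htrW, VarGal.trdegQuot_minimalPrimes_tensor S S Qm hQm, hSbot] at hdR'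
    have hQ0 : Qm.map φ = ⊥ := by
      have hle : (⊥ : Ideal R).comap φ ≤ Qm := by
        have hp := IsLocalization.comap_map_of_isPrime_disjoint W₀.primeCompl R (inferInstance : Qm.IsPrime)
          (Set.disjoint_left.2 fun y hy hy' => hy (hQW hy'))
        rw [← hp]
        exact Ideal.comap_mono bot_le
      have heq : Qm = (⊥ : Ideal R).comap φ :=
        le_antisymm (hQm.2 ⟨Ideal.IsPrime.comap _, bot_le⟩ hle) hle
      rw [heq]
      exact IsLocalization.map_comap W₀.primeCompl R ⊥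
    rw [hQ0, ringKrullDim_eq_of_ringEquiv (RingEquiv.quotientBot R)] at hdR
    rw [hdR, show dR = dA + n by omega]
  have hregR : IsWeaklyRegular R l := by
    refine EGA4Alg4.isWeaklyRegular_of_supportDim (A := R) (isCM_of_regular R).supportDim_eq_depth hm ?_
    rw [smul_eq_mul, Ideal.mul_top, Module.supportDim_quotient_eq_ringKrullDim,
      Module.supportDim_self_eq_ringKrullDim, ← hker,
      ringKrullDim_eq_of_ringEquiv (RingHom.quotientKerEquivOfSurjective hπs), hdA, hdR, List.length_ofFn]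
    norm_cast
  -- regularity on the first factor
  let Q' : Ideal R := (q.map iR).map φ
  have hregM : IsWeaklyRegular (R ⧸ Q') l := by
    letI : Algebra A R := ι'.toAlgebra
    let ψ : R →ₐ[A] A := { π with commutes' := hπι' }
    have hflat : Module.Flat A (R ⧸ (Ideal.ofList l • (⊤ : Submodule R R))) := by
      refine Module.Flat.of_linearEquiv (R := A) (M := A) ?_
      exact ((Submodule.quotEquivOfEq _ _ (show (Ideal.ofList l • (⊤ : Submodule R R)) = RingHom.ker ψ by
          rw [smul_eq_mul, Ideal.mul_top, ← hker]; rfl)).restrictScalars A).trans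
        (Ideal.quotientKerAlgEquivOfSurjective (f := ψ) hπs).toLinearEquiv
    have h := isWeaklyRegular_smul_top (q.map α) l R hm hregR hflat
    refine ((Submodule.quotEquivOfEq _ _ ?_).isWeaklyRegular_congr l).1 h
    rw [smul_eq_mul, Ideal.mul_top, RingHom.algebraMap_toAlgebra, Ideal.map_map,
      show ι'.comp α = φ.comp iR.toRingHom from RingHom.ext hι', ← Ideal.map_map]
    rfl
  -- flatness of the first factor
  letI : Algebra A R := ι.toAlgebra
  let ψ : R →ₐ[A] A := { π with commutes' := hπι }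
  letI : Algebra S R := (φ.comp iL.toRingHom).toAlgebra
  haveI : IsScalarTower S A R := IsScalarTower.of_algebraMap_eq fun s => (hι s).symm
  haveI : IsScalarTower S (S ⊗[k] S) R := IsScalarTower.of_algebraMap_eq fun s => rfl
  haveI hflatM : Module.Flat A (R ⧸ Q') := by
    let Q0 : Ideal (S ⊗[k] S) := q.map iR
    have h1 : Module.Flat S (S ⊗[k] S ⧸ Q0) :=
      Module.Flat.of_linearEquiv (Algebra.TensorProduct.tensorQuotientEquiv (R := k) S S S q).symm.toLinearEquiv
    have h2 : Module.Flat (S ⊗[k] S ⧸ Q0) (R ⧸ Q') :=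
      IsLocalization.flat (R ⧸ Q') (Algebra.algebraMapSubmonoid (S ⊗[k] S ⧸ Q0) W₀.primeCompl)
    haveI : IsScalarTower S (S ⊗[k] S ⧸ Q0) (R ⧸ Q') := by
      refine ⟨fun c y z => ?_⟩
      obtain ⟨y, rfl⟩ := Ideal.Quotient.mk_surjective y
      obtain ⟨z, rfl⟩ := Ideal.Quotient.mk_surjective z
      rw [show c • Ideal.Quotient.mk Q0 y = Ideal.Quotient.mk Q0 (c • y) from rfl,
        Algebra.smul_def (Ideal.Quotient.mk Q0 (c • y)), Algebra.smul_def (Ideal.Quotient.mk Q0 y),
        Ideal.Quotient.algebraMap_quotient_map_quotient, Ideal.Quotient.algebraMap_quotient_map_quotient,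
        ← map_mul, ← map_mul]
      show Ideal.Quotient.mk Q' (φ (c • y) * z) = Ideal.Quotient.mk Q' (c • (φ y * z))
      rw [Algebra.smul_def, Algebra.smul_def, IsScalarTower.algebraMap_apply S (S ⊗[k] S) R, φ.map_mul, mul_assoc]
    have h3 : Module.Flat S (R ⧸ Q') := Module.Flat.trans S (S ⊗[k] S ⧸ Q0) (R ⧸ Q')
    exact (Module.flat_iff_of_isLocalization A w.primeCompl (R ⧸ Q')).2 h3
  -- the intersection
  let P : Ideal A := p.map α
  let Q : Ideal A := q.map α
  let P' : Ideal R := (p.map iL).map φ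
  have hP' : P.map ι = P' := by
    simp only [P, P']
    rw [Ideal.map_map, show ι.comp α = φ.comp iL.toRingHom from RingHom.ext hι, ← Ideal.map_map]
    rfl
  let T : Type u := (R ⧸ Q') ⊗[A] (A ⧸ P)
  let τ : R →ₗ[R] T := LinearMap.toSpanSingleton R T ((1 : R ⧸ Q') ⊗ₜ[A] (1 : A ⧸ P))
  have hτapp : ∀ r, τ r = Ideal.Quotient.mk Q' r ⊗ₜ[A] (1 : A ⧸ P) := fun r => by
    simp only [τ, LinearMap.toSpanSingleton_apply]
    rw [TensorProduct.smul_tmul']
    congr 1
    show Ideal.Quotient.mk Q' (r • (1 : R)) = _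
    rw [smul_eq_mul, mul_one]
  have hτs : Function.Surjective τ := fun z => by
    induction z using TensorProduct.induction_on with
    | zero => exact ⟨0, map_zero _⟩
    | tmul m c =>
      obtain ⟨r, rfl⟩ := Ideal.Quotient.mk_surjective m
      obtain ⟨c, rfl⟩ := Ideal.Quotient.mk_surjective c
      refine ⟨ι c * r, ?_⟩
      rw [hτapp, show (Ideal.Quotient.mk P c) = c • (1 : A ⧸ P) by rw [Algebra.smul_def, mul_one]; rfl,
        ← TensorProduct.smul_tmul]
      rfl
    | add a b ha hb =>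
      obtain ⟨a', rfl⟩ := ha; obtain ⟨b', rfl⟩ := hb
      exact ⟨a' + b', map_add _ _ _⟩
  have hτk : LinearMap.ker τ = Q' ⊔ P' := by
    ext r
    rw [LinearMap.mem_ker, hτapp]
    have h1 : Ideal.Quotient.mk Q' r ⊗ₜ[A] (1 : A ⧸ P) = 0 ↔
        Ideal.Quotient.mk Q' r ∈ (P • ⊤ : Submodule A (R ⧸ Q')) := by
      have h2 := TensorProduct.tensorQuotEquivQuotSMul_tmul_mk P (Ideal.Quotient.mk Q' r) (1 : A)
      rw [map_one, one_smul] at h2
      rw [← (TensorProduct.tensorQuotEquivQuotSMul (R ⧸ Q') P).map_eq_zero_iff, h2,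
        Submodule.Quotient.mk_eq_zero]
    rw [h1, ← EGA4Alg4.FlatReg13.mem_smul_top_iff (B := R), show P.map (algebraMap A R) = P' from hP',
      smul_top_quotient' Q' P']
    constructor
    · rintro ⟨z, hz, hzr⟩
      have : r = z - (z - r) := (sub_sub_cancel z r).symm
      rw [this]
      exact sub_mem hz (Ideal.mem_sup_left ((Ideal.Quotient.eq).1 hzr))
    · exact fun hr => ⟨r, hr, rfl⟩
  let eT : (R ⧸ (Q' ⊔ P')) ≃ₗ[R] T :=
    (Submodule.quotEquivOfEq _ _ hτk.symm).trans (τ.quotKerEquivOfSurjective hτs)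
  haveI : Module.Finite R T := Module.Finite.of_surjective τ hτs
  have hπQ : Q'.map π = Q := by
    simp only [Q', Q]
    show Ideal.map π (Ideal.map φ (Ideal.map iR.toRingHom q)) = _
    rw [Ideal.map_map, Ideal.map_map]
    congr 1
    refine RingHom.ext fun s => ?_
    show π (φ (iR s)) = α s
    rw [hπ, hμR]
  have hπP : P'.map π = P := by
    simp only [P', P]
    show Ideal.map π (Ideal.map φ (Ideal.map iL.toRingHom p)) = _
    rw [Ideal.map_map, Ideal.map_map]
    congr 1
    refine RingHom.ext fun s => ?_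
    show π (φ (iL s)) = α s
    rw [hπ, hμL]
  have hG : LC17.Good l T := by
    intro v hv hlv
    rw [← eT.support_eq, Module.support_eq_zeroLocus, PrimeSpectrum.mem_zeroLocus, SetLike.coe_subset_coe,
      Ideal.annihilator_quotient] at hv
    have hkv : RingHom.ker π ≤ v.asIdeal := hker ▸ hlv
    have hv' : (v.asIdeal.map π).IsPrime := Ideal.map_isPrime_of_surjective hπs hkv
    have hPQ : P ⊔ Q ≤ v.asIdeal.map π :=
      sup_le (hπP ▸ Ideal.map_mono (le_sup_right.trans hv)) (hπQ ▸ Ideal.map_mono (le_sup_left.trans hv))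
    have hmax : (v.asIdeal.map π).IsMaximal := by
      have hcw : (v.asIdeal.map π).comap α ≤ w := by
        rw [← IsLocalization.AtPrime.under_maximalIdeal A w]
        exact Ideal.comap_mono (le_maximalIdeal hv'.ne_top)
      have hle : p ⊔ q ≤ (v.asIdeal.map π).comap α :=
        sup_le (Ideal.map_le_iff_le_comap.1 (le_sup_left.trans hPQ))
          (Ideal.map_le_iff_le_comap.1 (le_sup_right.trans hPQ))
      have heq := hwmin.2 ⟨Ideal.IsPrime.comap _, hle⟩ hcw
      have : v.asIdeal.map π = maximalIdeal A := by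
        refine le_antisymm (le_maximalIdeal hv'.ne_top) ?_
        rw [← IsLocalization.AtPrime.map_eq_maximalIdeal w A]
        exact (Ideal.map_mono heq).trans Ideal.map_comap_le
      rw [this]
      exact maximalIdeal.isMaximal A
    have hc : (v.asIdeal.map π).comap π = v.asIdeal := by
      rw [Ideal.comap_map_of_surjective π hπs, ← RingHom.ker_eq_comap_bot, sup_eq_left.2 hkv]
    rw [← hc]
    exact Ideal.comap_isMaximal_of_surjective π hπs
  have htrans : ∀ Q₂ : Ideal ((S ⧸ p) ⊗[k] (S ⧸ q)), Q₂ ∈ minimalPrimes ((S ⧸ p) ⊗[k] (S ⧸ q)) →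
      Q₂ ≤ RingHom.ker (Algebra.TensorProduct.lift (Ideal.Quotient.factorₐ k hpw)
        (Ideal.Quotient.factorₐ k hqw) fun _ _ => Commute.all _ _) →
      ∃ dT : ℕ, ringKrullDim (R ⧸ (Q₂.comap (Algebra.TensorProduct.map (Ideal.Quotient.mkₐ k p)
        (Ideal.Quotient.mkₐ k q))).map φ) = dT ∧ dT + trdegQuot k w = trdegQuot k p + trdegQuot k q := by
    intro Q₂ hQ₂ hQ₂W
    -- the component through `W₀`
    haveI : Algebra.FiniteType k (S ⧸ p) := Algebra.FiniteType.of_surjective (Ideal.Quotient.mkₐ k p) Ideal.Quotient.mk_surjective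
    haveI : Algebra.FiniteType k (S ⧸ q) := Algebra.FiniteType.of_surjective (Ideal.Quotient.mkₐ k q) Ideal.Quotient.mk_surjective
    let D : S ⊗[k] S →ₐ[k] (S ⧸ p) ⊗[k] (S ⧸ q) :=
      Algebra.TensorProduct.map (Ideal.Quotient.mkₐ k p) (Ideal.Quotient.mkₐ k q)
    have hDs : Function.Surjective D := Algebra.TensorProduct.map_surjective _ _
      (Ideal.Quotient.mkₐ_surjective k p) (Ideal.Quotient.mkₐ_surjective k q)
    let μ₂ : (S ⧸ p) ⊗[k] (S ⧸ q) →ₐ[k] S ⧸ w := Algebra.TensorProduct.lift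
      (Ideal.Quotient.factorₐ k hpw) (Ideal.Quotient.factorₐ k hqw) fun _ _ => Commute.all _ _
    have hμ₂ : μ₂.comp D = (Ideal.Quotient.mkₐ k w).comp μ := by
      refine Algebra.TensorProduct.ext (AlgHom.ext fun s => ?_) (AlgHom.ext fun s => ?_)
      · show μ₂ (D (iL s)) = Ideal.Quotient.mk w (μ (iL s))
        rw [hμL]; simp [D, iL, μ₂]
      · show μ₂ (D (iR s)) = Ideal.Quotient.mk w (μ (iR s))
        rw [hμR]; simp [D, iR, μ₂]
    haveI : Q₂.IsPrime := hQ₂.1.1
    let Qm : Ideal (S ⊗[k] S) := Q₂.comap D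
    haveI : Qm.IsPrime := Ideal.IsPrime.comap D
    have hQW : Qm ≤ W₀ := fun t ht => by
      rw [hW, ← Ideal.Quotient.eq_zero_iff_mem]
      exact (AlgHom.congr_fun hμ₂ t).symm.trans (hQ₂W ht)
    have htr : trdegQuot k Qm = trdegQuot k p + trdegQuot k q := by
      have h := VarGal.trdegQuot_minimalPrimes_tensor (S ⧸ p) (S ⧸ q) Q₂ hQ₂
      refine Eq.trans ?_ h
      unfold CAlgH2.trdegQuot
      let ν := (Ideal.Quotient.mkₐ k Q₂).comp D
      have hν : RingHom.ker ν = Qm := by
        ext t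
        rw [RingHom.mem_ker, Ideal.mem_comap]
        exact Ideal.Quotient.eq_zero_iff_mem
      rw [← hν]
      exact congrArg Cardinal.toNat
        (Ideal.quotientKerAlgEquivOfSurjective (Ideal.Quotient.mk_surjective.comp hDs)).trdeg_eq
    obtain ⟨dT, hdT, hdT'⟩ := dim_quot_localization (k := k) (R := R) W₀ Qm hQW
    exact ⟨dT, hdT, by omega⟩
  haveI : Algebra.FiniteType k (S ⧸ p) := Algebra.FiniteType.of_surjective (Ideal.Quotient.mkₐ k p) Ideal.Quotient.mk_surjective
  haveI : Algebra.FiniteType k (S ⧸ q) := Algebra.FiniteType.of_surjective (Ideal.Quotient.mkₐ k q) Ideal.Quotient.mk_surjective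
  let D : S ⊗[k] S →ₐ[k] (S ⧸ p) ⊗[k] (S ⧸ q) :=
    Algebra.TensorProduct.map (Ideal.Quotient.mkₐ k p) (Ideal.Quotient.mkₐ k q)
  have hDs : Function.Surjective D := Algebra.TensorProduct.map_surjective _ _
    (Ideal.Quotient.mkₐ_surjective k p) (Ideal.Quotient.mkₐ_surjective k q)
  let μ₂ : (S ⧸ p) ⊗[k] (S ⧸ q) →ₐ[k] S ⧸ w := Algebra.TensorProduct.lift
    (Ideal.Quotient.factorₐ k hpw) (Ideal.Quotient.factorₐ k hqw) fun _ _ => Commute.all _ _
  haveI : (RingHom.ker μ₂).IsPrime := RingHom.ker_isPrime _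
  have hge : (trdegQuot k p + trdegQuot k q = trdegQuot k w + n) →
      (n : WithBot ℕ∞) ≤ Module.supportDim R T := by
    intro heq
    obtain ⟨Q₂, hQ₂, hQ₂W⟩ := Ideal.exists_minimalPrimes_le
      (I := (⊥ : Ideal ((S ⧸ p) ⊗[k] (S ⧸ q)))) (J := RingHom.ker μ₂) bot_le
    obtain ⟨dT, hdT, hdT'⟩ := htrans Q₂ hQ₂ hQ₂W
    rw [← Module.supportDim_eq_of_equiv eT, Module.supportDim_quotient_eq_ringKrullDim]
    have hle : Q' ⊔ P' ≤ (Q₂.comap D).map φ := by
      refine sup_le (Ideal.map_mono ?_) (Ideal.map_mono ?_) <;> rw [Ideal.map_le_iff_le_comap] <;> intro s hs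
      · show D (iR s) ∈ Q₂
        simp [D, iR, Ideal.Quotient.eq_zero_iff_mem.2 hs]
      · show D (iL s) ∈ Q₂
        simp [D, iL, Ideal.Quotient.eq_zero_iff_mem.2 hs]
    have hge' := ringKrullDim_le_of_surjective _ (Ideal.Quotient.factor_surjective hle)
    rw [hdT] at hge'
    refine le_trans ?_ hge'
    rw [show dT = n by omega]
  have hlt : (trdegQuot k p + trdegQuot k q < trdegQuot k w + n) →
      Module.supportDim R T < (n : WithBot ℕ∞) := by
    intro hlt'
    rw [← Module.supportDim_eq_of_equiv eT, Module.supportDim_quotient_eq_ringKrullDim,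
      ringKrullDim_quotient]
    have hb : ∀ c : LTSeries (PrimeSpectrum.zeroLocus ((Q' ⊔ P' : Ideal R) : Set R)), c.length + 1 ≤ n := by
      intro c
      let v : PrimeSpectrum R := c.head.1
      have hv : Q' ⊔ P' ≤ v.asIdeal := c.head.2
      let v0 : Ideal (S ⊗[k] S) := v.asIdeal.comap φ
      haveI : v0.IsPrime := Ideal.IsPrime.comap φ
      have hv0W : v0 ≤ W₀ := by
        rw [← IsLocalization.AtPrime.under_maximalIdeal R W₀]
        exact Ideal.comap_mono (le_maximalIdeal v.2.ne_top)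
      have hker' : RingHom.ker D ≤ v0 := by
        rw [Algebra.TensorProduct.map_ker (Ideal.Quotient.mkₐ k p) (Ideal.Quotient.mkₐ k q)
          (Ideal.Quotient.mkₐ_surjective k p) (Ideal.Quotient.mkₐ_surjective k q),
          show RingHom.ker (Ideal.Quotient.mkₐ k p) = p from Ideal.Quotient.mkₐ_ker k p,
          show RingHom.ker (Ideal.Quotient.mkₐ k q) = q from Ideal.Quotient.mkₐ_ker k q]
        exact sup_le (Ideal.map_le_iff_le_comap.1 (le_sup_right.trans hv))
          (Ideal.map_le_iff_le_comap.1 (le_sup_left.trans hv))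
      haveI : (v0.map D).IsPrime := Ideal.map_isPrime_of_surjective hDs hker'
      obtain ⟨Q₂, hQ₂, hQ₂v⟩ := Ideal.exists_minimalPrimes_le
        (I := (⊥ : Ideal ((S ⧸ p) ⊗[k] (S ⧸ q)))) (J := v0.map D) bot_le
      have hQ₂W : Q₂ ≤ RingHom.ker μ₂ := by
        refine hQ₂v.trans (Ideal.map_le_iff_le_comap.2 fun t ht => ?_)
        show μ₂ (D t) = 0
        have hμ₂ : μ₂.comp D = (Ideal.Quotient.mkₐ k w).comp μ := by
          refine Algebra.TensorProduct.ext (AlgHom.ext fun s => ?_) (AlgHom.ext fun s => ?_)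
          · show μ₂ (D (iL s)) = Ideal.Quotient.mk w (μ (iL s))
            rw [hμL]; simp [D, iL, μ₂]
          · show μ₂ (D (iR s)) = Ideal.Quotient.mk w (μ (iR s))
            rw [hμR]; simp [D, iR, μ₂]
        exact (AlgHom.congr_fun hμ₂ t).trans (Ideal.Quotient.eq_zero_iff_mem.2 ((hW t).1 (hv0W ht)))
      have hle : (Q₂.comap D).map φ ≤ v.asIdeal := by
        refine Ideal.map_le_iff_le_comap.2 ((Ideal.comap_mono hQ₂v).trans ?_)
        rw [Ideal.comap_map_of_surjective _ hDs, ← RingHom.ker_eq_comap_bot]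
        exact sup_le le_rfl hker'
      obtain ⟨dT, hdT, hdT'⟩ := htrans Q₂ hQ₂ hQ₂W
      let c' : LTSeries (PrimeSpectrum.zeroLocus (((Q₂.comap D).map φ : Ideal R) : Set R)) :=
        { length := c.length
          toFun := fun i => ⟨(c i).1, fun z hz => (show c.head.1.asIdeal ≤ (c i).1.asIdeal from
            c.monotone (Fin.zero_le i)) (hle hz)⟩
          step := fun i => c.step i }
      have h1 : ((c'.length : ℕ) : WithBot ℕ∞) ≤ (dT : WithBot ℕ∞) := by
        rw [← hdT, ringKrullDim_quotient]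
        exact Order.LTSeries.length_le_krullDim c'
      have h2 : c.length ≤ dT := by exact_mod_cast h1
      omega
    obtain ⟨m, hm⟩ : ∃ m, n = m + 1 ∨ n = 0 := ⟨n - 1, by omega⟩
    rcases hm with rfl' | h0
    · refine lt_of_le_of_lt (iSup_le fun c => ?_) (show ((m : ℕ) : WithBot ℕ∞) < (n : WithBot ℕ∞) by
        exact_mod_cast (show m < n by omega))
      have := hb c
      exact_mod_cast (show c.length ≤ m by omega)
    · have hemp : IsEmpty (PrimeSpectrum.zeroLocus ((Q' ⊔ P' : Ideal R) : Set R)) :=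
        ⟨fun x => by have := hb (RelSeries.singleton _ x); omega⟩
      rw [Order.krullDim_eq_bot]
      exact WithBot.bot_lt_coe _
  -- reduction of the first factor
  let l' := Ideal.ofList l • (⊤ : Submodule R (R ⧸ Q'))
  let θ : (R ⧸ Q') →ₗ[A] A ⧸ Q :=
    (Ideal.quotientMapₐ Q ψ (Ideal.map_le_iff_le_comap.1 hπQ.le)).toLinearMap
  have hθs : Function.Surjective θ := fun z => by
    obtain ⟨z, rfl⟩ := Ideal.Quotient.mk_surjective z
    obtain ⟨r, rfl⟩ := hπs z
    exact ⟨Ideal.Quotient.mk Q' r, rfl⟩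
  have hθk : LinearMap.ker θ = l'.restrictScalars A := by
    ext m
    obtain ⟨r, rfl⟩ := Ideal.Quotient.mk_surjective m
    simp only [l', Submodule.restrictScalars_mem, smul_top_quotient' Q' (Ideal.ofList l), LinearMap.mem_ker]
    show Ideal.Quotient.mk Q (π r) = 0 ↔ _
    rw [Ideal.Quotient.eq_zero_iff_mem, ← hπQ, Ideal.mem_map_iff_of_surjective π hπs]
    constructor
    · rintro ⟨r', hr', he⟩
      refine ⟨r, ?_, rfl⟩
      have hd' : r - r' ∈ Ideal.ofList l := by rw [← hker, RingHom.mem_ker, map_sub, he, sub_self]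
      have : r = r' + (r - r') := (add_sub_cancel r' r).symm
      rw [this]
      exact add_mem (Ideal.mem_sup_left hr') (Ideal.mem_sup_right hd')
    · rintro ⟨z, hz, hzr⟩
      obtain ⟨a, ha, b, hb, rfl⟩ := Submodule.mem_sup.1 hz
      refine ⟨r - b, ?_, ?_⟩
      · have h := (Ideal.Quotient.eq).1 hzr
        have : r - b = a - (a + b - r) := by ring
        rw [this]
        exact sub_mem ha h
      · rw [map_sub, RingHom.mem_ker.1 (hker.symm ▸ hb : b ∈ RingHom.ker π), sub_zero]
  let eM : ((R ⧸ Q') ⧸ l') ≃ₗ[A] A ⧸ Q :=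
    (((Submodule.Quotient.restrictScalarsEquiv A l').restrictScalars A).symm.trans
      (Submodule.quotEquivOfEq _ _ hθk.symm)).trans (θ.quotKerEquivOfSurjective hθs)
  obtain ⟨e, he⟩ : ∃ e, CategoryTheory.HasProjectiveDimensionLE (ModuleCat.of A (A ⧸ P)) e :=
    ⟨dA, CAlg1.hasPD_of_regular A hdA _⟩
  have key := chi_eq_koszul ψ l hker (R ⧸ Q') hregM (A ⧸ P) e he hG
  have hcongr : IntMult.chi A (A ⧸ Q) (A ⧸ P) = IntMult.chi A ((R ⧸ Q') ⧸ l') (A ⧸ P) :=
    finsum_congr fun i => by
      rw [show Module.length A (DRing.Tor A i ((R ⧸ Q') ⧸ l') (A ⧸ P)) =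
        Module.length A (DRing.Tor A i (A ⧸ Q) (A ⧸ P)) from
          (((CategoryTheory.Tor (ModuleCat.{u} A) i).mapIso eM.toModuleIso).app
            (ModuleCat.of A (A ⧸ P))).toLinearEquiv.length_eq]
  refine ⟨l, List.length_ofFn, hl, hregR, ?_, fun h => ?_, fun h => ?_⟩
  · exact hcongr.trans (key.trans (LC17.chi_congr l eT).symm)
  · rw [hcongr, key, LC17.chi_eq_zero_of_dim_lt l T hG (by rw [List.length_ofFn]; exact hlt h)]
  · rw [LC17.chi_congr l eT]
    refine (LC17.chi_pos_aux l T hG hm).2 (le_antisymm (LC17.Good.supportDim_le l T hG hm) ?_)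
    rw [List.length_ofFn]
    exact hge h

open CAlgH2 in
/-- Reduction to the diagonal: the Tor multiplicity at a component `w` of a proper intersection of `p`
and `q` is the Koszul characteristic of the diagonal on the product, and it is positive. -/
theorem diag_chi [IsDomain S] [Algebra.FiniteType k S] [Algebra.Smooth k S] (p q w : Ideal S) [p.IsPrime]
    [q.IsPrime] [w.IsPrime] (hwmin : w ∈ (p ⊔ q).minimalPrimes)
    (hdim : trdegQuot k p + trdegQuot k q = trdegQuot k w + trdegQuot k (⊥ : Ideal S))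
    (A : Type u) [CommRing A] [Algebra S A] [IsLocalization.AtPrime A w]
    (W₀ : Ideal (S ⊗[k] S)) [W₀.IsPrime] (hW₀ : W₀ = w.comap (Algebra.TensorProduct.lmul' k (S := S)))
    (R : Type u) [CommRing R] [Algebra (S ⊗[k] S) R] [IsLocalization.AtPrime R W₀] :
    ∃ l : List R, l.length = trdegQuot k (⊥ : Ideal S) ∧
      Ideal.ofList l = (KaehlerDifferential.ideal k S).map (algebraMap (S ⊗[k] S) R) ∧
      IsWeaklyRegular R l ∧
      IntMult.chi A (A ⧸ q.map (algebraMap S A)) (A ⧸ p.map (algebraMap S A)) =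
        LC17.chi l (R ⧸ ((q.map Algebra.TensorProduct.includeRight).map (algebraMap (S ⊗[k] S) R) ⊔
          (p.map (Algebra.TensorProduct.includeLeft : S →ₐ[k] S ⊗[k] S)).map (algebraMap (S ⊗[k] S) R))) ∧
      0 < LC17.chi l (R ⧸ ((q.map Algebra.TensorProduct.includeRight).map (algebraMap (S ⊗[k] S) R) ⊔
          (p.map (Algebra.TensorProduct.includeLeft : S →ₐ[k] S ⊗[k] S)).map (algebraMap (S ⊗[k] S) R))) := by
  obtain ⟨l, h1, h2, h3, h4, -, h6⟩ := diag_chi' p q w hwmin A W₀ hW₀ R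
  exact ⟨l, h1, h2, h3, h4, h6 hdim⟩

end Groth.Agent.IntMult12
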