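import Groth.Agent.IntMult12.Diag

/-!
# Affine data of a component of a proper intersection
-/

set_option autoImplicit false
set_option linter.style.haveILetI false

universe u

open CategoryTheory AlgebraicGeometry IsLocalRing
open scoped TensorProduct

namespace Groth.Agent.IntMult12

open CAlgH2 (trdegQuot dimAt)

variable {K : Type u} [Field K]

/-- Near a component of a proper intersection: the primes `p, q ≤ w` of an affine chart. -/
theorem affineData (X : Scheme.{u}) (f : X ⟶ Spec (CommRingCat.of K)) [Smooth f] [IsIntegral X]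
    (IV IW : X.IdealSheafData) [IsIntegral IV.subscheme] [IsIntegral IW.subscheme] (n r s : ℕ)
    (hn : topologicalKrullDim X = n) (hr : topologicalKrullDim IV.support = r)
    (hs : topologicalKrullDim IW.support = s)
    (hprop : IntMult.ProperInt (IV.support : Set X) (IW.support : Set X) n r s) (ξ : X)
    (hξV : ξ ∈ IV.support) (hξW : ξ ∈ IW.support)
    (hmax : ∀ ξ' : X, ξ' ∈ IV.support → ξ' ∈ IW.support → ξ' ⤳ ξ → ξ' = ξ)
    (U : X.affineOpens) (hU : ξ ∈ U.1) :
    letI := (WC97.kSec f U.2).toAlgebra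
    letI := Div89.stalkAlg U.1 ξ hU
    ∃ p q : Ideal Γ(X, U.1), p.IsPrime ∧ q.IsPrime ∧
      Div89.primeAt U ξ hU ∈ (p ⊔ q).minimalPrimes ∧
      IntMult.stalkIdeal IV ξ = p.map (algebraMap Γ(X, U.1) (X.presheaf.stalk ξ)) ∧
      IntMult.stalkIdeal IW ξ = q.map (algebraMap Γ(X, U.1) (X.presheaf.stalk ξ)) ∧
      IV.ideal U = p ∧ IW.ideal U = q ∧
      trdegQuot K (⊥ : Ideal Γ(X, U.1)) = n ∧
      trdegQuot K p + trdegQuot K q =
        trdegQuot K (Div89.primeAt U ξ hU) + trdegQuot K (⊥ : Ideal Γ(X, U.1)) := by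
  letI : Algebra K Γ(X, U.1) := (WC97.kSec f U.2).toAlgebra
  have : Algebra.FiniteType K Γ(X, U.1) := WC97.kSec_finiteType f U.2
  have : Nonempty U.1 := ⟨⟨ξ, hU⟩⟩
  let w := Div89.primeAt U ξ hU
  have : Algebra.IsSmoothAt K w := isSmoothAt_kSec f U w
  -- generic points
  have hirr : ∀ (I : X.IdealSheafData) [IsIntegral I.subscheme], IsIrreducible (I.support : Set X) := by
    intro I _
    rw [← I.range_subschemeι]
    rw [← Set.image_univ]
    exact (IrreducibleSpace.isIrreducible_univ I.subscheme).image _ I.subschemeι.continuous.continuousOn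
  obtain ⟨ηV, hηV⟩ : ∃ η, IsGenericPoint η (IV.support : Set X) :=
    QuasiSober.sober (hirr IV) IV.support.isClosed
  obtain ⟨ηW, hηW⟩ : ∃ η, IsGenericPoint η (IW.support : Set X) :=
    QuasiSober.sober (hirr IW) IW.support.isClosed
  have hVU : ηV ∈ U.1 := (hηV.specializes hξV).mem_open U.1.isOpen hU
  have hWU : ηW ∈ U.1 := (hηW.specializes hξW).mem_open U.1.isOpen hU
  let p := Div89.primeAt U ηV hVU
  let q := Div89.primeAt U ηW hWU
  have hpw : p ≤ w := (Div89.specializes_iff_primeAt_le U hU hVU).1 (hηV.specializes hξV)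
  have hqw : q ≤ w := (Div89.specializes_iff_primeAt_le U hU hWU).1 (hηW.specializes hξW)
  letI := Div89.stalkAlg U.1 ξ hU
  haveI := Div89.isLocalization_stalk U ξ hU
  have hP : IntMult.stalkIdeal IV ξ = p.map (algebraMap Γ(X, U.1) (X.presheaf.stalk ξ)) := by
    rw [stalkIdeal_eq, Div89.stalkIdeal_eq IV U ξ hU, Div89.ideal_eq_primeAt_of_genericPoint IV hηV U hVU]
    rfl
  have hQ : IntMult.stalkIdeal IW ξ = q.map (algebraMap Γ(X, U.1) (X.presheaf.stalk ξ)) := by
    rw [stalkIdeal_eq, Div89.stalkIdeal_eq IW U ξ hU, Div89.ideal_eq_primeAt_of_genericPoint IW hηW U hWU]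
    rfl
  have hwmin : w ∈ (p ⊔ q).minimalPrimes := by
    refine ⟨⟨inferInstance, sup_le hpw hqw⟩, ?_⟩
    rintro v ⟨hv, hpqv⟩ hvw
    obtain ⟨y, hy, rfl⟩ := Div89.exists_point U v
    have hyV : y ∈ IV.support := by
      rw [Div89.mem_support_iff_le IV U y hy, Div89.ideal_eq_primeAt_of_genericPoint IV hηV U hVU]
      exact le_sup_left.trans hpqv
    have hyW : y ∈ IW.support := by
      rw [Div89.mem_support_iff_le IW U y hy, Div89.ideal_eq_primeAt_of_genericPoint IW hηW U hWU]
      exact le_sup_right.trans hpqv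
    obtain rfl := hmax y hyV hyW ((Div89.specializes_iff_primeAt_le U hU hy).2 hvw)
    exact le_rfl
  -- transcendence degrees
  have hdim : ∀ (x : X) (hx : x ∈ U.1), topologicalKrullDim ↥(closure ({x} : Set X)) =
      (trdegQuot K (Div89.primeAt U x hx) : ℕ) := fun x hx => by
    rw [WC97.topologicalKrullDim_closure f x, tdegN_eq_trdegQuot f U hx]
  have hr' : trdegQuot K p = r := by
    have h : ((trdegQuot K p : ℕ) : WithBot ℕ∞) = ((r : ℕ) : WithBot ℕ∞) := by
      rw [← hr, ← hdim ηV hVU, hηV.def]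
      rfl
    exact_mod_cast h
  have hs' : trdegQuot K q = s := by
    have h : ((trdegQuot K q : ℕ) : WithBot ℕ∞) = ((s : ℕ) : WithBot ℕ∞) := by
      rw [← hs, ← hdim ηW hWU, hηW.def]
      rfl
    exact_mod_cast h
  have hgen : Div89.primeAt U (genericPoint X) ((genericPoint_specializes ξ).mem_open U.1.isOpen hU) = ⊥ := by
    obtain ⟨y, hy, hy0⟩ := Div89.exists_point U (⊥ : Ideal Γ(X, U.1))
    refine le_bot_iff.1 (hy0 ▸ ?_)
    exact (Div89.specializes_iff_primeAt_le U hy _).1 (genericPoint_specializes y)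
  have hn' : trdegQuot K (⊥ : Ideal Γ(X, U.1)) = n := by
    have h1 := hdim (genericPoint X) ((genericPoint_specializes ξ).mem_open U.1.isOpen hU)
    rw [hgen, (genericPoint_spec X).def, IsHomeomorph.topologicalKrullDim_eq _
      (Homeomorph.Set.univ X).isHomeomorph, hn] at h1
    exact_mod_cast h1.symm
  obtain ⟨x, a, ha, hax⟩ := exists_span_kaehler (k := K) w
  have hineq := trdegQuot_add_le x p q w hwmin ha hax
  rw [hn', hr', hs'] at hineq
  obtain ⟨hnrs, hZ⟩ := hprop ⟨ξ, hξV, hξW⟩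
  have hz : trdegQuot K w ≤ r + s - n := by
    have h1 : closure ({ξ} : Set X) ⊆ (IV.support : Set X) ∩ (IW.support : Set X) :=
      closure_minimal (Set.singleton_subset_iff.2 ⟨hξV, hξW⟩) (IV.support.isClosed.inter IW.support.isClosed)
    have h2 := (TopDim50.dim_mono (X := X) h1).trans hZ
    rw [hdim ξ hU] at h2
    exact_mod_cast h2
  exact ⟨p, q, inferInstance, inferInstance, hwmin, hP, hQ,
    Div89.ideal_eq_primeAt_of_genericPoint IV hηV U hVU, Div89.ideal_eq_primeAt_of_genericPoint IW hηW U hWU, hn',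
    by rw [hr', hs', hn']; show r + s = trdegQuot K w + n; omega⟩

/-- the affine chart is smooth over the field -/
theorem smooth_kSec {X : Scheme.{u}} (f : X ⟶ Spec (CommRingCat.of K)) [Smooth f] (U : X.affineOpens) :
    letI := (WC97.kSec f U.2).toAlgebra
    Algebra.Smooth K Γ(X, U.1) := by
  letI := (WC97.kSec f U.2).toAlgebra
  have hs : Smooth (Spec.map (Spec.preimage (U.2.fromSpec ≫ f))) := by
    rw [Spec.map_preimage]; infer_instance
  have h : (WC97.kSec f U.2).Smooth := (HasRingHomProperty.Spec_iff (P := @Smooth)).1 hs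
  exact RingHom.smooth_algebraMap.1 h

/-- The multiplicity at a component of a proper intersection is positive. -/
theorem mult_pos_of_proper (X : Scheme.{u}) (f : X ⟶ Spec (CommRingCat.of K)) [Smooth f] [IsIntegral X]
    (IV IW : X.IdealSheafData) [IsIntegral IV.subscheme] [IsIntegral IW.subscheme] (n r s : ℕ)
    (hn : topologicalKrullDim X = n) (hr : topologicalKrullDim IV.support = r)
    (hs : topologicalKrullDim IW.support = s)
    (hprop : IntMult.ProperInt (IV.support : Set X) (IW.support : Set X) n r s) (ξ : X)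
    (hξV : ξ ∈ IV.support) (hξW : ξ ∈ IW.support)
    (hmax : ∀ ξ' : X, ξ' ∈ IV.support → ξ' ∈ IW.support → ξ' ⤳ ξ → ξ' = ξ) :
    0 < IntMult.mult IV IW ξ := by
  obtain ⟨U, hU⟩ := Div89.exists_affine_mem ξ
  letI : Algebra K Γ(X, U.1) := (WC97.kSec f U.2).toAlgebra
  have : Algebra.FiniteType K Γ(X, U.1) := WC97.kSec_finiteType f U.2
  have : Nonempty U.1 := ⟨⟨ξ, hU⟩⟩
  have : Algebra.Smooth K Γ(X, U.1) := smooth_kSec f U
  obtain ⟨p, q, hp, hq, hmin, hP, hQ, -, -, -, hdim⟩ :=
    affineData X f IV IW n r s hn hr hs hprop ξ hξV hξW hmax U hU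
  letI := Div89.stalkAlg U.1 ξ hU
  haveI := Div89.isLocalization_stalk U ξ hU
  let w := Div89.primeAt U ξ hU
  haveI : (w.comap (Algebra.TensorProduct.lmul' K (S := Γ(X, U.1)))).IsPrime := Ideal.IsPrime.comap _
  obtain ⟨l, -, -, -, he, hpos⟩ := diag_chi p q w hmin hdim (X.presheaf.stalk ξ)
    (w.comap (Algebra.TensorProduct.lmul' K (S := Γ(X, U.1)))) rfl
    (Localization.AtPrime (w.comap (Algebra.TensorProduct.lmul' K (S := Γ(X, U.1)))))
  rw [IntMult.mult, hP, hQ]
  exact he ▸ hpos

end Groth.Agent.IntMult12
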