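import Groth.Agent.VarGal.TensorDim
import Mathlib.RingTheory.Kaehler.Basic
import Mathlib.RingTheory.Nakayama

/-!
# Dimension of intersections near a smooth point: reduction to the diagonal
-/

set_option autoImplicit false

universe u

open TensorProduct

namespace Groth.Agent.IntMult12

variable {k : Type u} [Field k]

open CAlgH2 VarGal in
/-- `dim W + n ≥ dim V(p) + dim V(q)` if `n` differentials span `Ω` near `w`. -/
theorem trdegQuot_add_le {S : Type u} [CommRing S] [Algebra k S] [Algebra.FiniteType k S] {N : ℕ} (x : Fin N → S)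
    (p q w : Ideal S) [p.IsPrime] [q.IsPrime]
    (hw : w ∈ (p ⊔ q).minimalPrimes) {a : S} (ha : a ∉ w)
    (hax : ∀ ω : Ω[S⁄k], a • ω ∈ Submodule.span S (Set.range fun i => KaehlerDifferential.D k S (x i))) :
    trdegQuot k p + trdegQuot k q ≤ trdegQuot k w + N := by
  have hwp : w.IsPrime := hw.1.1
  let A := S ⧸ p
  let B := S ⧸ q
  have : Algebra.FiniteType k A := Algebra.FiniteType.of_surjective (Ideal.Quotient.mkₐ k p) Ideal.Quotient.mk_surjective
  have : Algebra.FiniteType k B := Algebra.FiniteType.of_surjective (Ideal.Quotient.mkₐ k q) Ideal.Quotient.mk_surjective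
  let T := A ⊗[k] B
  have : Algebra.FiniteType k T := Algebra.FiniteType.trans (S := A) inferInstance inferInstance
  have : IsNoetherianRing T := Algebra.FiniteType.isNoetherianRing k T
  let ι : S →ₐ[k] T := (Algebra.TensorProduct.includeLeft (S := k)).comp (Ideal.Quotient.mkₐ k p)
  let ι' : S →ₐ[k] T := Algebra.TensorProduct.includeRight.comp (Ideal.Quotient.mkₐ k q)
  have e1 : ∀ s, ι s = Ideal.Quotient.mk p s ⊗ₜ[k] 1 := fun s => rfl
  have e2 : ∀ s, ι' s = 1 ⊗ₜ[k] Ideal.Quotient.mk q s := fun s => rfl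
  let J : Ideal T := Ideal.span (Set.range fun i => ι (x i) - ι' (x i))
  let Jf : Ideal T := Ideal.span (Set.range fun s => ι s - ι' s)
  have hJ : ∀ s, ι s - ι' s ∈ Jf := fun s => Ideal.subset_span ⟨s, rfl⟩
  have hsurj : ∀ t : T, ∃ s : S, t - ι s ∈ Jf := by
    intro t
    induction t using TensorProduct.induction_on with
    | zero => exact ⟨0, by simp⟩
    | tmul a b =>
      obtain ⟨a, rfl⟩ := Ideal.Quotient.mk_surjective a
      obtain ⟨b, rfl⟩ := Ideal.Quotient.mk_surjective b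
      refine ⟨a * b, ?_⟩
      have : Ideal.Quotient.mk p a ⊗ₜ[k] Ideal.Quotient.mk q b - ι (a * b) = ι a * -(ι b - ι' b) := by
        rw [show (Ideal.Quotient.mk p a ⊗ₜ[k] Ideal.Quotient.mk q b : T) = ι a * ι' b by
          rw [e1, e2]; exact ((Algebra.TensorProduct.tmul_mul_tmul _ _ _ _).trans (by rw [mul_one, one_mul])).symm, map_mul]
        ring
      rw [this]
      exact Jf.mul_mem_left _ (neg_mem (hJ b))
    | add y z hy hz =>
      obtain ⟨a, ha⟩ := hy; obtain ⟨b, hb⟩ := hz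
      exact ⟨a + b, by simpa [map_add, add_sub_add_comm] using add_mem ha hb⟩
  let μ : T →ₐ[k] S ⧸ w := Algebra.TensorProduct.lift
    (Ideal.Quotient.factorₐ k (le_sup_left.trans hw.1.2)) (Ideal.Quotient.factorₐ k (le_sup_right.trans hw.1.2))
    fun _ _ => Commute.all _ _
  have hμ : ∀ s, μ (ι s) = Ideal.Quotient.mk w s := fun s => by rw [e1, Algebra.TensorProduct.lift_tmul, map_one, mul_one]; rfl
  have hμ' : ∀ s, μ (ι' s) = Ideal.Quotient.mk w s := fun s => by rw [e2, Algebra.TensorProduct.lift_tmul, map_one, one_mul]; rfl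
  let W : Ideal T := RingHom.ker μ
  have : W.IsPrime := RingHom.ker_isPrime _
  have hJfW : Jf ≤ W := Ideal.span_le.2 (by
    rintro _ ⟨i, rfl⟩; show μ _ = 0; rw [map_sub, hμ, hμ', sub_self])
  have hJW : J ≤ W := Ideal.span_le.2 (by
    rintro _ ⟨i, rfl⟩; show μ _ = 0; rw [map_sub, hμ, hμ', sub_self])
  have hloc : ∀ W' : Ideal T, W'.IsPrime → J ≤ W' → W' ≤ W → Jf ≤ W' := by
    intro W' hW' hJW' hW'W
    let D : S ⊗[k] S →ₐ[k] T := Algebra.TensorProduct.map (Ideal.Quotient.mkₐ k p) (Ideal.Quotient.mkₐ k q)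
    have hD1 : ∀ s : S, D (s ⊗ₜ[k] 1) = ι s := fun s => by
      rw [e1, Algebra.TensorProduct.map_tmul, map_one]; rfl
    have hD2 : ∀ s : S, D (1 ⊗ₜ[k] s) = ι' s := fun s => by
      rw [e2, Algebra.TensorProduct.map_tmul, map_one]; rfl
    let K := KaehlerDifferential.ideal k S
    let W₀ := W.comap D
    have : W₀.IsPrime := Ideal.IsPrime.comap D
    let R := Localization.AtPrime W₀
    let φ := algebraMap (S ⊗[k] S) R
    let J₀ : Ideal (S ⊗[k] S) := Ideal.span (Set.range fun i => 1 ⊗ₜ[k] x i - x i ⊗ₜ[k] (1 : S))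
    have hKW : K ≤ W₀ := by
      show KaehlerDifferential.ideal k S ≤ _
      rw [← KaehlerDifferential.span_range_eq_ideal, Ideal.span_le]
      rintro _ ⟨s, rfl⟩
      show D _ ∈ W
      rw [map_sub, hD1, hD2, ← neg_sub]
      exact neg_mem (hJfW (hJ s))
    have haW : a ⊗ₜ[k] (1 : S) ∉ W₀ := by
      intro h
      have h' : D (a ⊗ₜ[k] 1) ∈ W := h
      rw [hD1, RingHom.mem_ker, hμ, Ideal.Quotient.eq_zero_iff_mem] at h'
      exact ha h'
    have hmain : ∀ s : S, (a ⊗ₜ[k] (1 : S)) * (1 ⊗ₜ[k] s - s ⊗ₜ[k] 1) ∈ J₀ ⊔ K * K := by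
      intro s
      have h1 := hax (KaehlerDifferential.D k S s)
      rw [Submodule.mem_span_range_iff_exists_fun] at h1
      obtain ⟨b, hb⟩ := h1
      let d : S → K := fun t => ⟨1 ⊗ₜ[k] t - t ⊗ₜ[k] 1, KaehlerDifferential.one_smul_sub_smul_one_mem_ideal k t⟩
      have hd : ∀ c t : S, c • KaehlerDifferential.D k S t =
          K.toCotangent ((c ⊗ₜ[k] (1 : S)) • d t) := fun c t => by
        rw [map_smul, KaehlerDifferential.D_apply]
        exact (IsScalarTower.algebraMap_smul (S ⊗[k] S) c _).symm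
      have h0 : K.toCotangent ((a ⊗ₜ[k] (1 : S)) • d s - ∑ i, (b i ⊗ₜ[k] (1 : S)) • d (x i)) = 0 := by
        rw [map_sub, map_sum, ← hd, sub_eq_zero, ← hb]
        exact Finset.sum_congr rfl fun i _ => hd _ _
      rw [Ideal.toCotangent_eq_zero, pow_two] at h0
      have h2 : (a ⊗ₜ[k] (1 : S)) * (1 ⊗ₜ[k] s - s ⊗ₜ[k] 1) =
          (((a ⊗ₜ[k] (1 : S)) • d s - ∑ i, (b i ⊗ₜ[k] (1 : S)) • d (x i) : K) : S ⊗[k] S) +
            ∑ i, (b i ⊗ₜ[k] (1 : S)) * (1 ⊗ₜ[k] x i - x i ⊗ₜ[k] (1 : S)) := by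
        simp [d]
      rw [h2]
      exact add_mem (Ideal.mem_sup_right h0)
        (Ideal.mem_sup_left (sum_mem fun i _ => Ideal.mul_mem_left _ _ (Ideal.subset_span ⟨i, rfl⟩)))
    have hKle : K.map φ ≤ J₀.map φ := by
      refine Submodule.le_of_le_smul_of_le_jacobson_bot
        (Ideal.FG.map (KaehlerDifferential.ideal_fg k S) φ)
        ((Ideal.map_mono hKW).trans
          ((Localization.AtPrime.map_eq_maximalIdeal).le.trans (IsLocalRing.maximalIdeal_le_jacobson _))) ?_
      rw [smul_eq_mul, ← Ideal.map_mul, ← Ideal.map_sup]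
      conv_lhs => rw [show K = KaehlerDifferential.ideal k S from rfl, ← KaehlerDifferential.span_range_eq_ideal, Ideal.map_span]
      rw [Ideal.span_le]
      rintro _ ⟨_, ⟨s, rfl⟩, rfl⟩
      have hu : IsUnit (φ (a ⊗ₜ[k] (1 : S))) := IsLocalization.map_units R (⟨_, haW⟩ : W₀.primeCompl)
      have := Ideal.mem_map_of_mem φ (hmain s)
      rw [map_mul] at this
      exact (Ideal.unit_mul_mem_iff_mem _ hu).1 this
    refine Ideal.span_le.2 ?_
    rintro _ ⟨s, rfl⟩
    have hs := hKle (Ideal.mem_map_of_mem φ (KaehlerDifferential.one_smul_sub_smul_one_mem_ideal k s))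
    rw [IsLocalization.mem_map_algebraMap_iff W₀.primeCompl] at hs
    obtain ⟨⟨⟨j, hj⟩, c⟩, hjc⟩ := hs
    rw [← map_mul, IsLocalization.eq_iff_exists W₀.primeCompl] at hjc
    obtain ⟨c', hc'⟩ := hjc
    have hDj : D j ∈ W' := by
      refine (Ideal.map_le_iff_le_comap.1 (le_trans ?_ hJW') : J₀ ≤ W'.comap D) hj
      rw [Ideal.map_span, Ideal.span_le]
      rintro _ ⟨_, ⟨i, rfl⟩, rfl⟩
      rw [map_sub, hD1, hD2, ← neg_sub]
      exact neg_mem (Ideal.subset_span ⟨i, rfl⟩)
    have hmem : D ((c' : S ⊗[k] S) * ((1 ⊗ₜ[k] s - s ⊗ₜ[k] 1) * (c : S ⊗[k] S))) ∈ W' := by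
      rw [hc', map_mul]; exact W'.mul_mem_left _ hDj
    rw [map_mul, map_mul, map_sub, hD1, hD2] at hmem
    rcases hW'.mem_or_mem hmem with h | h
    · exact absurd (hW'W h) c'.2
    rcases hW'.mem_or_mem h with h | h
    · simpa using neg_mem h
    · exact absurd (hW'W h) c.2
  have hmin : W ∈ J.minimalPrimes := by
    refine ⟨⟨inferInstance, hJW⟩, fun W' ⟨hW', hJW'⟩ hle t ht => ?_⟩
    have hJfW' : Jf ≤ W' := hloc W' hW' hJW' hle
    have hsup : p ⊔ q ≤ W'.comap ι := sup_le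
      (fun s hs => show ι s ∈ W' by
        rw [e1, Ideal.Quotient.eq_zero_iff_mem.2 hs, TensorProduct.zero_tmul]; exact zero_mem _)
      (fun s hs => show ι s ∈ W' by
        rw [show ι s = ι s - ι' s by rw [e2, Ideal.Quotient.eq_zero_iff_mem.2 hs, TensorProduct.tmul_zero, sub_zero]]; exact hJfW' (hJ s))
    have hle' : W'.comap ι ≤ w := fun s hs => by
      rw [← Ideal.Quotient.eq_zero_iff_mem, ← hμ]; exact hle hs
    have hge : w ≤ W'.comap ι := hw.2 ⟨Ideal.IsPrime.comap ι, hsup⟩ hle'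
    obtain ⟨s, hs⟩ := hsurj t
    have hsw : s ∈ w := by
      rw [← Ideal.Quotient.eq_zero_iff_mem, ← hμ]
      have h := hJfW hs
      rw [RingHom.mem_ker, map_sub, (ht : μ t = 0), zero_sub, neg_eq_zero] at h
      exact h
    have : t = (t - ι s) + ι s := by ring
    rw [this]
    exact add_mem (hJfW' hs) (hge hsw)
  have hN : W.height ≤ N := by
    classical
    refine (Ideal.height_le_card_of_mem_minimalPrimes_span (Set.finite_range _) hmin).trans ?_
    rw [Nat.cast_le]
    have h := Finset.card_image_le (s := (Finset.univ : Finset (Fin N))) (f := fun i => ι (x i) - ι' (x i))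
    rw [← Set.ncard_coe_finset, Finset.coe_image, Finset.coe_univ, Set.image_univ, Finset.card_univ, Fintype.card_fin] at h
    exact h
  have hWw : trdegQuot k W = trdegQuot k w := by
    unfold trdegQuot
    have hs : Function.Surjective μ := fun y => by
      obtain ⟨y, rfl⟩ := Ideal.Quotient.mk_surjective y; exact ⟨ι y, hμ y⟩
    exact congrArg Cardinal.toNat (Ideal.quotientKerAlgEquivOfSurjective hs).trdeg_eq
  obtain ⟨Q, hQ, hQW⟩ := Ideal.exists_minimalPrimes_le (I := (⊥ : Ideal T)) (J := W) bot_le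
  have : Q.IsPrime := hQ.1.1
  have h1 := height_add_trdegQuot k Q W hQW
  rw [hWw, trdegQuot_minimalPrimes_tensor A B Q hQ] at h1
  have h2 : ((Cardinal.toNat (Algebra.trdeg k A) + Cardinal.toNat (Algebra.trdeg k B) : ℕ) : ℕ∞) ≤ ((trdegQuot k w + N : ℕ) : ℕ∞) := by
    rw [← h1, Nat.cast_add, add_comm]
    exact add_le_add le_rfl ((height_map_quotient_le Q W hQW).trans hN)
  exact_mod_cast h2

end Groth.Agent.IntMult12
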