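import Groth.Agent.WC97.Dim
import Groth.Agent.Div89.Comap
import Mathlib.RingTheory.Kaehler.Basic
import Mathlib.AlgebraicGeometry.Pullbacks
import Mathlib.AlgebraicGeometry.IdealSheaf.Functorial

/-!
# The affine chart `U × U` around the diagonal; ideals of products of closed subschemes
-/

set_option autoImplicit false
set_option linter.style.haveILetI false

universe u

open CategoryTheory CategoryTheory.Limits AlgebraicGeometry
open scoped TensorProduct

namespace Groth.Agent.IntMult12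

theorem appLE_specMap_fromSpec {X : Scheme.{u}} (U : X.affineOpens) {R : CommRingCat.{u}} (g : Γ(X, U.1) ⟶ R)
    (e : (⊤ : (Spec R).Opens) ≤ (Spec.map g ≫ U.2.fromSpec) ⁻¹ᵁ U.1) :
    (Spec.map g ≫ U.2.fromSpec).appLE U.1 ⊤ e ≫ (Scheme.ΓSpecIso R).hom = g := by
  have e₁ : (⊤ : (Spec Γ(X, U.1)).Opens) ≤ U.2.fromSpec ⁻¹ᵁ U.1 := by
    rw [U.2.fromSpec_preimage_self]
  rw [← Scheme.Hom.appLE_comp_appLE (Spec.map g) U.2.fromSpec U.1 ⊤ ⊤ e₁ (fun _ _ => trivial),
    show U.2.fromSpec.appLE U.1 ⊤ e₁ = (Scheme.ΓSpecIso Γ(X, U.1)).inv by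
      rw [Scheme.Hom.appLE, U.2.fromSpec_app_self, Category.assoc, ← Functor.map_comp]
      exact (congrArg _ ((Spec Γ(X, U.1)).presheaf.map_id _)).trans (Category.comp_id _),
    Category.assoc,
    show (Spec.map g).appLE ⊤ ⊤ (fun _ _ => trivial) = (Spec.map g).appTop by
      exact (Scheme.Hom.app_eq_appLE (f := Spec.map g) (U := ⊤)).symm,
    Scheme.ΓSpecIso_naturality, Iso.inv_hom_id_assoc]

/-- The chart `U ×_K U = Spec (S ⊗_K S)` of `X ×_K X` around the diagonal. -/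
theorem exists_chart {K : Type u} [Field K] {X : Scheme.{u}} (f : X ⟶ Spec (CommRingCat.of K))
    (U : X.affineOpens) :
    letI := (WC97.kSec f U.2).toAlgebra
    ∃ (V : (pullback f f).affineOpens) (e : Γ(pullback f f, V.1) ≃+* Γ(X, U.1) ⊗[K] Γ(X, U.1))
      (hD : U.1 ≤ pullback.diagonal f ⁻¹ᵁ V.1) (hL : V.1 ≤ pullback.fst f f ⁻¹ᵁ U.1)
      (hR : V.1 ≤ pullback.snd f f ⁻¹ᵁ U.1),
      pullback.diagonal f ⁻¹ᵁ V.1 = U.1 ∧
      (∀ t, ((pullback.diagonal f).appLE V.1 U.1 hD).hom t = Algebra.TensorProduct.lmul' K (e t)) ∧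
      (∀ s, e (((pullback.fst f f).appLE U.1 V.1 hL).hom s) = s ⊗ₜ[K] 1) ∧
      (∀ s, e (((pullback.snd f f).appLE U.1 V.1 hR).hom s) = 1 ⊗ₜ[K] s) := by
  letI : Algebra K Γ(X, U.1) := (WC97.kSec f U.2).toAlgebra
  let S : Type u := Γ(X, U.1)
  let a : Spec (CommRingCat.of S) ⟶ Spec (CommRingCat.of K) :=
    Spec.map (CommRingCat.ofHom (algebraMap K Γ(X, U.1)))
  have ha : a ≫ 𝟙 _ = U.2.fromSpec ≫ f := by
    rw [Category.comp_id]
    exact Spec.map_preimage _
  let σ : Spec (CommRingCat.of (Γ(X, U.1) ⊗[K] Γ(X, U.1))) ⟶ pullback f f :=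
    (pullbackSpecIso K Γ(X, U.1) Γ(X, U.1)).inv ≫
      pullback.map _ _ f f U.2.fromSpec U.2.fromSpec (𝟙 _) ha ha
  let iL : Γ(X, U.1) ⟶ CommRingCat.of (Γ(X, U.1) ⊗[K] Γ(X, U.1)) :=
    CommRingCat.ofHom Algebra.TensorProduct.includeLeftRingHom
  let iR : Γ(X, U.1) ⟶ CommRingCat.of (Γ(X, U.1) ⊗[K] Γ(X, U.1)) :=
    CommRingCat.ofHom (Algebra.TensorProduct.includeRight (R := K) (A := Γ(X, U.1)) (B := Γ(X, U.1))).toRingHom
  let μ : CommRingCat.of (Γ(X, U.1) ⊗[K] Γ(X, U.1)) ⟶ Γ(X, U.1) :=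
    CommRingCat.ofHom (Algebra.TensorProduct.lmul' K (S := Γ(X, U.1))).toRingHom
  have hσ1 : σ ≫ pullback.fst f f = Spec.map iL ≫ U.2.fromSpec := by
    simp only [σ, Category.assoc, pullback.lift_fst]
    rw [← Category.assoc]
    congr 1
    exact pullbackSpecIso_inv_fst K _ _
  have hσ2 : σ ≫ pullback.snd f f = Spec.map iR ≫ U.2.fromSpec := by
    simp only [σ, Category.assoc, pullback.lift_snd]
    rw [← Category.assoc]
    congr 1
    exact pullbackSpecIso_inv_snd K _ _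
  have hμL : iL ≫ μ = 𝟙 _ := by
    ext s
    show Algebra.TensorProduct.lmul' K (S := Γ(X, U.1)) (s ⊗ₜ[K] (1 : Γ(X, U.1))) = s
    simp
  have hμR : iR ≫ μ = 𝟙 _ := by
    ext s
    show Algebra.TensorProduct.lmul' K (S := Γ(X, U.1)) ((1 : Γ(X, U.1)) ⊗ₜ[K] s) = s
    simp
  have hcomm : U.2.fromSpec ≫ pullback.diagonal f = Spec.map μ ≫ σ := by
    apply pullback.hom_ext
    · rw [Category.assoc, pullback.diagonal_fst, Category.comp_id, Category.assoc, hσ1, ← Spec.map_comp_assoc,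
        hμL, Spec.map_id, Category.id_comp]
    · rw [Category.assoc, pullback.diagonal_snd, Category.comp_id, Category.assoc, hσ2, ← Spec.map_comp_assoc,
        hμR, Spec.map_id, Category.id_comp]
  let V : (pullback f f).affineOpens := ⟨σ ''ᵁ ⊤, (isAffineOpen_top _).image_of_isOpenImmersion σ⟩
  let e : Γ(pullback f f, V.1) ≃+* Γ(X, U.1) ⊗[K] Γ(X, U.1) :=
    (σ.appIso ⊤ ≪≫ Scheme.ΓSpecIso _).commRingCatIsoToRingEquiv
  have hVσ : (⊤ : (Spec _).Opens) ≤ σ ⁻¹ᵁ V.1 := (σ.preimage_image_eq ⊤).ge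
  have he : ∀ t, e t = ((σ.appLE V.1 ⊤ hVσ ≫ (Scheme.ΓSpecIso _).hom).hom t) := fun t => by
    show ((σ.appIso ⊤ ≪≫ Scheme.ΓSpecIso _).hom).hom t = _
    rw [Iso.trans_hom, Scheme.Hom.appIso_hom']
  -- preimages
  have hD0 : pullback.diagonal f ⁻¹ᵁ V.1 = U.1 := by
    ext x
    constructor
    · rintro ⟨y, -, hy⟩
      have h1 : pullback.fst f f (pullback.diagonal f x) = x := by
        rw [← Scheme.Hom.comp_apply, pullback.diagonal_fst]; rfl
      have h2 : x = U.2.fromSpec (Spec.map iL y) := by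
        rw [← h1, ← hy]
        exact congrArg (fun φ : _ ⟶ X => φ y) hσ1
      rw [h2]
      exact U.2.range_fromSpec.le ⟨_, rfl⟩
    · intro hx
      obtain ⟨w, rfl⟩ := U.2.range_fromSpec.ge hx
      refine ⟨Spec.map μ w, trivial, ?_⟩
      exact (congrArg (fun φ : _ ⟶ pullback f f => φ w) hcomm).symm
  have hL : V.1 ≤ pullback.fst f f ⁻¹ᵁ U.1 := by
    rintro _ ⟨y, -, rfl⟩
    show pullback.fst f f (σ y) ∈ U.1
    rw [show pullback.fst f f (σ y) = _ from congrArg (fun φ : _ ⟶ X => φ y) hσ1]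
    exact U.2.range_fromSpec.le ⟨_, rfl⟩
  have hR : V.1 ≤ pullback.snd f f ⁻¹ᵁ U.1 := by
    rintro _ ⟨y, -, rfl⟩
    show pullback.snd f f (σ y) ∈ U.1
    rw [show pullback.snd f f (σ y) = _ from congrArg (fun φ : _ ⟶ X => φ y) hσ2]
    exact U.2.range_fromSpec.le ⟨_, rfl⟩
  refine ⟨V, e, hD0.ge, hL, hR, hD0, fun t => ?_, fun s => ?_, fun s => ?_⟩
  · have e₁ : (⊤ : (Spec Γ(X, U.1)).Opens) ≤ U.2.fromSpec ⁻¹ᵁ U.1 := by
      rw [U.2.fromSpec_preimage_self]
    have key : (pullback.diagonal f).appLE V.1 U.1 hD0.ge =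
        (σ.appLE V.1 ⊤ hVσ ≫ (Scheme.ΓSpecIso _).hom) ≫ μ := by
      have h1 : U.2.fromSpec.appLE U.1 ⊤ e₁ ≫ (Scheme.ΓSpecIso Γ(X, U.1)).hom = 𝟙 _ := by
        have := appLE_specMap_fromSpec U (𝟙 Γ(X, U.1)) (by rw [Spec.map_id, Category.id_comp]; exact e₁)
        simpa [Spec.map_id] using this
      rw [← Category.comp_id ((pullback.diagonal f).appLE V.1 U.1 hD0.ge), ← h1, ← Category.assoc,
        Scheme.Hom.appLE_comp_appLE]
      simp only [hcomm]
      rw [← Scheme.Hom.appLE_comp_appLE (Spec.map μ) σ V.1 ⊤ ⊤ hVσ (fun _ _ => trivial), Category.assoc,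
        show (Spec.map μ).appLE ⊤ ⊤ (fun _ _ => trivial) = (Spec.map μ).appTop by
          exact (Scheme.Hom.app_eq_appLE (f := Spec.map μ) (U := ⊤)).symm,
        Scheme.ΓSpecIso_naturality, Category.assoc]
    rw [key, he]
    rfl
  · rw [he]
    show (((pullback.fst f f).appLE U.1 V.1 hL) ≫ σ.appLE V.1 ⊤ hVσ ≫ (Scheme.ΓSpecIso _).hom).hom s = _
    rw [← Category.assoc, Scheme.Hom.appLE_comp_appLE]
    simp only [hσ1]
    rw [appLE_specMap_fromSpec U iL]
    rfl
  · rw [he]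
    show (((pullback.snd f f).appLE U.1 V.1 hR) ≫ σ.appLE V.1 ⊤ hVσ ≫ (Scheme.ΓSpecIso _).hom).hom s = _
    rw [← Category.assoc, Scheme.Hom.appLE_comp_appLE]
    simp only [hσ2]
    rw [appLE_specMap_fromSpec U iR]
    rfl

/-- The ideal sheaf of the product of two closed subschemes. -/
theorem ker_pullback_map {X Y S : Scheme.{u}} (f : X ⟶ S) (g : Y ⟶ S) (I : X.IdealSheafData)
    (J : Y.IdealSheafData) :
    (pullback.map (I.subschemeι ≫ f) (J.subschemeι ≫ g) f g I.subschemeι J.subschemeι (𝟙 _)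
      (Category.comp_id _) (Category.comp_id _)).ker =
      I.comap (pullback.fst f g) ⊔ J.comap (pullback.snd f g) := by
  set j := pullback.map (I.subschemeι ≫ f) (J.subschemeι ≫ g) f g I.subschemeι J.subschemeι (𝟙 _)
    (Category.comp_id _) (Category.comp_id _) with hj
  set T := I.comap (pullback.fst f g) ⊔ J.comap (pullback.snd f g) with hT
  have h1 : j ≫ pullback.fst f g = pullback.fst _ _ ≫ I.subschemeι := pullback.lift_fst _ _ _
  have h2 : j ≫ pullback.snd f g = pullback.snd _ _ ≫ J.subschemeι := pullback.lift_snd _ _ _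
  refine le_antisymm ?_ (sup_le ?_ ?_)
  · have hT1 : I.subschemeι.ker ≤ (T.subschemeι ≫ pullback.fst f g).ker := by
      rw [Scheme.IdealSheafData.ker_subschemeι]
      exact Scheme.IdealSheafData.le_map_iff_comap_le.2 le_sup_left
    have hT2 : J.subschemeι.ker ≤ (T.subschemeι ≫ pullback.snd f g).ker := by
      rw [Scheme.IdealSheafData.ker_subschemeι]
      exact Scheme.IdealSheafData.le_map_iff_comap_le.2 le_sup_right
    let l : T.subscheme ⟶ pullback (I.subschemeι ≫ f) (J.subschemeι ≫ g) := pullback.lift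
      (IsClosedImmersion.lift I.subschemeι _ hT1) (IsClosedImmersion.lift J.subschemeι _ hT2) (by
        rw [← Category.assoc, IsClosedImmersion.lift_fac, ← Category.assoc, IsClosedImmersion.lift_fac,
          Category.assoc, Category.assoc, pullback.condition])
    have hl : l ≫ j = T.subschemeι := by
      apply pullback.hom_ext
      · rw [Category.assoc, h1, ← Category.assoc, pullback.lift_fst, IsClosedImmersion.lift_fac]
      · rw [Category.assoc, h2, ← Category.assoc, pullback.lift_snd, IsClosedImmersion.lift_fac]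
    calc j.ker ≤ (l ≫ j).ker := Scheme.Hom.le_ker_comp _ _
      _ = T := by rw [hl, Scheme.IdealSheafData.ker_subschemeι]
  · rw [← Scheme.IdealSheafData.le_map_iff_comap_le]
    calc I = I.subschemeι.ker := (Scheme.IdealSheafData.ker_subschemeι I).symm
      _ ≤ (j ≫ pullback.fst f g).ker := by rw [h1]; exact Scheme.Hom.le_ker_comp _ _
      _ = _ := (Scheme.IdealSheafData.map_ker _ _).symm
  · rw [← Scheme.IdealSheafData.le_map_iff_comap_le]
    calc J = J.subschemeι.ker := (Scheme.IdealSheafData.ker_subschemeι J).symm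
      _ ≤ (j ≫ pullback.snd f g).ker := by rw [h2]; exact Scheme.Hom.le_ker_comp _ _
      _ = _ := (Scheme.IdealSheafData.map_ker _ _).symm

end Groth.Agent.IntMult12
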