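import Groth.Agent.IntMult12.DiagData
import Groth.Agent.IntMult12.ProdChart
import Groth.Agent.An92.Nrm.RegIdeal

/-!
# The diagonal of a nonsingular variety at a point
-/

set_option autoImplicit false
set_option linter.style.haveILetI false

universe u

open CategoryTheory CategoryTheory.Limits AlgebraicGeometry IsLocalRing
open scoped TensorProduct

attribute [local instance] HasDerivedCategory.standard

namespace Groth.Agent.IntMult12

open CAlgH2 (trdegQuot)
open RingTheory.Sequence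

/-- A sequence generating an ideal and regular at a prime does so on a basic open neighbourhood. -/
theorem exists_away_regular {A : Type u} [CommRing A] [IsNoetherianRing A] (p : Ideal A) [p.IsPrime]
    (rs : List A) (I : Ideal A) (hIp : I ≤ p) (hrs : Ideal.ofList rs ≤ I)
    (L : Type u) [CommRing L] [Algebra A L] [IsLocalization.AtPrime L p]
    (hgen : I.map (algebraMap A L) ≤ (Ideal.ofList rs).map (algebraMap A L))
    (hw : IsWeaklyRegular L (rs.map (algebraMap A L))) :
    ∃ g, g ∉ p ∧ ∀ (B : Type u) [CommRing B] [Algebra A B], IsLocalization.Away g B →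
      RingTheory.Sequence.IsRegular B (rs.map (algebraMap A B)) ∧
        I.map (algebraMap A B) = Ideal.ofList (rs.map (algebraMap A B)) := by
  classical
  obtain ⟨s, hs⟩ := (IsNoetherian.noetherian I : I.FG)
  have hk : ∀ c ∈ s, ∃ t ∈ p.primeCompl, t * c ∈ Ideal.ofList rs := fun c hc =>
    (IsLocalization.algebraMap_mem_map_algebraMap_iff p.primeCompl L _ _).1
      (hgen (Ideal.mem_map_of_mem _ (hs.le (Submodule.subset_span hc))))
  choose! t ht htc using hk
  rw [isWeaklyRegular_map_algebraMap_iff] at hw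
  have e : LocalizedModule p.primeCompl A ≃ₗ[A] L :=
    IsLocalizedModule.iso p.primeCompl (Algebra.linearMap A L)
  obtain ⟨g₁, hg₁, hW⟩ := An92.Nrm.exists_W p rs A ((e.isWeaklyRegular_congr rs).2 hw)
  refine ⟨(∏ c ∈ s, t c) * g₁, ?_, fun B _ _ hB => ?_⟩
  · exact fun h => (Ideal.IsPrime.mem_or_mem ‹_› h).elim (prod_mem fun c hc => ht c hc) hg₁
  set g := (∏ c ∈ s, t c) * g₁
  have hgp : g ∉ p := fun h => (Ideal.IsPrime.mem_or_mem ‹_› h).elim (prod_mem fun c hc => ht c hc) hg₁
  refine ⟨⟨?_, ?_⟩, ?_⟩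
  · have h1 := Ega11.RegSeqSk.W.isWeaklyRegular rs A
      (Ega11.RegSeqSk.W.mono (dvd_mul_left g₁ (∏ c ∈ s, t c)) _ _ hW)
    rw [isWeaklyRegular_map_algebraMap_iff] at h1 ⊢
    haveI : IsLocalizedModule (Submonoid.powers g) (Algebra.linearMap A B) :=
      (isLocalizedModule_iff_isLocalization' _ _).2 hB
    have e' : LocalizedModule (Submonoid.powers g) A ≃ₗ[A] B :=
      IsLocalizedModule.iso (Submonoid.powers g) (Algebra.linearMap A B)
    exact (e'.isWeaklyRegular_congr rs).1 h1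
  · rw [smul_eq_mul, Ideal.mul_top, ne_comm, ← Ideal.map_ofList,
      IsLocalization.map_algebraMap_ne_top_iff_disjoint (Submonoid.powers g) B]
    refine Set.disjoint_left.2 ?_
    rintro _ ⟨n, rfl⟩ hz
    exact hgp (Ideal.IsPrime.mem_of_pow_mem ‹_› n (hIp (hrs hz)))
  · rw [← Ideal.map_ofList]
    refine le_antisymm ?_ (Ideal.map_mono hrs)
    rw [← hs, Ideal.submodule_span_eq, Ideal.map_span, Ideal.span_le]
    rintro _ ⟨c, hc, rfl⟩
    have hu : IsUnit (algebraMap A B g) := IsLocalization.map_units B (⟨g, 1, pow_one g⟩ : Submonoid.powers g)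
    show algebraMap A B c ∈ (Ideal.ofList rs).map (algebraMap A B)
    rw [← Ideal.unit_mul_mem_iff_mem _ hu, ← map_mul]
    refine Ideal.mem_map_of_mem _ ?_
    obtain ⟨v, hv⟩ : t c ∣ g := (Finset.dvd_prod_of_mem t hc).trans (dvd_mul_right _ _)
    rw [hv, mul_right_comm]
    exact Ideal.mul_mem_right _ _ (htc c hc)

/-- points under a morphism of affine opens -/
theorem mem_primeAt_appLE {X Y : Scheme.{u}} (φ : X ⟶ Y) (U : X.affineOpens) (V : Y.affineOpens)
    (e : U.1 ≤ φ ⁻¹ᵁ V.1) (x : X) (hx : x ∈ U.1) (t : Γ(Y, V.1)) :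
    t ∈ Div89.primeAt V (φ x) (e hx) ↔ (φ.appLE V.1 U.1 e).hom t ∈ Div89.primeAt U x hx := by
  rw [← not_iff_not, ← Div89.mem_basicOpen_iff_notMem V, ← Div89.mem_basicOpen_iff_notMem U,
    Scheme.basicOpen_appLE]
  exact ⟨fun h => ⟨hx, h⟩, fun h => h.2⟩

theorem ker_appLE_eq {X Y : Scheme.{u}} (φ : X ⟶ Y) {V : Y.Opens} {U : X.Opens} (e : U ≤ φ ⁻¹ᵁ V)
    (h : φ ⁻¹ᵁ V = U) : RingHom.ker (φ.appLE V U e).hom = RingHom.ker (φ.app V).hom := by
  subst h
  rw [Scheme.Hom.app_eq_appLE]

variable {K : Type u} [Field K]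

theorem trdegQuot_bot_eq {X : Scheme.{u}} (f : X ⟶ Spec (CommRingCat.of K)) [LocallyOfFiniteType f]
    [IsIntegral X] (n : ℕ) (hn : topologicalKrullDim X = n) (U : X.affineOpens) {x : X} (hx : x ∈ U.1) :
    letI := (WC97.kSec f U.2).toAlgebra
    trdegQuot K (⊥ : Ideal Γ(X, U.1)) = n := by
  letI := (WC97.kSec f U.2).toAlgebra
  have hgU := (genericPoint_specializes x).mem_open U.1.isOpen hx
  have hgen : Div89.primeAt U (genericPoint X) hgU = ⊥ := by
    haveI : Nonempty U.1 := ⟨⟨x, hx⟩⟩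
    obtain ⟨y, hy, hy0⟩ := Div89.exists_point U (⊥ : Ideal Γ(X, U.1))
    refine le_bot_iff.1 (hy0 ▸ ?_)
    exact (Div89.specializes_iff_primeAt_le U hy _).1 (genericPoint_specializes y)
  have h1 : topologicalKrullDim ↥(closure ({genericPoint X} : Set X)) =
      (trdegQuot K (Div89.primeAt U (genericPoint X) hgU) : ℕ) := by
    rw [WC97.topologicalKrullDim_closure f (genericPoint X), tdegN_eq_trdegQuot f U hgU]
  rw [hgen, (genericPoint_spec X).def, IsHomeomorph.topologicalKrullDim_eq _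
    (Homeomorph.Set.univ X).isHomeomorph, hn] at h1
  exact_mod_cast h1.symm

/-- The diagonal of a nonsingular variety of dimension `n` is regular of codimension `n`. -/
theorem diagonal_regular (X : Scheme.{u}) (f : X ⟶ Spec (CommRingCat.of K)) [Smooth f] [IsSeparated f]
    [IsIntegral X] (n : ℕ) (hn : topologicalKrullDim X = n) :
    RegImm.IsRegularImmersionOfCodim RegImm.Kind.regular n (pullback.diagonal f) := by
  refine ⟨inferInstance, fun x => ?_⟩
  obtain ⟨U, hx⟩ := Div89.exists_affine_mem x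
  letI : Algebra K Γ(X, U.1) := (WC97.kSec f U.2).toAlgebra
  have : Algebra.FiniteType K Γ(X, U.1) := WC97.kSec_finiteType f U.2
  have : Nonempty U.1 := ⟨⟨x, hx⟩⟩
  have : Algebra.Smooth K Γ(X, U.1) := smooth_kSec f U
  obtain ⟨V, e, hD, -, -, hpre, hΔ, -, -⟩ := exists_chart f U
  let S := Γ(X, U.1)
  let w := Div89.primeAt U x hx
  let μ : Γ(X, U.1) ⊗[K] Γ(X, U.1) →ₐ[K] Γ(X, U.1) := Algebra.TensorProduct.lmul' K (S := Γ(X, U.1))
  let W₀ : Ideal (Γ(X, U.1) ⊗[K] Γ(X, U.1)) := w.comap μ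
  haveI : W₀.IsPrime := Ideal.IsPrime.comap _
  haveI : Algebra.FiniteType K (Γ(X, U.1) ⊗[K] Γ(X, U.1)) :=
    Algebra.FiniteType.trans (S := Γ(X, U.1)) inferInstance inferInstance
  haveI : IsNoetherianRing (Γ(X, U.1) ⊗[K] Γ(X, U.1)) := Algebra.FiniteType.isNoetherianRing K _
  haveI : Algebra.IsSmoothAt K w := inferInstance
  obtain ⟨xs, a, ha, hax⟩ := exists_span_kaehler (k := K) w
  let δ : List (Γ(X, U.1) ⊗[K] Γ(X, U.1)) :=
    List.ofFn fun i => 1 ⊗ₜ[K] xs i - xs i ⊗ₜ[K] (1 : Γ(X, U.1))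
  let L := Localization.AtPrime W₀
  let Kd := KaehlerDifferential.ideal K Γ(X, U.1)
  have hKW : Kd ≤ W₀ := fun t ht => by
    rw [Ideal.mem_comap, show μ t = 0 from ht]; exact zero_mem _
  have haW : a ⊗ₜ[K] (1 : Γ(X, U.1)) ∉ W₀ := fun h => ha (by
    rw [Ideal.mem_comap] at h
    simpa [μ] using h)
  have hKL := map_ideal_le xs W₀ hKW (R := L) haW hax
  have hδK : Ideal.ofList δ ≤ Kd := by
    rw [LC17.ofList_ofFn, Ideal.span_le]
    rintro _ ⟨i, rfl⟩
    exact KaehlerDifferential.one_smul_sub_smul_one_mem_ideal K (xs i)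
  have hgen : Kd.map (algebraMap _ L) = (Ideal.ofList δ).map (algebraMap _ L) := by
    rw [hKL, LC17.ofList_ofFn, Ideal.map_span, ← Set.range_comp]
    rfl
  obtain ⟨l, hlen, hlK, hlreg, -, -⟩ := diag_chi (⊥ : Ideal Γ(X, U.1)) w w
    ⟨⟨inferInstance, by simp⟩, fun v hv _ => le_sup_right.trans hv.2⟩ (by rw [add_comm])
    (Localization.AtPrime w) W₀ rfl L
  have hm : ∀ z ∈ δ.map (algebraMap _ L), z ∈ maximalIdeal L := by
    intro z hz
    obtain ⟨d, hd, rfl⟩ := List.mem_map.1 hz
    exact (IsLocalization.AtPrime.to_map_mem_maximal_iff L W₀ d).2 (hKW (hδK (Ideal.subset_span hd)))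
  haveI : IsNoetherianRing L := IsLocalization.isNoetherianRing W₀.primeCompl L inferInstance
  haveI : Algebra.Smooth K (Γ(X, U.1) ⊗[K] Γ(X, U.1)) :=
    Algebra.Smooth.comp K Γ(X, U.1) (Γ(X, U.1) ⊗[K] Γ(X, U.1))
  haveI : IsRegularLocalRing L := by
    have : IsRegularRing (Γ(X, U.1) ⊗[K] Γ(X, U.1)) := Var76.RegKaehler.isRegularRing_of_smooth K _
    exact IsRegularRing.isRegularLocalRing_localization (R := Γ(X, U.1) ⊗[K] Γ(X, U.1)) W₀
  have hideal : Ideal.ofList (δ.map (algebraMap _ L)) = Ideal.ofList l := by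
    rw [hlK, ← Ideal.map_ofList]; exact hgen.symm
  have hδlen : δ.length = trdegQuot K (⊥ : Ideal Γ(X, U.1)) := List.length_ofFn
  have hlm : ∀ z ∈ l, z ∈ maximalIdeal L := fun z hz => by
    have h1 : Kd.map (algebraMap _ L) ≤ maximalIdeal L := by
      rw [← IsLocalization.AtPrime.map_eq_maximalIdeal W₀ L]; exact Ideal.map_mono hKW
    exact h1 (hlK ▸ Ideal.subset_span hz)
  have hlne : Ideal.ofList l • (⊤ : Submodule L L) ≠ ⊤ := by
    rw [smul_eq_mul, Ideal.mul_top]
    exact ne_top_of_le_ne_top (maximalIdeal.isMaximal L).ne_top (Ideal.span_le.2 hlm)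
  have hw : IsWeaklyRegular L (δ.map (algebraMap _ L)) := by
    refine EGA4Alg4.isWeaklyRegular_of_supportDim (A := L) (isCM_of_regular L).supportDim_eq_depth hm ?_
    rw [hideal, List.length_map, hδlen, ← hlen]
    exact Module.supportDim_add_length_eq_supportDim_of_isRegular (M := L) l ⟨hlreg, hlne.symm⟩
  obtain ⟨g, hg, hB⟩ := exists_away_regular W₀ δ Kd hKW hδK L hgen.le hw
  let g' : Γ(pullback f f, V.1) := e.symm g
  have hpt : pullback.diagonal f x ∈ (pullback f f).basicOpen g' := by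
    rw [Div89.mem_basicOpen_iff_notMem V _ (hD hx), mem_primeAt_appLE (pullback.diagonal f) U V hD x hx, hΔ,
      RingEquiv.apply_symm_apply]
    exact hg
  let B : Type u := Γ(pullback f f, (pullback f f).basicOpen g')
  let res : Γ(pullback f f, V.1) →+* Γ(pullback f f, (pullback f f).basicOpen g') :=
    ((pullback f f).presheaf.map (homOfLE ((pullback f f).basicOpen_le g')).op).hom
  letI algV : Algebra Γ(pullback f f, V.1) Γ(pullback f f, (pullback f f).basicOpen g') := res.toAlgebra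
  haveI : IsLocalization.Away g' Γ(pullback f f, (pullback f f).basicOpen g') := V.2.isLocalization_basicOpen g'
  letI algS : Algebra (Γ(X, U.1) ⊗[K] Γ(X, U.1)) Γ(pullback f f, (pullback f f).basicOpen g') :=
    (res.comp e.symm.toRingHom).toAlgebra
  have hAway : IsLocalization.Away g Γ(pullback f f, (pullback f f).basicOpen g') := by
    have h := IsLocalization.isLocalization_of_base_ringEquiv (Submonoid.powers g')
      Γ(pullback f f, (pullback f f).basicOpen g') e
    rw [Submonoid.map_powers] at h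
    rw [show e g' = g from e.apply_symm_apply g] at h
    exact h
  obtain ⟨hreg, hid⟩ := hB Γ(pullback f f, (pullback f f).basicOpen g') hAway
  refine ⟨(pullback f f).affineBasicOpen g', hpt, IsZariskiLocalAtTarget.restrict (P := @IsClosedImmersion) (inferInstance : IsClosedImmersion (pullback.diagonal f)) _,
    δ.map (algebraMap _ Γ(pullback f f, (pullback f f).basicOpen g')), ?_, hreg, ?_⟩
  · rw [List.length_map, hδlen, trdegQuot_bot_eq f n hn U hx]
  · have hker : RingHom.ker ((pullback.diagonal f).app V.1).hom = Kd.map e.symm.toRingHom := by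
      ext t
      rw [RingHom.mem_ker, show Kd.map e.symm.toRingHom = Kd.comap e.toRingHom from Ideal.map_comap_of_equiv e.symm,
        Ideal.mem_comap]
      show _ ↔ μ (e t) = 0
      rw [← hΔ t, ← RingHom.mem_ker, ← RingHom.mem_ker, ker_appLE_eq _ hD hpre]
    refine (An92.Nrm.ker_app_basicOpen (pullback.diagonal f) V (hpre ▸ U.2) g').trans ?_
    rw [hker, Ideal.map_map]
    exact hid

end Groth.Agent.IntMult12
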