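import Groth.Agent.IntMult12.DiagMult
import Groth.Agent.IntMult12.ExtProd
import Groth.Agent.IntMult12.AssocLocal
import Groth.Agent.FBase64.TensorField
import Groth.Agent.VarGal.RelNormFinite
import Groth.Agent.Cyc90.EnvelopeSeq
import Groth.Agent.Cyc90.MayerVietoris
import Groth.Agent.WC97.Cycles

/-!
# `[Δ] · (α × β)` on `X ×_K X`
-/

set_option autoImplicit false
set_option linter.style.haveILetI false

universe u

open CategoryTheory CategoryTheory.Limits AlgebraicGeometry IsLocalRing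
open scoped TensorProduct

attribute [local instance] HasDerivedCategory.standard

namespace Groth.Agent.IntMult12

open CAlgH2 (trdegQuot)

variable {K : Type u} [Field K] [IsAlgClosed K]

section Alg

variable {S : Type u} [CommRing S] [Algebra K S]

theorem prodPrime_isPrime (p q : Ideal S) [p.IsPrime] [q.IsPrime] :
    (p.map (Algebra.TensorProduct.includeLeft : S →ₐ[K] S ⊗[K] S) ⊔
      q.map (Algebra.TensorProduct.includeRight : S →ₐ[K] S ⊗[K] S)).IsPrime ∧
    (∀ a, (Algebra.TensorProduct.includeLeft : S →ₐ[K] S ⊗[K] S) a ∈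
      p.map (Algebra.TensorProduct.includeLeft : S →ₐ[K] S ⊗[K] S) ⊔
        q.map (Algebra.TensorProduct.includeRight : S →ₐ[K] S ⊗[K] S) ↔ a ∈ p) ∧
    (∀ a, (Algebra.TensorProduct.includeRight : S →ₐ[K] S ⊗[K] S) a ∈
      p.map (Algebra.TensorProduct.includeLeft : S →ₐ[K] S ⊗[K] S) ⊔
        q.map (Algebra.TensorProduct.includeRight : S →ₐ[K] S ⊗[K] S) ↔ a ∈ q) := by
  let D : S ⊗[K] S →ₐ[K] (S ⧸ p) ⊗[K] (S ⧸ q) :=
    Algebra.TensorProduct.map (Ideal.Quotient.mkₐ K p) (Ideal.Quotient.mkₐ K q)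
  have hk : RingHom.ker D = p.map (Algebra.TensorProduct.includeLeft : S →ₐ[K] S ⊗[K] S) ⊔
      q.map (Algebra.TensorProduct.includeRight : S →ₐ[K] S ⊗[K] S) := by
    rw [Algebra.TensorProduct.map_ker (Ideal.Quotient.mkₐ K p) (Ideal.Quotient.mkₐ K q)
      (Ideal.Quotient.mkₐ_surjective K p) (Ideal.Quotient.mkₐ_surjective K q),
      show RingHom.ker (Ideal.Quotient.mkₐ K p) = p from Ideal.Quotient.mkₐ_ker K p,
      show RingHom.ker (Ideal.Quotient.mkₐ K q) = q from Ideal.Quotient.mkₐ_ker K q]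
  haveI := FBase64.isDomain_tensor_of_isAlgClosed K (S ⧸ p) (S ⧸ q)
  rw [← hk]
  refine ⟨RingHom.ker_isPrime _, fun a => ?_, fun a => ?_⟩
  · rw [RingHom.mem_ker, ← Ideal.Quotient.eq_zero_iff_mem]
    show D (a ⊗ₜ 1) = 0 ↔ _
    rw [Algebra.TensorProduct.map_tmul, map_one]
    exact map_eq_zero_iff (Algebra.TensorProduct.includeLeft : S ⧸ p →ₐ[K] (S ⧸ p) ⊗[K] (S ⧸ q))
      (Algebra.TensorProduct.includeLeft_injective (algebraMap K (S ⧸ q)).injective)
  · rw [RingHom.mem_ker, ← Ideal.Quotient.eq_zero_iff_mem]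
    show D (1 ⊗ₜ a) = 0 ↔ _
    rw [Algebra.TensorProduct.map_tmul, map_one]
    exact map_eq_zero_iff (Algebra.TensorProduct.includeRight : S ⧸ q →ₐ[K] (S ⧸ p) ⊗[K] (S ⧸ q))
      (Algebra.TensorProduct.includeRight_injective (algebraMap K (S ⧸ p)).injective)

theorem trdeg_prodPrime [IsDomain S] [Algebra.FiniteType K S] (p q : Ideal S) [p.IsPrime] [q.IsPrime] :
    trdegQuot K (p.map (Algebra.TensorProduct.includeLeft : S →ₐ[K] S ⊗[K] S) ⊔
      q.map (Algebra.TensorProduct.includeRight : S →ₐ[K] S ⊗[K] S)) = trdegQuot K p + trdegQuot K q := by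
  haveI : Algebra.FiniteType K (S ⧸ p) :=
    Algebra.FiniteType.of_surjective (Ideal.Quotient.mkₐ K p) Ideal.Quotient.mk_surjective
  haveI : Algebra.FiniteType K (S ⧸ q) :=
    Algebra.FiniteType.of_surjective (Ideal.Quotient.mkₐ K q) Ideal.Quotient.mk_surjective
  haveI := FBase64.isDomain_tensor_of_isAlgClosed K (S ⧸ p) (S ⧸ q)
  have h := VarGal.trdegQuot_minimalPrimes_tensor (k := K) (S ⧸ p) (S ⧸ q) ⊥
    (by rw [IsDomain.minimalPrimes_eq_singleton_bot]; rfl)
  refine Eq.trans ?_ h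
  let D : S ⊗[K] S →ₐ[K] (S ⧸ p) ⊗[K] (S ⧸ q) :=
    Algebra.TensorProduct.map (Ideal.Quotient.mkₐ K p) (Ideal.Quotient.mkₐ K q)
  have hDs : Function.Surjective D := Algebra.TensorProduct.map_surjective _ _
    (Ideal.Quotient.mkₐ_surjective K p) (Ideal.Quotient.mkₐ_surjective K q)
  have hk : RingHom.ker D = p.map (Algebra.TensorProduct.includeLeft : S →ₐ[K] S ⊗[K] S) ⊔
      q.map (Algebra.TensorProduct.includeRight : S →ₐ[K] S ⊗[K] S) := by
    rw [Algebra.TensorProduct.map_ker (Ideal.Quotient.mkₐ K p) (Ideal.Quotient.mkₐ K q)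
      (Ideal.Quotient.mkₐ_surjective K p) (Ideal.Quotient.mkₐ_surjective K q),
      show RingHom.ker (Ideal.Quotient.mkₐ K p) = p from Ideal.Quotient.mkₐ_ker K p,
      show RingHom.ker (Ideal.Quotient.mkₐ K q) = q from Ideal.Quotient.mkₐ_ker K q]
  rw [← hk]
  unfold CAlgH2.trdegQuot
  exact congrArg Cardinal.toNat (((Ideal.quotientKerAlgEquivOfSurjective hDs).trans
    (AlgEquiv.quotientBot K _).symm).trdeg_eq)

end Alg

variable (X : Scheme.{u}) (f : X ⟶ Spec (CommRingCat.of K)) [Smooth f] [IsSeparated f] [IsIntegral X]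

omit [IsSeparated f] in
/-- The local picture at a diagonal point. -/
theorem pair_data (δ : X → ℤ) (hδ : Cyc.DeltaCompat f δ (fun _ => 0)) (hX : Cyc.IsSetup X δ)
    (δ₂ : ↥(pullback f f) → ℤ) (h₂ : Cyc.DeltaCompat (pullback.fst f f ≫ f) δ₂ (fun _ => 0))
    (n : ℤ) (hn : δ (genericPoint X) = n) (x y ζ : X) (hxζ : x ⤳ ζ) (hyζ : y ⤳ ζ)
    (hdeg : δ x + δ y - n = δ ζ)
    (hprop : ∀ a : X, x ⤳ a → y ⤳ a → δ a ≤ δ x + δ y - n) :
    ∃ p : ↥(pullback f f), p ⤳ pullback.diagonal f ζ ∧ pullback.fst f f p = x ∧ pullback.snd f f p = y ∧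
      δ₂ p = δ x + δ y ∧
      Module.length ((pullback f f).presheaf.stalk p)
        (↑((pullback f f).presheaf.stalk p) ⧸
          ((maximalIdeal (X.presheaf.stalk (pullback.fst f f p))).map ((pullback.fst f f).stalkMap p).hom ⊔
            (maximalIdeal (X.presheaf.stalk (pullback.snd f f p))).map ((pullback.snd f f).stalkMap p).hom)) = 1 ∧
      IntMult.mult (IntMult.ptIdeal (pullback.diagonal f (genericPoint X))) (IntMult.ptIdeal p)
          (pullback.diagonal f ζ) = IntMult.mult (IntMult.ptIdeal x) (IntMult.ptIdeal y) ζ ∧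
      ∀ p' : ↥(pullback f f), p' ⤳ pullback.diagonal f ζ → pullback.fst f f p' = x →
        pullback.snd f f p' = y → δ₂ p' = δ x + δ y → p' = p := by
  obtain ⟨U, hU⟩ := Div89.exists_affine_mem ζ
  letI : Algebra K Γ(X, U.1) := (WC97.kSec f U.2).toAlgebra
  have : Algebra.FiniteType K Γ(X, U.1) := WC97.kSec_finiteType f U.2
  have : Nonempty U.1 := ⟨⟨ζ, hU⟩⟩
  have : Algebra.Smooth K Γ(X, U.1) := smooth_kSec f U
  obtain ⟨V, e, hD, hL, hR, hpre, hΔ, hfst, hsnd⟩ := exists_chart f U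
  set z := pullback.diagonal f ζ with hzdef
  have hz : z ∈ V.1 := hD hU
  let iL : Γ(X, U.1) →ₐ[K] Γ(X, U.1) ⊗[K] Γ(X, U.1) := Algebra.TensorProduct.includeLeft
  let iR : Γ(X, U.1) →ₐ[K] Γ(X, U.1) ⊗[K] Γ(X, U.1) := Algebra.TensorProduct.includeRight
  let μ : Γ(X, U.1) ⊗[K] Γ(X, U.1) →ₐ[K] Γ(X, U.1) := Algebra.TensorProduct.lmul' K (S := Γ(X, U.1))
  have hμL : ∀ s, μ (iL s) = s := fun s => by simp [μ, iL]
  have hμR : ∀ s, μ (iR s) = s := fun s => by simp [μ, iR]
  haveI : Algebra.FiniteType K (Γ(X, U.1) ⊗[K] Γ(X, U.1)) :=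
    Algebra.FiniteType.trans (S := Γ(X, U.1)) inferInstance inferInstance
  letI : Algebra K Γ(pullback f f, V.1) := (WC97.kSec (pullback.fst f f ≫ f) V.2).toAlgebra
  let eA : Γ(pullback f f, V.1) ≃ₐ[K] Γ(X, U.1) ⊗[K] Γ(X, U.1) :=
    AlgEquiv.ofRingEquiv (f := e) fun r => by
      show e (WC97.kSec (pullback.fst f f ≫ f) V.2 r) = (WC97.kSec f U.2 r) ⊗ₜ 1
      rw [← VarGal.kSec_comp (pullback.fst f f) f _ rfl U.2 V.2 hL]
      exact hfst _
  have htr : ∀ (a : X) (ha : a ∈ U.1), δ a = (trdegQuot K (Div89.primeAt U a ha) : ℤ) := fun a ha => by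
    rw [WC97.delta_eq_pdim f δ hδ, WC97.pdim_eq f, tdegN_eq_trdegQuot f U ha]
  let Pr : ∀ q : ↥(pullback f f), q ∈ V.1 → Ideal (Γ(X, U.1) ⊗[K] Γ(X, U.1)) := fun q hq =>
    (Div89.primeAt V q hq).comap e.symm.toRingHom
  have hPrmem : ∀ q hq t, t ∈ Pr q hq ↔ e.symm t ∈ Div89.primeAt V q hq := fun _ _ _ => Iff.rfl
  have htr₂ : ∀ (q : ↥(pullback f f)) (hq : q ∈ V.1), δ₂ q = (trdegQuot K (Pr q hq) : ℤ) := fun q hq => by
    rw [WC97.delta_eq_pdim (pullback.fst f f ≫ f) δ₂ h₂, WC97.pdim_eq (pullback.fst f f ≫ f),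
      tdegN_eq_trdegQuot (pullback.fst f f ≫ f) V hq]
    congr 1
    unfold CAlgH2.trdegQuot
    refine congrArg Cardinal.toNat (AlgEquiv.trdeg_eq (Ideal.quotientEquivAlg _ _ eA ?_))
    show (Div89.primeAt V q hq).comap e.symm.toRingHom = (Div89.primeAt V q hq).map e.toRingHom
    exact (Ideal.map_comap_of_equiv e).symm
  have hPrfst : ∀ q hq s, iL s ∈ Pr q hq ↔ s ∈ Div89.primeAt U (pullback.fst f f q) (hL hq) :=
    fun q hq s => by
      rw [hPrmem, mem_primeAt_appLE (pullback.fst f f) V U hL q hq s]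
      rw [show e.symm (iL s) = ((pullback.fst f f).appLE U.1 V.1 hL).hom s from
        e.symm_apply_eq.2 (hfst s).symm]
  have hPrsnd : ∀ q hq s, iR s ∈ Pr q hq ↔ s ∈ Div89.primeAt U (pullback.snd f f q) (hR hq) :=
    fun q hq s => by
      rw [hPrmem, mem_primeAt_appLE (pullback.snd f f) V U hR q hq s]
      rw [show e.symm (iR s) = ((pullback.snd f f).appLE U.1 V.1 hR).hom s from
        e.symm_apply_eq.2 (hsnd s).symm]
  have hPrdiag : ∀ (a : X) (ha : a ∈ U.1) t,
      t ∈ Pr (pullback.diagonal f a) (hD ha) ↔ μ t ∈ Div89.primeAt U a ha := fun a ha t => by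
    rw [hPrmem, mem_primeAt_appLE (pullback.diagonal f) U V hD a ha, hΔ, e.apply_symm_apply]
  have hx := hxζ.mem_open U.1.isOpen hU
  have hy := hyζ.mem_open U.1.isOpen hU
  let px := Div89.primeAt U x hx
  let py := Div89.primeAt U y hy
  let w := Div89.primeAt U ζ hU
  have hxw : px ≤ w := (Div89.specializes_iff_primeAt_le U hU hx).1 hxζ
  have hyw : py ≤ w := (Div89.specializes_iff_primeAt_le U hU hy).1 hyζ
  obtain ⟨hP₀, hP₀L, hP₀R⟩ := prodPrime_isPrime (K := K) px py
  have hP₀tr : trdegQuot K (px.map iL ⊔ py.map iR) = trdegQuot K px + trdegQuot K py :=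
    trdeg_prodPrime (K := K) px py
  let P₀ : Ideal (Γ(X, U.1) ⊗[K] Γ(X, U.1)) := px.map iL ⊔ py.map iR
  haveI : P₀.IsPrime := hP₀
  haveI : (P₀.comap e.toRingHom).IsPrime := Ideal.IsPrime.comap _
  obtain ⟨p, hpV, hp⟩ := Div89.exists_point V (P₀.comap e.toRingHom)
  have hPrp : Pr p hpV = P₀ := by
    ext t
    rw [hPrmem, hp, Ideal.mem_comap]
    show e (e.symm t) ∈ P₀ ↔ _
    rw [e.apply_symm_apply]
  have hpx : pullback.fst f f p = x := Div89.primeAt_inj U (hL hpV) hx (Ideal.ext fun s => by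
    rw [← hPrfst p hpV, hPrp]; exact hP₀L s)
  have hpy : pullback.snd f f p = y := Div89.primeAt_inj U (hR hpV) hy (Ideal.ext fun s => by
    rw [← hPrsnd p hpV, hPrp]; exact hP₀R s)
  have hδp : δ₂ p = δ x + δ y := by
    rw [htr₂ p hpV, hPrp, htr x hx, htr y hy, show trdegQuot K P₀ = _ from hP₀tr]
    push_cast
    rfl
  have hpz : p ⤳ z := by
    refine (Div89.specializes_iff_primeAt_le V hz hpV).2 fun t ht => ?_
    have h1 : e t ∈ P₀ := by rwa [hp, Ideal.mem_comap] at ht
    have h2 : P₀ ≤ (w.comap μ) := sup_le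
      (Ideal.map_le_iff_le_comap.2 fun s hs => by
        show μ (iL s) ∈ w
        rw [hμL]; exact hxw hs)
      (Ideal.map_le_iff_le_comap.2 fun s hs => by
        show μ (iR s) ∈ w
        rw [hμR]; exact hyw hs)
    have h3 := (hPrdiag ζ hU (e t)).2 (h2 h1)
    rw [hPrmem, e.symm_apply_apply] at h3
    exact h3
  refine ⟨p, hpz, hpx, hpy, hδp, ?_, ?_, fun p' hp' hp'x hp'y hp'δ => ?_⟩
  · -- multiplicity one
    letI := Div89.stalkAlg V.1 p hpV
    haveI := Div89.isLocalization_stalk V p hpV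
    let germ : Γ(pullback f f, V.1) →+* (pullback f f).presheaf.stalk p :=
      ((pullback f f).presheaf.germ V.1 p hpV).hom
    have hmax : ∀ (q : pullback f f ⟶ X) (hq : V.1 ≤ q ⁻¹ᵁ U.1),
        (maximalIdeal (X.presheaf.stalk (q p))).map (q.stalkMap p).hom =
          ((Div89.primeAt U (q p) (hq hpV)).map (q.appLE U.1 V.1 hq).hom).map germ := fun q hq => by
      letI := Div89.stalkAlg U.1 (q p) (hq hpV)
      haveI := Div89.isLocalization_stalk U (q p) (hq hpV)
      rw [← IsLocalization.AtPrime.map_eq_maximalIdeal (Div89.primeAt U (q p) (hq hpV))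
        (X.presheaf.stalk (q p)), Ideal.map_map, Ideal.map_map]
      congr 1
      refine RingHom.ext fun t => ?_
      show (q.stalkMap p).hom ((X.presheaf.germ U.1 (q p) (hq hpV)).hom t) =
        germ ((q.appLE U.1 V.1 hq).hom t)
      erw [Scheme.Hom.germ_stalkMap_apply]
      exact ((pullback f f).presheaf.germ_res_apply (homOfLE hq) p hpV (q.app U.1 t)).symm
    have hL' : ∀ s, e.symm (iL s) = ((pullback.fst f f).appLE U.1 V.1 hL).hom s := fun s =>
      e.symm_apply_eq.2 (hfst s).symm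
    have hR' : ∀ s, e.symm (iR s) = ((pullback.snd f f).appLE U.1 V.1 hR).hom s := fun s =>
      e.symm_apply_eq.2 (hsnd s).symm
    have hpq : Div89.primeAt V p hpV =
        (Div89.primeAt U (pullback.fst f f p) (hL hpV)).map ((pullback.fst f f).appLE U.1 V.1 hL).hom ⊔
          (Div89.primeAt U (pullback.snd f f p) (hR hpV)).map ((pullback.snd f f).appLE U.1 V.1 hR).hom := by
      simp only [hpx, hpy]
      rw [hp, show P₀.comap e.toRingHom = P₀.map e.symm.toRingHom from (Ideal.map_comap_of_equiv e.symm).symm]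
      show (px.map iL.toRingHom ⊔ py.map iR.toRingHom).map e.symm.toRingHom = _
      rw [Ideal.map_sup, Ideal.map_map, Ideal.map_map, show e.symm.toRingHom.comp iL.toRingHom =
          ((pullback.fst f f).appLE U.1 V.1 hL).hom from RingHom.ext hL',
        show e.symm.toRingHom.comp iR.toRingHom =
          ((pullback.snd f f).appLE U.1 V.1 hR).hom from RingHom.ext hR']
    rw [hmax _ hL, hmax _ hR, ← Ideal.map_sup, ← hpq,
      show (Div89.primeAt V p hpV).map germ = maximalIdeal ((pullback f f).presheaf.stalk p) from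
        IsLocalization.AtPrime.map_eq_maximalIdeal (Div89.primeAt V p hpV) _]
    exact Module.length_eq_one_iff.2 (isSimpleModule_iff_isCoatom.mpr
      (Ideal.isMaximal_def.mp (maximalIdeal.isMaximal _)))
  · -- the multiplicity on the diagonal
    letI := Div89.stalkAlg U.1 ζ hU
    haveI := Div89.isLocalization_stalk U ζ hU
    haveI : (w.comap μ).IsPrime := Ideal.IsPrime.comap _
    let germ : Γ(pullback f f, V.1) →+* (pullback f f).presheaf.stalk z :=
      ((pullback f f).presheaf.germ V.1 z hz).hom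
    letI algR : Algebra (Γ(X, U.1) ⊗[K] Γ(X, U.1)) ((pullback f f).presheaf.stalk z) :=
      (germ.comp e.symm.toRingHom).toAlgebra
    haveI : IsLocalization.AtPrime ((pullback f f).presheaf.stalk z) (w.comap μ) := by
      letI := Div89.stalkAlg V.1 z hz
      haveI := Div89.isLocalization_stalk V z hz
      have h := IsLocalization.isLocalization_of_base_ringEquiv (Div89.primeAt V z hz).primeCompl
        ((pullback f f).presheaf.stalk z) e
      rw [show (Div89.primeAt V z hz).primeCompl.map e = (w.comap μ).primeCompl by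
        ext t
        constructor
        · rintro ⟨s, hs, rfl⟩ hmem
          refine hs ?_
          have h' := (hPrdiag ζ hU (e s)).2 hmem
          rw [hPrmem, e.symm_apply_apply] at h'
          exact h'
        · intro ht
          refine ⟨e.symm t, fun hmem => ht ?_, e.apply_symm_apply t⟩
          exact (hPrdiag ζ hU t).1 hmem] at h
      exact h
    have hn0 : n = (trdegQuot K (⊥ : Ideal Γ(X, U.1)) : ℤ) := by
      have hg := (genericPoint_specializes ζ).mem_open U.1.isOpen hU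
      rw [← hn, htr _ hg, primeAt_genericPoint U hg]
    have hwζ : δ ζ = (trdegQuot K w : ℤ) := htr ζ hU
    have hmin : w ∈ (px ⊔ py).minimalPrimes := by
      refine ⟨⟨inferInstance, sup_le hxw hyw⟩, fun v hv hvw => ?_⟩
      haveI := hv.1
      obtain ⟨a, ha, rfl⟩ := Div89.exists_point U v
      have h1 := hprop a ((Div89.specializes_iff_primeAt_le U ha hx).2 (le_sup_left.trans hv.2))
        ((Div89.specializes_iff_primeAt_le U ha hy).2 (le_sup_right.trans hv.2))
      by_cases h : a = ζ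
      · subst h; exact le_rfl
      · have := (hX.2.2 a ζ ((Div89.specializes_iff_primeAt_le U hU ha).2 hvw) h).1
        omega
    have hx' : δ x = (trdegQuot K px : ℤ) := htr x hx
    have hy' : δ y = (trdegQuot K py : ℤ) := htr y hy
    obtain ⟨l, -, hlK, hlreg, he, -⟩ := diag_chi px py w hmin (by omega) (X.presheaf.stalk ζ)
      (w.comap μ) rfl ((pullback f f).presheaf.stalk z)
    have hg := (genericPoint_specializes ζ).mem_open U.1.isOpen hU
    have hdiag : IntMult.stalkIdeal (IntMult.ptIdeal (pullback.diagonal f (genericPoint X))) z =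
        Ideal.ofList l := by
      rw [hlK, stalkIdeal_eq, Div89.stalkIdeal_eq _ V z hz, ptIdeal_ideal V _ (hD hg)]
      have hker : Div89.primeAt V (pullback.diagonal f (genericPoint X)) (hD hg) =
          (KaehlerDifferential.ideal K Γ(X, U.1)).map e.symm.toRingHom := by
        rw [show (KaehlerDifferential.ideal K Γ(X, U.1)).map e.symm.toRingHom =
          (KaehlerDifferential.ideal K Γ(X, U.1)).comap e.toRingHom from Ideal.map_comap_of_equiv e.symm]
        ext t
        rw [Ideal.mem_comap]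
        show _ ↔ μ (e t) = 0
        have h' := hPrdiag (genericPoint X) hg (e t)
        rw [hPrmem, e.symm_apply_apply, primeAt_genericPoint U hg, Ideal.mem_bot] at h'
        exact h'
      rw [hker, Ideal.map_map]
      rfl
    have hprod : IntMult.stalkIdeal (IntMult.ptIdeal p) z =
        (py.map iR).map (algebraMap (Γ(X, U.1) ⊗[K] Γ(X, U.1)) ((pullback f f).presheaf.stalk z)) ⊔
          (px.map iL).map (algebraMap (Γ(X, U.1) ⊗[K] Γ(X, U.1)) ((pullback f f).presheaf.stalk z)) := by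
      rw [stalkIdeal_eq, Div89.stalkIdeal_eq _ V z hz, ptIdeal_ideal V p hpV, hp,
        show P₀.comap e.toRingHom = P₀.map e.symm.toRingHom from (Ideal.map_comap_of_equiv e.symm).symm,
        Ideal.map_map, ← Ideal.map_sup, sup_comm]
      rfl
    haveI : IsNoetherianRing ((pullback f f).presheaf.stalk z) := by
      haveI : IsNoetherianRing (Γ(X, U.1) ⊗[K] Γ(X, U.1)) := Algebra.FiniteType.isNoetherianRing K _
      exact IsLocalization.isNoetherianRing (w.comap μ).primeCompl _ inferInstance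
    have hst : ∀ (a : X) (ha : a ∈ U.1), IntMult.stalkIdeal (IntMult.ptIdeal a) ζ =
        (Div89.primeAt U a ha).map (algebraMap Γ(X, U.1) (X.presheaf.stalk ζ)) := fun a ha => by
      rw [stalkIdeal_eq, Div89.stalkIdeal_eq _ U ζ hU, ptIdeal_ideal U _ ha]
      rfl
    rw [IntMult.mult, IntMult.mult, hst x hx, hst y hy, he, hdiag, hprod, LA18.chi_comm,
      chi_eq l (Koszul19.kR_of_isWeaklyRegular _ hlreg)]
  · -- uniqueness
    have hp'V : p' ∈ V.1 := hp'.mem_open V.1.isOpen hz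
    have hle : P₀ ≤ Pr p' hp'V := sup_le
      (Ideal.map_le_iff_le_comap.2 fun s hs => (hPrfst p' hp'V s).2 (by simp only [hp'x]; exact hs))
      (Ideal.map_le_iff_le_comap.2 fun s hs => (hPrsnd p' hp'V s).2 (by simp only [hp'y]; exact hs))
    haveI : (Pr p' hp'V).IsPrime := Ideal.IsPrime.comap _
    have hx' : δ x = (trdegQuot K px : ℤ) := htr x hx
    have hy' : δ y = (trdegQuot K py : ℤ) := htr y hy
    have h1 := htr₂ p' hp'V
    have heq := eq_of_le_of_trdegQuot_le (k := K) hle (by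
      rw [show trdegQuot K P₀ = _ from hP₀tr]; omega)
    refine Div89.primeAt_inj V hp'V hpV (Ideal.ext fun t => ?_)
    have h2 := hPrmem p' hp'V (e t)
    rw [e.symm_apply_apply] at h2
    rw [← h2, ← heq, hp, Ideal.mem_comap]
    rfl

/-- `pr_{1,*}([Δ] · (α × β)) = α · β` -/
theorem diag_interProd (δ : X → ℤ) (hX : Cyc.IsSetup X δ) (hδ : Cyc.DeltaCompat f δ (fun _ => 0))
    (n : ℤ) (hn : δ (genericPoint X) = n) (δ₂ : ↥(pullback f f) → ℤ)
    (h₂ : Cyc.DeltaCompat (pullback.fst f f ≫ f) δ₂ (fun _ => 0))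
    (h₂' : Cyc.DeltaCompat (pullback.fst f f) δ₂ δ) (r s : ℤ) (α β : AlgebraicCycle X ℤ)
    (hα : α ∈ Cyc.Zk X δ r) (hβ : β ∈ Cyc.Zk X δ s) (hprop : IntMult.IntersectProperly δ n ⇑α ⇑β)
    [QuasiCompact (pullback.fst f f)]
    (γ : AlgebraicCycle (pullback f f) ℤ)
    (hγ : ⇑γ = IntMult.interProd δ₂ (n + n) (Set.indicator {pullback.diagonal f (genericPoint X)} 1)
      (IntMult.extProd f f δ δ δ₂ ⇑α ⇑β)) :
    IntMult.IntersectProperly δ₂ (n + n) (Set.indicator {pullback.diagonal f (genericPoint X)} 1)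
        (IntMult.extProd f f δ δ δ₂ ⇑α ⇑β) ∧
      ⇑(AlgebraicCycle.map (pullback.fst f f) δ₂ δ γ) = IntMult.interProd δ n ⇑α ⇑β := by
  classical
  let g := genericPoint X
  have hfd : ∀ a : X, pullback.fst f f (pullback.diagonal f a) = a := fun a => by
    rw [← Scheme.Hom.comp_apply, pullback.diagonal_fst]; rfl
  have hsd : ∀ a : X, pullback.snd f f (pullback.diagonal f a) = a := fun a => by
    rw [← Scheme.Hom.comp_apply, pullback.diagonal_snd]; rfl
  have hres : ∀ a : X, Function.Surjective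
      ((pullback.fst f f).residueFieldMap (pullback.diagonal f a)).hom := fun a z => by
    haveI : IsPreimmersion (pullback.diagonal f ≫ pullback.fst f f) := by
      rw [pullback.diagonal_fst]; infer_instance
    obtain ⟨b, hb⟩ : ∃ b, ((pullback.diagonal f ≫ pullback.fst f f).residueFieldMap a).hom b =
        ((pullback.diagonal f).residueFieldMap a).hom z :=
      Cyc90.residueFieldMap_surjective (pullback.diagonal f ≫ pullback.fst f f) a _
    refine ⟨b, ((pullback.diagonal f).residueFieldMap a).hom.injective ?_⟩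
    rw [← hb, Scheme.residueFieldMap_comp]
    rfl
  have hδd : ∀ a : X, δ₂ (pullback.diagonal f a) = δ a := fun a =>
    (Cyc90.delta_eq_of_surjective (pullback.fst f f) h₂' _ (hres a)).trans (congrArg δ (hfd a))
  have hext : ∀ p, IntMult.extProd f f δ δ δ₂ ⇑α ⇑β p ≠ 0 → δ₂ p = r + s ∧
      δ₂ p = δ (pullback.fst f f p) + δ (pullback.snd f f p) ∧
      α (pullback.fst f f p) ≠ 0 ∧ β (pullback.snd f f p) ≠ 0 := by
    intro p hp
    simp only [IntMult.extProd] at hp
    split_ifs at hp with h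
    swap
    · exact absurd rfl hp
    have h1 : α (pullback.fst f f p) ≠ 0 := fun h0 => hp (by rw [h0, zero_mul, zero_mul])
    have h2 : β (pullback.snd f f p) ≠ 0 := fun h0 => hp (by rw [h0, mul_zero, zero_mul])
    have h3 : δ (pullback.fst f f p) = r := by_contra fun h3 => h1 (hα _ h3)
    have h4 : δ (pullback.snd f f p) = s := by_contra fun h4 => h2 (hβ _ h4)
    exact ⟨by omega, h, h1, h2⟩
  have hrange : ∀ q : ↥(pullback f f), pullback.diagonal f g ⤳ q → ∃ a : X, pullback.diagonal f a = q :=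
    fun q hq => hq.mem_closed (pullback.diagonal f).isClosedEmbedding.isClosed_range ⟨g, rfl⟩
  refine ⟨fun ξ η q hξ hη hξq hηq => ?_, funext fun ζ => ?_⟩
  · obtain rfl : ξ = pullback.diagonal f g := Set.mem_singleton_iff.1 (Set.mem_of_indicator_ne_zero hξ)
    obtain ⟨a, rfl⟩ := hrange q hξq
    obtain ⟨h1, h2, h3, h4⟩ := hext η hη
    have e1 := hηq.map (pullback.fst f f).continuous
    have e2 := hηq.map (pullback.snd f f).continuous
    rw [hfd] at e1
    rw [hsd] at e2
    have := hprop _ _ a h3 h4 e1 e2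
    rw [hδd, hδd, h2, hn]
    omega
  -- the pushforward
  have hmap : AlgebraicCycle.map (pullback.fst f f) δ₂ δ γ ζ = γ (pullback.diagonal f ζ) := by
    rw [Cyc90.map_apply_eq, finsum_mem_eq_sum_of_inter_support_eq (t := {pullback.diagonal f ζ})]
    · rw [Finset.sum_singleton, if_pos (by rw [hδd, hfd]),
        Cyc90.residueDegree_of_surjective _ _ (hres ζ), Nat.cast_one, mul_one]
    · ext q
      simp only [Set.mem_inter_iff, Set.mem_preimage, Set.mem_singleton_iff, Function.mem_support,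
        Finset.coe_singleton]
      constructor
      · rintro ⟨hq, hne⟩
        refine ⟨?_, hne⟩
        have hγ0 : γ q ≠ 0 := fun h0 => hne (by rw [h0, zero_mul])
        rw [hγ] at hγ0
        obtain ⟨t, ht⟩ : ∃ t : {t : ↥(pullback f f) × ↥(pullback f f) //
            t.1 ⤳ q ∧ t.2 ⤳ q ∧ δ₂ t.1 + δ₂ t.2 - (n + n) = δ₂ q},
            Set.indicator ({pullback.diagonal f g} : Set _) (1 : ↥(pullback f f) → ℤ) t.1.1 ≠ 0 := by
          by_contra hcon
          exact hγ0 (finsum_eq_zero_of_forall_eq_zero fun t => by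
            rw [not_not.1 fun h => hcon ⟨t, h⟩, zero_mul, zero_mul])
        obtain ⟨a, rfl⟩ := hrange q (Set.mem_singleton_iff.1 (Set.mem_of_indicator_ne_zero ht) ▸ t.2.1)
        rw [hfd] at hq
        rw [hq]
      · rintro ⟨rfl, hne⟩
        exact ⟨hfd ζ, hne⟩
  rw [hmap, hγ]
  set z := pullback.diagonal f ζ with hz
  have hspec : pullback.diagonal f g ⤳ z := (genericPoint_specializes ζ).map (pullback.diagonal f).continuous
  by_cases hdeg : δ ζ = r + s - n
  swap
  · rw [IntMult.interProd, IntMult.interProd, finsum_eq_zero_of_forall_eq_zero fun t => ?_,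
      finsum_eq_zero_of_forall_eq_zero fun t => ?_]
    · by_cases h1 : α t.1.1 = 0
      · rw [h1, zero_mul, zero_mul]
      by_cases h2 : β t.1.2 = 0
      · rw [h2, mul_zero, zero_mul]
      have h3 : δ t.1.1 = r := by_contra fun h3 => h1 (hα _ h3)
      have h4 : δ t.1.2 = s := by_contra fun h4 => h2 (hβ _ h4)
      exact absurd (by have := t.2.2.2; omega) hdeg
    · by_cases h1 : Set.indicator ({pullback.diagonal f g} : Set _) (1 : ↥(pullback f f) → ℤ) t.1.1 = 0
      · rw [h1, zero_mul, zero_mul]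
      by_cases h2 : IntMult.extProd f f δ δ δ₂ ⇑α ⇑β t.1.2 = 0
      · rw [h2, mul_zero, zero_mul]
      have h3 := t.2.2.2
      rw [Set.mem_singleton_iff.1 (Set.mem_of_indicator_ne_zero h1), hδd g, (hext _ h2).1] at h3
      have h5 : δ₂ z = δ ζ := hδd ζ
      have h6 : δ g = n := hn
      exact absurd (by omega) hdeg
  have hfin : ∀ γ : AlgebraicCycle X ℤ, {a | a ⤳ ζ ∧ γ a ≠ 0}.Finite := fun γ => by
    obtain ⟨t, ht, hfin⟩ := γ.supportLocallyFiniteWithinDomain' ζ trivial
    obtain ⟨o, hot, ho, hyo⟩ := mem_nhds_iff.1 ht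
    exact hfin.subset fun a ha => ⟨hot (ha.1.mem_open ho hyo), ha.2⟩
  let A := (hfin α).toFinset
  let B := (hfin β).toFinset
  have hA : ∀ a ∈ A, a ⤳ ζ ∧ α a ≠ 0 ∧ δ a = r := fun a ha => by
    obtain ⟨h1, h2⟩ := (Set.Finite.mem_toFinset _).1 ha
    exact ⟨h1, h2, by_contra fun h3 => h2 (hα a h3)⟩
  have hB : ∀ b ∈ B, b ⤳ ζ ∧ β b ≠ 0 ∧ δ b = s := fun b hb => by
    obtain ⟨h1, h2⟩ := (Set.Finite.mem_toFinset _).1 hb
    exact ⟨h1, h2, by_contra fun h3 => h2 (hβ b h3)⟩
  have hpd : ∀ t : {a // a ∈ A} × {b // b ∈ B}, _ := fun t =>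
    pair_data X f δ hδ hX δ₂ h₂ n hn t.1.1 t.2.1 ζ (hA _ t.1.2).1 (hB _ t.2.2).1
      (by have := (hA _ t.1.2).2.2; have := (hB _ t.2.2).2.2; omega)
      (fun a ha hb => hprop _ _ a (hA _ t.1.2).2.1 (hB _ t.2.2).2.1 ha hb)
  choose pr h1 h2 h3 h4 h5 h6 h7 using hpd
  have hprinj : Function.Injective pr := fun t t' h =>
    Prod.ext (Subtype.ext ((h2 t).symm.trans ((congrArg _ h).trans (h2 t'))))
      (Subtype.ext ((h3 t).symm.trans ((congrArg _ h).trans (h3 t'))))
  rw [interProd_eq_sum δ₂ (n + n) _ _ z {pullback.diagonal f g} (Finset.univ.image pr)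
      (fun a ha => (Finset.mem_singleton.1 ha) ▸ hspec)
      (fun a ha => by obtain ⟨t, -, rfl⟩ := Finset.mem_image.1 ha; exact h1 t)
      (fun a _ ha => Finset.mem_singleton.2 (Set.mem_singleton_iff.1 (Set.mem_of_indicator_ne_zero ha)))
      (fun p hpz hp => ?_),
    interProd_eq_sum δ n _ _ ζ A B (fun a ha => (hA a ha).1) (fun b hb => (hB b hb).1)
      (fun a ha h => (Set.Finite.mem_toFinset _).2 ⟨ha, h⟩) (fun a ha h => (Set.Finite.mem_toFinset _).2 ⟨ha, h⟩),
    Finset.sum_singleton, Finset.sum_image fun a _ b _ h => hprinj h, Fintype.sum_prod_type,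
    ← Finset.sum_coe_sort A]
  swap
  · obtain ⟨e1, e2, e3, e4⟩ := hext p hp
    have f1 := hpz.map (pullback.fst f f).continuous
    have f2 := hpz.map (pullback.snd f f).continuous
    rw [hfd] at f1
    rw [hsd] at f2
    refine Finset.mem_image.2 ⟨(⟨_, (Set.Finite.mem_toFinset _).2 ⟨f1, e3⟩⟩,
      ⟨_, (Set.Finite.mem_toFinset _).2 ⟨f2, e4⟩⟩), Finset.mem_univ _, ?_⟩
    exact (h7 _ p hpz rfl rfl e2).symm
  refine Finset.sum_congr rfl fun a _ => ?_
  rw [← Finset.sum_coe_sort B]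
  refine Finset.sum_congr rfl fun b _ => ?_
  have hd := h4 (a, b)
  have ha := (hA _ a.2).2.2
  have hb := (hB _ b.2).2.2
  have hdg : δ₂ (pullback.diagonal f g) = n := (hδd g).trans hn
  have hdz : δ₂ z = δ ζ := hδd ζ
  dsimp only at hd
  rw [if_pos (by omega), if_pos (by omega), Set.indicator_of_mem (Set.mem_singleton _), h6 (a, b)]
  simp only [IntMult.extProd]
  rw [if_pos (by rw [h4 (a, b), h2 (a, b), h3 (a, b)]), h5 (a, b), h2 (a, b), h3 (a, b)]
  simp

end Groth.Agent.IntMult12
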