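import Groth.Agent.IntMult12.P1Inter

/-!
# Components of the intersection with a section of `P¹_X`
-/

set_option autoImplicit false
set_option linter.style.haveILetI false
set_option linter.unusedSectionVars false

universe u

open CategoryTheory CategoryTheory.Limits AlgebraicGeometry IsLocalRing

namespace Groth.Agent.IntMult12

open Cyc90.P1L

variable {X : Scheme.{u}} (δ : X → ℤ) (δP : ↥(CohB1.ProjSpaceOver 1 X) → ℤ)
  (hX : Cyc.IsSetup X δ) (hP : Cyc.DeltaCompat (CohB1.ProjSpaceOver.toBase 1 X) δP δ)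

include hX hP in
/-- Components of the intersection of a subvariety of `P¹_X` with a section have codimension one. -/
theorem exists_component (i : Fin (1 + 1)) (ξ : ↥(CohB1.ProjSpaceOver 1 X))
    (hni : ξ ∉ Set.range (P1.sect X i)) (x : X) (hsp : ξ ⤳ P1.sect X i x) :
    ∃ y : X, ξ ⤳ P1.sect X i y ∧ y ⤳ x ∧ δ y = δP ξ - 1 := by
  classical
  obtain ⟨hPs, hW⟩ := isSetup_closed (Cyc90.clι ξ) hP hX
  haveI := hW.1
  obtain ⟨w, hw⟩ : P1.sect X i x ∈ Set.range (Cyc90.clι ξ) :=
    (Cyc90.range_clι ξ).ge (specializes_iff_mem_closure.1 hsp)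
  have hwr : Cyc90.clι ξ w ∈ Set.range (P1.sect X i) := ⟨x, hw.symm⟩
  have hwV := mem_V_of_mem_range (Cyc90.clι ξ) i w hwr
  let R : Type u := (Cyc90.cl ξ).presheaf.stalk w
  let t : (Cyc90.cl ξ).presheaf.stalk w := coW (Cyc90.clι ξ) i w hwV
  have htu : ¬ IsUnit t := fun h => (isUnit_coW_iff _ i w hwV).1 h hwr
  obtain ⟨p, hp⟩ := (Ideal.span {t}).nonempty_minimalPrimes
    (fun h => htu (Ideal.span_singleton_eq_top.1 h))
  haveI := hp.1.1
  let pp : PrimeSpectrum ((Cyc90.cl ξ).presheaf.stalk w) := ⟨p, hp.1.1⟩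
  let z := ((Cyc90.cl ξ).fromSpecStalk w).base pp
  have hzw : z ⤳ w := Cyc90.fromSpecStalk_specializes pp
  have hzV := hzw.map (Cyc90.clι ξ).continuous |>.mem_open (V X i).2 hwV
  have hgp : Cyc90.genPrime hzw = pp := Cyc90.genPrime_fromSpecStalk pp
  have hcoz : ((Cyc90.cl ξ).presheaf.stalkSpecializes hzw).hom t = coW (Cyc90.clι ξ) i z hzV :=
    TopCat.Presheaf.germ_stalkSpecializes_apply (Cyc90.cl ξ).presheaf hwV hzw _
  have hzr : Cyc90.clι ξ z ∈ Set.range (P1.sect X i) := by
    by_contra h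
    have hu := (isUnit_coW_iff _ i z hzV).2 h
    have htp : t ∈ (Cyc90.genPrime hzw).asIdeal := hgp.symm ▸ hp.1.2 (Ideal.mem_span_singleton_self t)
    change ((Cyc90.cl ξ).presheaf.stalkSpecializes hzw).hom t ∈
      IsLocalRing.maximalIdeal ((Cyc90.cl ξ).presheaf.stalk z) at htp
    rw [hcoz] at htp
    exact (IsLocalRing.mem_maximalIdeal _).1 htp hu
  have hzne : genericPoint (Cyc90.cl ξ) ≠ z := fun h => hni (by
    have h' := congrArg (Cyc90.clι ξ) h
    rw [Cyc90.clι_genericPoint] at h'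
    rw [h']; exact hzr)
  have hmin : ∀ q : Ideal ((Cyc90.cl ξ).presheaf.stalk w), q.IsPrime → q ≤ p → q = ⊥ ∨ q = p := by
    intro q hq hqp
    by_cases he : q = p
    · exact Or.inr he
    left
    have h1 : p.height ≤ 1 := Ideal.height_le_one_of_isPrincipal_of_mem_minimalPrimes _ p hp
    have h2 : q.height < p.height := Ideal.height_strict_mono_of_isPrime (lt_of_le_of_ne hqp he)
    have h3 : q.height = 0 := by
      rcases ENat.lt_one_iff_eq_zero.1 (lt_of_lt_of_le h2 h1) with h
      exact h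
    rw [Ideal.height_eq_zero_iff, IsDomain.minimalPrimes_eq_singleton_bot] at h3
    exact h3
  have hd := (hW.2.2 _ _ (genericPoint_specializes z) hzne).2 fun y hy hyz => by
    have hyw := hyz.trans hzw
    have hle : (Cyc90.genPrime hyw).asIdeal ≤ p := by
      have h := (Cyc90.genPrime_le_iff hyw hzw).2 hyz
      rwa [hgp] at h
    rcases hmin _ (Cyc90.genPrime hyw).2 hle with h | h
    · left
      have hgw : genericPoint (Cyc90.cl ξ) ⤳ w := genericPoint_specializes w
      exact ((((Cyc90.genPrime_le_iff hyw hgw).1 (h.le.trans bot_le))).antisymm (genericPoint_specializes y)).eq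
    · right
      exact (Cyc90.genPrime_eq_iff hyw hzw).1 (PrimeSpectrum.ext (h.trans (congrArg PrimeSpectrum.asIdeal hgp).symm))
  dsimp only at hd
  obtain ⟨y, hy⟩ := hzr
  refine ⟨y, ?_, ?_, ?_⟩
  · rw [hy]
    exact specializes_iff_mem_closure.2 ((Cyc90.range_clι ξ).le ⟨z, rfl⟩)
  · have h := (hzw.map (Cyc90.clι ξ).continuous)
    rw [← hy, hw] at h
    exact (P1.sect X i).isClosedEmbedding.isInducing.specializes_iff.1 h
  · rw [Cyc90.clι_genericPoint, ← hy, delta_sect hP] at hd
    omega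

end Groth.Agent.IntMult12
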