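import Groth.Agent.IntMult12.P1Inter
import Groth.Agent.Cyc90.LimitPts

/-!
# Products with the two fibres of `P¹_X` push to rationally equivalent cycles
-/

set_option autoImplicit false
set_option linter.style.haveILetI false
set_option linter.unusedSectionVars false

universe u

open CategoryTheory CategoryTheory.Limits AlgebraicGeometry

attribute [local instance] HasDerivedCategory.standard

namespace Groth.Agent.IntMult12

open Cyc90.P1L

variable {K : Type u} [Field K] [IsAlgClosed K] {X : Scheme.{u}} (f : X ⟶ Spec (CommRingCat.of K))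
  [Smooth f] [IsSeparated f] [QuasiCompact f] [IsIntegral X]
  (δ : X → ℤ) (δP : ↥(CohB1.ProjSpaceOver 1 X) → ℤ)
  (hX : Cyc.IsSetup X δ) (hδ : Cyc.DeltaCompat f δ (fun _ => 0))
  (hP : Cyc.DeltaCompat (CohB1.ProjSpaceOver.toBase 1 X) δP δ)

include hX hδ hP in
open Classical in
/-- `pr_*(α · (X × 0) − α · (X × ∞)) ∼ 0`. -/
theorem ratEquivZero_p1 [QuasiCompact (CohB1.ProjSpaceOver.toBase 1 X)] (n : ℤ)
    (hn : δ (genericPoint X) = n) (k : ℤ) (α : AlgebraicCycle (CohB1.ProjSpaceOver 1 X) ℤ)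
    (hα : α ∈ Cyc.Zk _ δP (k + 1))
    (h : ∀ i : Fin (1 + 1), IntMult.IntersectProperly δP (n + 1) ⇑α
      (Set.indicator {P1.sect X i (genericPoint X)} 1))
    (γ : AlgebraicCycle (CohB1.ProjSpaceOver 1 X) ℤ)
    (hγ : ⇑γ = IntMult.interProd δP (n + 1) ⇑α (Set.indicator {P1.sect X 0 (genericPoint X)} 1) -
      IntMult.interProd δP (n + 1) ⇑α (Set.indicator {P1.sect X 1 (genericPoint X)} 1)) :
    Cyc.RatEquivZero δ k (AlgebraicCycle.map (CohB1.ProjSpaceOver.toBase 1 X) δP δ γ) := by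
  classical
  haveI := hX.1
  haveI : CompactSpace X := QuasiCompact.compactSpace_of_compactSpace f
  haveI : CompactSpace ↥(CohB1.ProjSpaceOver 1 X) :=
    QuasiCompact.compactSpace_of_compactSpace (CohB1.ProjSpaceOver.toBase 1 X)
  have hfin := Cyc90.finite_support_of_compactSpace α
  let I := hfin.toFinset
  have hI : ∀ ξ ∈ I, δP ξ = k + 1 ∧ ∀ i : Fin (1 + 1), ξ ∉ Set.range (P1.sect X i) := by
    intro ξ hξ
    have h0 : α ξ ≠ 0 := (Set.Finite.mem_toFinset _).1 hξ
    have hd : δP ξ = k + 1 := by_contra fun hd => h0 (hα ξ hd)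
    refine ⟨hd, fun i ⟨x, hx⟩ => ?_⟩
    have h1 := h i ξ (P1.sect X i (genericPoint X)) ξ h0 (by simp) (specializes_refl _)
      (hx ▸ (genericPoint_specializes x).map (P1.sect X i).continuous)
    rw [delta_sect hP, hn, hd] at h1
    omega
  have hdecomp : ∀ (i : Fin (1 + 1)) (p : ↥(CohB1.ProjSpaceOver 1 X)),
      IntMult.interProd δP (n + 1) ⇑α (Set.indicator {P1.sect X i (genericPoint X)} 1) p =
        ∑ ξ ∈ I, α ξ * IntMult.interProd δP (n + 1) (Set.indicator {ξ} 1)
          (Set.indicator {P1.sect X i (genericPoint X)} 1) p := fun i p => by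
    haveI : IsLocallyNoetherian (CohB1.ProjSpaceOver 1 X) :=
      (Cyc90.isSetup_of_lft (CohB1.ProjSpaceOver.toBase 1 X) δ hX δP hP).1
    rw [interProd_bilinear δP (n + 1) _ _ p I ({()} : Finset Unit) α (fun _ => 1)
      (fun ξ => Set.indicator {ξ} 1) (fun _ => Set.indicator {P1.sect X i (genericPoint X)} 1)
      (fun ξ _ => (Set.finite_singleton _).subset fun z hz => Set.mem_of_indicator_ne_zero hz.2)
      (fun _ _ => (Set.finite_singleton _).subset fun z hz => Set.mem_of_indicator_ne_zero hz.2)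
      (fun z _ => ?_) (fun z _ => by simp)]
    · simp
    · simp only [Set.indicator_apply, Set.mem_singleton_iff, Pi.one_apply, mul_ite, mul_one, mul_zero,
        Finset.sum_ite_eq, I, Set.Finite.mem_toFinset, Function.mem_support]
      split_ifs with h0
      · rfl
      · exact not_not.1 h0
  have hdiv : ∀ ξ ∈ I, ∃ D : AlgebraicCycle X ℤ, Cyc.RatEquivZero δ k D ∧ ∀ x : X, D x =
      Cyc.subschemeFun δ k (pullback.snd (Cyc90.clι ξ) (P1.sect X 0)) x -
        Cyc.subschemeFun δ k (pullback.snd (Cyc90.clι ξ) (P1.sect X 1)) x := by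
    intro ξ hξ
    obtain ⟨hd, hr⟩ := hI ξ hξ
    have hV := mem_V_generic (Cyc90.clι ξ) (by rw [Cyc90.clι_genericPoint]; exact hr 1)
    have h0 : Cyc90.clι ξ (genericPoint (Cyc90.cl ξ)) ∉ Set.range (P1.sect X 0) := by
      rw [Cyc90.clι_genericPoint]; exact hr 0
    obtain ⟨-, hWs⟩ := isSetup_closed (Cyc90.clι ξ) hP hX
    have hk : δP (Cyc90.clι ξ (genericPoint (Cyc90.cl ξ))) = k + 1 := by rw [Cyc90.clι_genericPoint]; exact hd
    let D := Cyc90.divCycle hWs (genericPoint (Cyc90.cl ξ)) (tfun (Cyc90.clι ξ) hV)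
      (tfun_ne_zero (Cyc90.clι ξ) hV h0)
    have hD : Cyc.RatEquivZero (fun w => δP (Cyc90.clι ξ w)) k D :=
      ⟨PUnit, fun _ => genericPoint (Cyc90.cl ξ), fun _ => tfun (Cyc90.clι ξ) hV, fun _ => hk,
        fun _ => tfun_ne_zero (Cyc90.clι ξ) hV h0,
        fun w => ⟨Set.univ, isOpen_univ, trivial, Set.toFinite _⟩,
        fun w => (finsum_unique (fun _ : PUnit => Cyc.divFun (fun w => δP (Cyc90.clι ξ w))
          (genericPoint (Cyc90.cl ξ)) (tfun (Cyc90.clι ξ) hV) w)).symm⟩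
    exact ⟨_, Cyc90.ratEquivZero_map hWs hX (Cyc90.clι ξ ≫ CohB1.ProjSpaceOver.toBase 1 X)
      (deltaCompat_toBase (Cyc90.clι ξ) hP) hD,
      fun x => (map_div_tfun (Cyc90.clι ξ) hP hX k hk hV h0 x).symm⟩
  choose! D hD hDv using hdiv
  have hval : ∀ x : X, AlgebraicCycle.map (CohB1.ProjSpaceOver.toBase 1 X) δP δ γ x =
      γ (P1.sect X 0 x) + γ (P1.sect X 1 x) := fun x => by
    have hne : P1.sect X 0 x ≠ P1.sect X 1 x := fun he =>
      notMem_range_of_mem 0 _ ⟨x, rfl⟩ ⟨x, he.symm⟩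
    rw [Cyc90.map_apply_eq, finsum_mem_eq_sum_of_inter_support_eq _
      (t := {P1.sect X 0 x, P1.sect X 1 x}) ?_, Finset.sum_pair hne]
    · have hc : ∀ i : Fin (1 + 1), (if δP (P1.sect X i x) = δ (CohB1.ProjSpaceOver.toBase 1 X (P1.sect X i x))
          then ((CohB1.ProjSpaceOver.toBase 1 X).residueDegree (P1.sect X i x) : ℤ) else 0) = 1 := fun i => by
        rw [if_pos (by rw [delta_sect hP, toBase_sect]),
          Cyc90.residueDegree_of_surjective _ _ (surjective_residue_toBase i x)]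
        rfl
      rw [hc, hc, mul_one, mul_one]
    · ext p
      simp only [Set.mem_inter_iff, Set.mem_preimage, Set.mem_singleton_iff, Function.mem_support,
        Finset.coe_insert, Finset.coe_singleton, Set.mem_insert_iff]
      constructor
      · rintro ⟨hpx, hp0⟩
        refine ⟨?_, hp0⟩
        have hex : ∀ i, p ∈ Set.range (P1.sect X i) → p = P1.sect X i x := fun i ⟨y, hy⟩ => by
          rw [← hy, toBase_sect] at hpx
          rw [← hy, hpx]
        by_contra hp
        rw [not_or] at hp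
        refine hp0 ?_
        rw [show γ p = 0 from ?_, zero_mul]
        rw [congrFun hγ p, Pi.sub_apply, hdecomp, hdecomp]
        rw [Finset.sum_eq_zero fun ξ hξ => by
            rw [(interProd_sect f δ δP hX hδ hP n hn 0 k ξ (hI ξ hξ).1 ((hI ξ hξ).2 0)).2 p
              (fun hr => hp.1 (hex 0 hr)), mul_zero],
          Finset.sum_eq_zero fun ξ hξ => by
            rw [(interProd_sect f δ δP hX hδ hP n hn 1 k ξ (hI ξ hξ).1 ((hI ξ hξ).2 1)).2 p
              (fun hr => hp.2 (hex 1 hr)), mul_zero], sub_zero]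
      · rintro ⟨h1, hp0⟩
        refine ⟨?_, hp0⟩
        rcases h1 with rfl | rfl <;> exact toBase_sect _ x
  have heq : AlgebraicCycle.map (CohB1.ProjSpaceOver.toBase 1 X) δP δ γ = ∑ ξ ∈ I, α ξ • D ξ := by
    refine DFunLike.ext _ _ fun x => ?_
    have happ : ∀ (T : Finset ↥(CohB1.ProjSpaceOver 1 X)),
        (∑ w ∈ T, α w • D w : AlgebraicCycle X ℤ) x = ∑ w ∈ T, α w * D w x := by
      intro T
      induction T using Finset.induction with
      | empty => rfl
      | @insert a t ha hT => rw [Finset.sum_insert ha, Finset.sum_insert ha, ← hT]; rfl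
    rw [hval, happ, congrFun hγ, congrFun hγ, Pi.sub_apply, Pi.sub_apply, hdecomp, hdecomp, hdecomp, hdecomp,
      ← Finset.sum_sub_distrib, ← Finset.sum_sub_distrib, ← Finset.sum_add_distrib]
    refine Finset.sum_congr rfl fun ξ hξ => ?_
    rw [hDv ξ hξ x,
      (interProd_sect f δ δP hX hδ hP n hn 0 k ξ (hI ξ hξ).1 ((hI ξ hξ).2 0)).1 x,
      (interProd_sect f δ δP hX hδ hP n hn 1 k ξ (hI ξ hξ).1 ((hI ξ hξ).2 1)).1 x,
      (interProd_sect f δ δP hX hδ hP n hn 1 k ξ (hI ξ hξ).1 ((hI ξ hξ).2 1)).2 _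
        (notMem_range_of_mem 0 _ ⟨x, rfl⟩),
      (interProd_sect f δ δP hX hδ hP n hn 0 k ξ (hI ξ hξ).1 ((hI ξ hξ).2 0)).2 (P1.sect X 1 x)
        (fun hr => notMem_range_of_mem 0 _ hr ⟨x, rfl⟩)]
    ring
  rw [heq]
  exact ratEquivZero_sum hX I _ D hD

end Groth.Agent.IntMult12
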