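import Groth.Agent.IntMult12.P1Vert
import Groth.Agent.IntMult12.P1Rat
import Groth.Agent.IntMult12.Assoc
import Groth.Agent.IntMult12.LenOne
import Groth.Agent.S6493
import Groth.Agent.Cyc90.MayerVietoris

/-!
# The two fibres of a family, multiplied with a fixed subvariety
-/

set_option autoImplicit false
set_option linter.style.haveILetI false
set_option linter.unusedSectionVars false

universe u

open CategoryTheory CategoryTheory.Limits AlgebraicGeometry IsLocalRing

attribute [local instance] HasDerivedCategory.standard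

namespace Groth.Agent.IntMult12

open Cyc90.P1L

theorem interProd_ne_zero {X : Scheme.{u}} {δ : X → ℤ} {n : ℤ} {α β : X → ℤ} {z : X}
    (h : IntMult.interProd δ n α β z ≠ 0) :
    ∃ p q : X, α p ≠ 0 ∧ β q ≠ 0 ∧ p ⤳ z ∧ q ⤳ z ∧ δ p + δ q - n = δ z := by
  obtain ⟨t, ht⟩ : ∃ t : {p : X × X // p.1 ⤳ z ∧ p.2 ⤳ z ∧ δ p.1 + δ p.2 - n = δ z},
      α t.1.1 * β t.1.2 * IntMult.mult (IntMult.ptIdeal t.1.1) (IntMult.ptIdeal t.1.2) z ≠ 0 := by
    by_contra hc
    push Not at hc
    exact h (finsum_eq_zero_of_forall_eq_zero hc)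
  exact ⟨t.1.1, t.1.2, left_ne_zero_of_mul (left_ne_zero_of_mul ht),
    right_ne_zero_of_mul (left_ne_zero_of_mul ht), t.2.1, t.2.2.1, t.2.2.2⟩

theorem interProd_congr_left {X : Scheme.{u}} (δ : X → ℤ) (n : ℤ) {α α' : X → ℤ} (β : X → ℤ) {z : X}
    (h : ∀ p, p ⤳ z → α p = α' p) : IntMult.interProd δ n α β z = IntMult.interProd δ n α' β z :=
  finsum_congr fun t => by rw [h _ t.2.1]

variable {X : Scheme.{u}} (δ : X → ℤ) (δP : ↥(CohB1.ProjSpaceOver 1 X) → ℤ)
  (hX : Cyc.IsSetup X δ) (hP : Cyc.DeltaCompat (CohB1.ProjSpaceOver.toBase 1 X) δP δ)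

include hX hP in
/-- The pushforward of a cycle supported on the two sections. -/
theorem map_toBase_sect [QuasiCompact (CohB1.ProjSpaceOver.toBase 1 X)]
    (γ : AlgebraicCycle (CohB1.ProjSpaceOver 1 X) ℤ)
    (h : ∀ p, γ p ≠ 0 → p ∈ Set.range (P1.sect X 0) ∪ Set.range (P1.sect X 1)) (x : X) :
    AlgebraicCycle.map (CohB1.ProjSpaceOver.toBase 1 X) δP δ γ x =
      γ (P1.sect X 0 x) + γ (P1.sect X 1 x) := by
  classical
  have hne : P1.sect X 0 x ≠ P1.sect X 1 x := fun he =>
    notMem_range_of_mem 0 _ ⟨x, rfl⟩ ⟨x, he.symm⟩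
  rw [Cyc90.map_apply_eq, finsum_mem_eq_sum_of_inter_support_eq _
    (t := {P1.sect X 0 x, P1.sect X 1 x}) ?_, Finset.sum_pair hne]
  · have hc : ∀ i : Fin (1 + 1), (if δP (P1.sect X i x) = δ (CohB1.ProjSpaceOver.toBase 1 X (P1.sect X i x))
        then ((CohB1.ProjSpaceOver.toBase 1 X).residueDegree (P1.sect X i x) : ℤ) else 0) = 1 := fun i => by
      rw [if_pos (by rw [delta_sect hP, toBase_sect]),
        Cyc90.residueDegree_of_surjective _ _ (surjective_residue_toBase i x)]
      rfl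
    rw [hc, hc, mul_one, mul_one]
  · ext p
    simp only [Set.mem_inter_iff, Set.mem_preimage, Set.mem_singleton_iff, Function.mem_support,
      Finset.coe_insert, Finset.coe_singleton, Set.mem_insert_iff]
    constructor
    · rintro ⟨hpx, hp0⟩
      refine ⟨?_, hp0⟩
      rcases h p (left_ne_zero_of_mul hp0) with ⟨y, rfl⟩ | ⟨y, rfl⟩
      · rw [toBase_sect] at hpx; exact Or.inl (by rw [hpx])
      · rw [toBase_sect] at hpx; exact Or.inr (by rw [hpx])
    · rintro ⟨h1, hp0⟩
      refine ⟨?_, hp0⟩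
      rcases h1 with rfl | rfl <;> exact toBase_sect _ x

variable {K : Type u} [Field K] [IsAlgClosed K] (f : X ⟶ Spec (CommRingCat.of K))
  [Smooth f] [IsSeparated f] [QuasiCompact f] [IsIntegral X] (hδ : Cyc.DeltaCompat f δ (fun _ => 0))

include f in
theorem notMem_range_of_dominant {W : Scheme.{u}} [IsIntegral W] (ι : W ⟶ CohB1.ProjSpaceOver 1 X)
    (hdom : ∀ U : (CohB1.ProjSpaceOver 1 (Spec (CommRingCat.of K))).Opens,
      (U : Set ↥(CohB1.ProjSpaceOver 1 (Spec (CommRingCat.of K)))).Nonempty → ∃ w : W, (ι ≫ P1.toP1 f) w ∈ U)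
    (i : Fin (1 + 1)) : ι (genericPoint W) ∉ Set.range (P1.sect X i) := by
  intro hr
  let S := Spec (CommRingCat.of K)
  let U : (CohB1.ProjSpaceOver 1 S).Opens :=
    ⟨(Set.range (P1.sect S i))ᶜ, (P1.sect S i).isClosedEmbedding.isClosed_range.isOpen_compl⟩
  obtain ⟨w, hw⟩ := hdom U ⟨P1.sect S (oth i) (IsLocalRing.closedPoint K),
    fun h => notMem_range_of_mem i _ h ⟨_, rfl⟩⟩
  refine hw ?_
  obtain ⟨x, hx⟩ := ((genericPoint_specializes w).map ι.continuous).mem_closed
    (P1.sect X i).isClosedEmbedding.isClosed_range hr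
  refine ⟨f x, ?_⟩
  have hcomm : P1.sect X i ≫ P1.toP1 f = f ≫ P1.sect S i := by
    have e1 : P1.toP1 f ≫ pr S = pr X := (pullback.lift_fst _ _ _).trans (Category.comp_id _)
    have e2 : P1.toP1 f ≫ CohB1.ProjSpaceOver.toBase 1 S = CohB1.ProjSpaceOver.toBase 1 X ≫ f :=
      pullback.lift_snd _ _ _
    refine pullback.hom_ext ?_ ?_
    · change (P1.sect X i ≫ P1.toP1 f) ≫ pr S = (f ≫ P1.sect S i) ≫ pr S
      rw [Category.assoc, e1, Category.assoc, sect_pr, sect_pr, ← Category.assoc]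
      exact congrArg (· ≫ Cyc90.P1L.pt i) (specULiftZIsTerminal.hom_ext _ _)
    · change (P1.sect X i ≫ P1.toP1 f) ≫ CohB1.ProjSpaceOver.toBase 1 S =
        (f ≫ P1.sect S i) ≫ CohB1.ProjSpaceOver.toBase 1 S
      rw [Category.assoc, e2, Category.assoc, sect_toBase, ← Category.assoc, sect_toBase, Category.id_comp,
        Category.comp_id]
  rw [← Scheme.Hom.comp_apply, ← hcomm, Scheme.Hom.comp_apply, hx]
  rfl

include hX hδ hP in
open Classical in
/-- Near a section, `(W · (V × P¹)) · (X × a) = (V · W_a)`. -/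
theorem interProd_swap_sect (n : ℤ) (hn : δ (genericPoint X) = n) (r s : ℤ) {W : Scheme.{u}} [IsIntegral W]
    (ι : W ⟶ CohB1.ProjSpaceOver 1 X) [IsClosedImmersion ι]
    (hW : δP (ι (genericPoint W)) = s + 1) (v : X) (hv : δ v = r) (b : ↥(CohB1.ProjSpaceOver 1 X))
    (hbd : δP b = δ v + 1) (hTb : CohB1.ProjSpaceOver.toBase 1 X b = v)
    (hbfun : Cyc.pullFun (CohB1.ProjSpaceOver.toBase 1 X) δP δ 1 (Set.indicator {v} 1) = Set.indicator {b} 1)
    (i : Fin (1 + 1)) (hni : ι (genericPoint W) ∉ Set.range (P1.sect X i))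
    (hint : IntMult.IntersectProperly δ n (Set.indicator {v} 1)
      (Cyc.subschemeFun δ s (pullback.snd ι (P1.sect X i)))) :
    (∀ x η, ι (genericPoint W) ⤳ η → b ⤳ η → η ⤳ P1.sect X i x → δP η ≤ r + s + 1 - n) ∧
      (∀ η, ι (genericPoint W) ⤳ η → b ⤳ η → P1.sect X i (genericPoint X) ⤳ η → δP η ≤ r + s - n) ∧
      ∀ x, IntMult.interProd δP (n + 1)
        (IntMult.interProd δP (n + 1) (Set.indicator {ι (genericPoint W)} 1) (Set.indicator {b} 1))
        (Set.indicator {P1.sect X i (genericPoint X)} 1) (P1.sect X i x) =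
          IntMult.interProd δ n (Set.indicator {v} 1) (Cyc.subschemeFun δ s (pullback.snd ι (P1.sect X i))) x := by
  classical
  haveI := hX.1
  haveI := smooth_toBase f
  haveI := isIntegral_p1 f
  haveI : IsProper (CohB1.ProjSpaceOver.toBase 1 X) := isProper_toBase X
  set T := CohB1.ProjSpaceOver.toBase 1 X with hT
  have hPs : Cyc.IsSetup (CohB1.ProjSpaceOver 1 X) δP := Cyc90.isSetup_of_lft T δ hX δP hP
  haveI := hPs.1
  have hng := delta_genericPoint_p1 δ hX δP hP n hn
  set a := ι (genericPoint W) with ha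
  let c : X → ↥(CohB1.ProjSpaceOver 1 X) := P1.sect X i
  let S : X → ℤ := Cyc.subschemeFun δ s (pullback.snd ι (P1.sect X i))
  -- the fibres
  have hrange : ∀ y, a ⤳ P1.sect X i y → ∃ t : ↥(pullback ι (P1.sect X i)),
      pullback.snd ι (P1.sect X i) t = y := fun y h => by
    obtain ⟨w, hw⟩ := h.mem_closed ι.isClosedEmbedding.isClosed_range ⟨_, rfl⟩
    obtain ⟨t, -, ht⟩ := Scheme.Pullback.exists_preimage_pullback w y hw
    exact ⟨t, ht⟩
  have hsle : ∀ (t : ↥(pullback ι (P1.sect X i))),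
      a ⤳ P1.sect X i (pullback.snd ι (P1.sect X i) t) ∧ δ (pullback.snd ι (P1.sect X i) t) ≤ s := fun t => by
    have hw : ι (pullback.fst ι (P1.sect X i) t) = P1.sect X i (pullback.snd ι (P1.sect X i) t) :=
      congrArg (fun k : pullback ι (P1.sect X i) ⟶ _ => k t) pullback.condition
    have h1 : a ⤳ P1.sect X i (pullback.snd ι (P1.sect X i) t) :=
      hw ▸ (genericPoint_specializes _).map ι.continuous
    refine ⟨h1, ?_⟩
    have h2 := Cyc90.delta_lt hPs.2.2 h1 (fun h => hni ⟨_, h.symm⟩)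
    rw [delta_sect hP] at h2
    omega
  have hSne : ∀ y, a ⤳ P1.sect X i y → δ y = s → S y ≠ 0 := fun y h hy => by
    obtain ⟨t, rfl⟩ := hrange y h
    have hmax := S6493.result X _ δ hX (pullback.snd ι (P1.sect X i)) s (fun t' => (hsle t').2) t hy
    have hfin := hmax.2 t hmax.1
    have hpos : Module.length ((pullback ι (P1.sect X i)).presheaf.stalk t)
        ((pullback ι (P1.sect X i)).presheaf.stalk t) ≠ 0 := by
      rw [Ne, Module.length_eq_zero_iff]
      exact not_subsingleton _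
    rw [show S = Cyc.subschemeFun δ s (pullback.snd ι (P1.sect X i)) from rfl, subschemeFun_point δ s _ t hy]
    intro h0
    have h0' : (Module.length ((pullback ι (P1.sect X i)).presheaf.stalk t)
        ((pullback ι (P1.sect X i)).presheaf.stalk t)).toNat = 0 := by exact_mod_cast h0
    rcases ENat.toNat_eq_zero.1 h0' with h | h
    · exact hpos h
    · exact hfin.ne h
  have hSz : ∀ y, S y ≠ 0 → δ y = s ∧ a ⤳ P1.sect X i y := fun y h => by
    obtain ⟨h1, t, rfl⟩ := subschemeFun_ne_zero h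
    exact ⟨h1, (hsle t).1⟩
  -- dimension bounds
  have hB : ∀ y, a ⤳ P1.sect X i y → v ⤳ y → δ y ≤ r + s - n := fun y h1 h2 => by
    obtain ⟨y', hy1, hy2, hy3⟩ := exists_component δ δP hX hP i a (hni) y h1
    have hy' : δ y' = s := by omega
    have h := hint v y' y (by simp) (hSne y' hy1 hy') h2 hy2
    omega
  have hab : ∀ x η, a ⤳ η → b ⤳ η → η ⤳ P1.sect X i x → δP η ≤ δP a + δP b - (n + 1) := by
    intro x η h1 h2 h3
    rw [hW, hbd, hv]
    by_cases hr : η ∈ Set.range (P1.sect X i)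
    · obtain ⟨y, rfl⟩ := hr
      have := hB y h1 (by have h := h2.map T.continuous; rwa [hTb, hT, toBase_sect] at h)
      rw [delta_sect hP]
      omega
    · obtain ⟨y, hy1, -, hy3⟩ := exists_component δ δP hX hP i η hr x h3
      have h := (h2.trans hy1).map T.continuous
      rw [hTb, hT, toBase_sect] at h
      have := hB y (h1.trans hy1) h
      omega
  have hac : ∀ η, a ⤳ η → c (genericPoint X) ⤳ η → δP η ≤ δP a + δP (c (genericPoint X)) - (n + 1) := by
    intro η h1 h2
    obtain ⟨y, rfl⟩ := h2.mem_closed (P1.sect X i).isClosedEmbedding.isClosed_range ⟨_, rfl⟩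
    obtain ⟨t, rfl⟩ := hrange y h1
    have := (hsle t).2
    rw [delta_sect hP, hW, delta_sect hP, hn]
    omega
  have habc : ∀ η, a ⤳ η → b ⤳ η → c (genericPoint X) ⤳ η → δP η ≤ r + s - n := by
    intro η h1 h2 h3
    obtain ⟨y, rfl⟩ := h3.mem_closed (P1.sect X i).isClosedEmbedding.isClosed_range ⟨_, rfl⟩
    have h := h2.map T.continuous
    rw [hTb, hT, toBase_sect] at h
    rw [delta_sect hP]
    exact hB y h1 h
  -- the product with a section
  have hfinS : ∀ x, {y | y ⤳ x ∧ S y ≠ 0}.Finite := fun x => by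
    haveI : IsLocallyNoetherian (pullback ι (P1.sect X i)) :=
      LocallyOfFiniteType.isLocallyNoetherian (pullback.snd ι (P1.sect X i))
    have hS : S = Cyc.sheafFun δ s ((Coh.push (pullback.snd ι (P1.sect X i))).obj (Coh.structureModule _)) :=
      Cyc90.subschemeFun_eq_sheafFun δ _ s
    rw [hS]
    refine finite_sheafFun δ hX.2.2 s _ (Cyc90.isCoh_push_of_isFinite _ _ QC70.isCoh_unit) (fun z hz => ?_) x
    obtain ⟨t, rfl⟩ := Cyc90.mem_range_of_nontrivial_push _ hz
    exact (hsle t).2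
  refine ⟨fun x η h1 h2 h3 => by
    have := hab x η h1 h2 h3
    omega, habc, fun x => ?_⟩
  rw [interProd_swap_at (CohB1.ProjSpaceOver 1 X) (T ≫ f) δP hPs (deltaCompat_trans hP hδ) (n + 1) hng
    a b (c (genericPoint X)) (P1.sect X i x) (fun η h1 h2 h3 => hab x η h1 h2 h3) (fun η h1 h2 _ => hac η h1 h2)
    (fun η h1 h2 h3 _ => by
      have := habc η h1 h2 h3
      rw [show δP (c (genericPoint X)) = δ (genericPoint X) from delta_sect hP i _, hn, hW, hbd, hv]
      omega)]
  obtain ⟨hval, hval0⟩ := interProd_sect' f δ δP hX hδ hP ι n hn i s a rfl hW (hni)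
  let I := (hfinS x).toFinset
  have hI : ∀ y ∈ I, y ⤳ x ∧ S y ≠ 0 := fun y hy => (hfinS x).mem_toFinset.1 hy
  rw [interProd_bilinear δP (n + 1) _ _ (P1.sect X i x) I ({()} : Finset Unit) (S) (fun _ => 1)
    (fun y => Set.indicator {P1.sect X i y} 1) (fun _ => Set.indicator {b} 1)
    (fun y _ => (Set.finite_singleton _).subset fun z hz => Set.mem_of_indicator_ne_zero hz.2)
    (fun _ _ => (Set.finite_singleton _).subset fun z hz => Set.mem_of_indicator_ne_zero hz.2)
    (fun z hz => ?_) (fun z _ => by simp)]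
  swap
  · by_cases hr : z ∈ Set.range (P1.sect X i)
    · obtain ⟨y, rfl⟩ := hr
      have hyx : y ⤳ x := (P1.sect X i).isClosedEmbedding.isInducing.specializes_iff.1 hz
      refine (hval y).trans ?_
      simp only [Set.indicator_apply, Set.mem_singleton_iff,
        (P1.sect X i).isClosedEmbedding.injective.eq_iff, Pi.one_apply, mul_ite, mul_one, mul_zero,
        Finset.sum_ite_eq, I, Set.Finite.mem_toFinset, Set.mem_setOf_eq, hyx, true_and]
      split_ifs with h
      · rfl
      · exact not_not.1 h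
    · refine (hval0 z hr).trans (Finset.sum_eq_zero fun y _ => ?_).symm
      rw [Set.indicator_of_notMem (fun h => hr ⟨y, (Set.mem_singleton_iff.1 h).symm⟩), mul_zero]
  rw [interProd_comm δ n (Set.indicator {v} 1),
    interProd_bilinear δ n _ _ x I ({()} : Finset Unit) (S) (fun _ => 1)
    (fun y => Set.indicator {y} 1) (fun _ => Set.indicator {v} 1)
    (fun y _ => (Set.finite_singleton _).subset fun z hz => Set.mem_of_indicator_ne_zero hz.2)
    (fun _ _ => (Set.finite_singleton _).subset fun z hz => Set.mem_of_indicator_ne_zero hz.2)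
    (fun z hz => ?_) (fun z _ => by simp)]
  swap
  · change S z = _
    simp only [Set.indicator_apply, Set.mem_singleton_iff, Pi.one_apply, mul_ite, mul_one, mul_zero,
      Finset.sum_ite_eq, I, Set.Finite.mem_toFinset, Set.mem_setOf_eq, hz, true_and]
    split_ifs with h
    · rfl
    · exact not_not.1 h
  refine Finset.sum_congr rfl fun y hy => Finset.sum_congr rfl fun _ _ => ?_
  obtain ⟨hys, hay⟩ := hSz y (hI y hy).2
  congr 1
  exact interProd_vert f δ δP hX hδ hP n hn i y v b hbfun (fun z h1 h2 => by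
    have := hB z (hay.trans (h1.map (P1.sect X i).continuous)) h2
    omega) x

include hX hδ hP in
open Classical in
/-- `[V] · [W_0] ∼ [V] · [W_∞]`. -/
theorem ratEquiv_sect [QuasiCompact (CohB1.ProjSpaceOver.toBase 1 X)] (n : ℤ) (hn : δ (genericPoint X) = n)
    (r s : ℤ) {W : Scheme.{u}} [IsIntegral W] (ι : W ⟶ CohB1.ProjSpaceOver 1 X) [IsClosedImmersion ι]
    (hW : δP (ι (genericPoint W)) = s + 1) (hni : ∀ i, ι (genericPoint W) ∉ Set.range (P1.sect X i))
    (v : X) (hv : δ v = r)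
    (hint : ∀ i, IntMult.IntersectProperly δ n (Set.indicator {v} 1)
      (Cyc.subschemeFun δ s (pullback.snd ι (P1.sect X i))))
    (γ : Fin (1 + 1) → AlgebraicCycle X ℤ)
    (hγ : ∀ i, ⇑(γ i) = IntMult.interProd δ n (Set.indicator {v} 1)
      (Cyc.subschemeFun δ s (pullback.snd ι (P1.sect X i)))) :
    Cyc.RatEquiv δ (r + s - n) (γ 0) (γ 1) := by
  classical
  haveI := hX.1
  haveI := smooth_toBase f
  haveI := isIntegral_p1 f
  haveI : IsProper (CohB1.ProjSpaceOver.toBase 1 X) := isProper_toBase X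
  set T := CohB1.ProjSpaceOver.toBase 1 X with hT
  have hPs : Cyc.IsSetup (CohB1.ProjSpaceOver 1 X) δP := Cyc90.isSetup_of_lft T δ hX δP hP
  haveI := hPs.1
  have hng := delta_genericPoint_p1 δ hX δP hP n hn
  obtain ⟨b, hbd, hTb, hbsp, hbfun⟩ := exists_vert f δ δP hX hP v
  set a := ι (genericPoint W) with ha
  have hS := fun i => interProd_swap_sect δ δP hX hP f hδ n hn r s ι hW v hv b hbd hTb hbfun i (hni i) (hint i)
  let c : Fin (1 + 1) → ↥(CohB1.ProjSpaceOver 1 X) := fun i => P1.sect X i (genericPoint X)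
  have hab : ∀ i x η, a ⤳ η → b ⤳ η → η ⤳ P1.sect X i x → δP η ≤ δP a + δP b - (n + 1) := by
    intro i x η h1 h2 h3
    have := (hS i).1 x η h1 h2 h3
    omega
  have habc : ∀ i η, a ⤳ η → b ⤳ η → c i ⤳ η → δP η ≤ r + s - n := fun i => (hS i).2.1
  -- the cycle on `P¹_X`
  let A0 := IntMult.interProd δP (n + 1) (Set.indicator {a} 1) (Set.indicator {b} 1)
  let A : ↥(CohB1.ProjSpaceOver 1 X) → ℤ := fun p => if ∃ i x, p ⤳ P1.sect X i x then A0 p else 0
  have hA : ∀ p, A p ≠ 0 → (∃ i x, p ⤳ P1.sect X i x) ∧ δP p = r + s + 1 - n ∧ a ⤳ p ∧ b ⤳ p := by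
    intro p hp
    simp only [A] at hp
    split_ifs at hp with h
    swap
    · exact absurd rfl hp
    obtain ⟨p1, q1, h1, h2, h3, h4, h5⟩ := interProd_ne_zero hp
    obtain rfl : p1 = a := Set.mem_singleton_iff.1 (Set.mem_of_indicator_ne_zero h1)
    obtain rfl : q1 = b := Set.mem_singleton_iff.1 (Set.mem_of_indicator_ne_zero h2)
    exact ⟨h, by omega, h3, h4⟩
  let α : AlgebraicCycle (CohB1.ProjSpaceOver 1 X) ℤ :=
    { toFun := A
      supportWithinDomain' := by simp
      supportLocallyFiniteWithinDomain' := fun p _ => by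
        obtain ⟨N, hN, hfin⟩ := Cyc90.exists_nhd_finite_maximal
          ((isClosed_closure (s := ({a} : Set _))).inter (isClosed_closure (s := ({b} : Set _)))) p
        refine ⟨N, hN, hfin.subset ?_⟩
        rintro z ⟨hzN, hz⟩
        obtain ⟨⟨i, x, hix⟩, hd, haz, hbz⟩ := hA z hz
        refine ⟨⟨⟨specializes_iff_mem_closure.1 haz, specializes_iff_mem_closure.1 hbz⟩, fun q hq hqz => ?_⟩, hzN⟩
        have h := hab i x q (specializes_iff_mem_closure.2 hq.1) (specializes_iff_mem_closure.2 hq.2) (hqz.trans hix)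
        exact Cyc90.eq_of_delta_le hPs.2.2 hqz (by omega) }
  have hαk : α ∈ Cyc.Zk _ δP (r + s - n + 1) := fun p hp => by_contra fun h => hp (by
    have := (hA p h).2.1; omega)
  have hαc : ∀ i, IntMult.IntersectProperly δP (n + 1) ⇑α (Set.indicator {c i} 1) := fun i ξ η ζ h1 h2 h3 h4 => by
    obtain rfl : η = c i := Set.mem_singleton_iff.1 (Set.mem_of_indicator_ne_zero h2)
    obtain ⟨-, hd, haξ, hbξ⟩ := hA ξ h1
    have := habc i ζ (haξ.trans h3) (hbξ.trans h3) h4
    rw [show δP (c i) = δ (genericPoint X) from delta_sect hP i _, hn]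
    omega
  have hkey : ∀ i x, IntMult.interProd δP (n + 1) ⇑α (Set.indicator {c i} 1) (P1.sect X i x) = γ i x := by
    intro i x
    rw [interProd_congr_left δP (n + 1) (α := ⇑α) (α' := A0) _ (fun p hp => if_pos ⟨i, x, hp⟩),
      congrFun (hγ i) x]
    exact (hS i).2.2 x
  -- the cycle on the two sections
  have hcomp : ∀ i, δ = fun w => δP (P1.sect X i w) := fun i => funext fun w => (delta_sect hP i w).symm
  let G : Fin (1 + 1) → AlgebraicCycle (CohB1.ProjSpaceOver 1 X) ℤ := fun i =>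
    AlgebraicCycle.map (P1.sect X i) δ δP (γ i)
  have hG1 : ∀ i x, G i (P1.sect X i x) = γ i x := fun i x => by
    show AlgebraicCycle.map (P1.sect X i) δ δP (γ i) (P1.sect X i x) = γ i x
    rw [hcomp i]
    exact Cyc90.map_closedImmersion_image (P1.sect X i) δP (γ i) x
  have hG0 : ∀ i p, p ∉ Set.range (P1.sect X i) → G i p = 0 := fun i p hp => by
    show AlgebraicCycle.map (P1.sect X i) δ δP (γ i) p = 0
    rw [hcomp i]
    exact Cyc90.map_closedImmersion_notMem (P1.sect X i) δP (γ i) hp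
  have hGeq : ∀ i p, G i p = IntMult.interProd δP (n + 1) ⇑α (Set.indicator {c i} 1) p := fun i p => by
    by_cases hp : p ∈ Set.range (P1.sect X i)
    · obtain ⟨x, rfl⟩ := hp
      rw [hG1, hkey]
    · rw [hG0 i p hp]
      by_contra hne
      obtain ⟨_, q, -, hq, -, hqp, -⟩ := interProd_ne_zero (Ne.symm hne)
      obtain rfl : q = c i := Set.mem_singleton_iff.1 (Set.mem_of_indicator_ne_zero hq)
      exact hp (hqp.mem_closed (P1.sect X i).isClosedEmbedding.isClosed_range ⟨_, rfl⟩)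
  have hfin := ratEquivZero_p1 f δ δP hX hδ hP n hn (r + s - n) α hαk hαc (G 0 - G 1) (funext fun p => by
    rw [Function.locallyFinsuppWithin.coe_sub, Pi.sub_apply, Pi.sub_apply, hGeq, hGeq])
  have hmap : AlgebraicCycle.map T δP δ (G 0 - G 1) = γ 0 - γ 1 := DFunLike.ext _ _ fun x => by
    rw [map_toBase_sect δ δP hX hP (G 0 - G 1) (fun p hp => ?_) x]
    · rw [Function.locallyFinsuppWithin.coe_sub, Function.locallyFinsuppWithin.coe_sub, Pi.sub_apply, Pi.sub_apply,
        Pi.sub_apply, hG1, hG0 1 _ (notMem_range_of_mem 0 _ ⟨x, rfl⟩),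
        hG0 0 (P1.sect X 1 x) (fun h => notMem_range_of_mem 0 _ h ⟨x, rfl⟩), hG1]
      ring
    · by_contra hp'
      rw [Set.mem_union, not_or] at hp'
      exact hp (by rw [Function.locallyFinsuppWithin.coe_sub, Pi.sub_apply, hG0 0 p hp'.1, hG0 1 p hp'.2, sub_self])
  rw [hmap] at hfin
  exact hfin

end Groth.Agent.IntMult12
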