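import Groth.Agent.IntMult12.P1Component
import Groth.Agent.IntMult12.ExtProd
import Groth.Agent.Cyc90.PullClosed

/-!
# Vertical cycles on `P¹_X`
-/

set_option autoImplicit false
set_option linter.style.haveILetI false
set_option linter.unusedSectionVars false

universe u

open CategoryTheory CategoryTheory.Limits AlgebraicGeometry IsLocalRing TensorProduct

attribute [local instance] HasDerivedCategory.standard

namespace Groth.Agent.IntMult12

open Cyc90.P1L

variable {K : Type u} [Field K] [IsAlgClosed K] {X : Scheme.{u}} (f : X ⟶ Spec (CommRingCat.of K))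
  [Smooth f] [IsSeparated f] [QuasiCompact f] [IsIntegral X]
  (δ : X → ℤ) (δP : ↥(CohB1.ProjSpaceOver 1 X) → ℤ)
  (hX : Cyc.IsSetup X δ) (hδ : Cyc.DeltaCompat f δ (fun _ => 0))
  (hP : Cyc.DeltaCompat (CohB1.ProjSpaceOver.toBase 1 X) δP δ)

include f in
theorem hasRelDim_toBase : Cyc.HasRelDim (CohB1.ProjSpaceOver.toBase 1 X) 1 := by
  let S := Spec (CommRingCat.of K)
  haveI : IsIntegral (CohB1.ProjSpaceOver 1 S) := H98P1.isIntegral K
  haveI : IsProper (CohB1.ProjSpaceOver.toBase 1 S) := isProper_toBase S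
  have h0 : Cyc.IsSetup S (fun _ => 0) := Cyc90.isSetup_spec_field K
  let δ₀ : ↥(CohB1.ProjSpaceOver 1 S) → ℤ := fun p => (E4O.fdeg (CohB1.ProjSpaceOver.toBase 1 S) p : ℤ)
  have hd : Cyc.DeltaCompat (CohB1.ProjSpaceOver.toBase 1 S) δ₀ (fun _ => 0) := fun p =>
    ⟨_, Cyc90.trdeg_residueField_eq_fdeg _ p, (zero_add _).symm⟩
  have hg := delta_genericPoint_p1 (X := S) (fun _ => 0) h0 δ₀ hd 0 rfl
  exact FibDim94.hasRelDim_of_isPullback (H98P1.isPullback_toP1 f)
    (hasRelDim_of_isIntegral (CohB1.ProjSpaceOver.toBase 1 S) δ₀ hd 1 (by rw [hg]; norm_num))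

include hX hP f in
theorem exists_vert (v : X) : ∃ b : ↥(CohB1.ProjSpaceOver 1 X),
    δP b = δ v + 1 ∧ CohB1.ProjSpaceOver.toBase 1 X b = v ∧
      (∀ p, b ⤳ p ↔ v ⤳ CohB1.ProjSpaceOver.toBase 1 X p) ∧
      Cyc.pullFun (CohB1.ProjSpaceOver.toBase 1 X) δP δ 1 (Set.indicator {v} 1) = Set.indicator {b} 1 := by
  classical
  haveI := hX.1
  haveI := smooth_toBase f
  set T := CohB1.ProjSpaceOver.toBase 1 X with hT
  haveI : IsProper T := isProper_toBase X
  let j := Cyc90.clι v
  haveI : IsIntegral (CohB1.ProjSpaceOver 1 (Cyc90.cl v)) := isIntegral_p1 (j ≫ f)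
  let e := (H98P1.isPullback_toP1 j).isoPullback
  haveI : Nonempty ↥(pullback T j) := ⟨e.hom (genericPoint _)⟩
  haveI : IsIntegral (pullback T j) := isIntegral_of_isOpenImmersion e.inv
  let q0 := genericPoint ↥(pullback T j)
  let b := pullback.fst T j q0
  have hTj : ∀ t : ↥(pullback T j), T (pullback.fst T j t) = j (pullback.snd T j t) := fun t =>
    congrArg (fun k : pullback T j ⟶ X => k t) pullback.condition
  have hmem : ∀ p, v ⤳ T p → p ∈ Set.range (pullback.fst T j) := fun p hp => by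
    rw [Scheme.Pullback.range_fst]
    exact (Cyc90.range_clι v).ge (specializes_iff_mem_closure.1 hp)
  have hb : ∀ p, v ⤳ T p → b ⤳ p := fun p hp => by
    obtain ⟨t, rfl⟩ := hmem p hp
    exact (genericPoint_specializes t).map (pullback.fst T j).continuous
  have hsnd : pullback.snd T j q0 = genericPoint (Cyc90.cl v) := by
    obtain ⟨t, ht⟩ : ∃ t : ↥(pullback T j), pullback.snd T j t = genericPoint (Cyc90.cl v) := by
      obtain ⟨t, -, ht⟩ := Scheme.Pullback.exists_preimage_pullback (f := T) (g := j)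
        (P1.sect X 0 v) (genericPoint (Cyc90.cl v)) (by rw [toBase_sect]; exact (Cyc90.clι_genericPoint v).symm)
      exact ⟨t, ht⟩
    have h := (genericPoint_specializes t).map (pullback.snd T j).continuous
    rw [ht] at h
    exact (h.antisymm (genericPoint_specializes _)).eq
  have hTb : T b = v := by rw [hTj, hsnd]; exact Cyc90.clι_genericPoint v
  have hc := Cyc90.shiftAt_of_hasRelDim T (hasRelDim_toBase f) hP
  have hPs : Cyc.IsSetup (CohB1.ProjSpaceOver 1 X) δP := Cyc90.isSetup_of_lft T δ hX δP hP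
  have hmax : ∀ p, T p = v → p ⤳ b → p = b := fun p hp h => (h.antisymm (hb p (specializes_of_eq hp.symm))).eq
  have hbd : δP b = δ v + 1 := by
    have h := hc b fun w hw1 hw2 => hmax w (hw1.trans hTb) hw2
    rw [hTb] at h
    simpa using h
  refine ⟨b, hbd, hTb, fun p => ⟨fun h => hTb ▸ h.map T.continuous, hb p⟩, funext fun p => ?_⟩
  unfold Cyc.pullFun
  by_cases hp : p = b
  · subst hp
    rw [if_pos (by rw [hTb, hbd]), Set.indicator_of_mem (show T b ∈ ({v} : Set X) from hTb),
      Set.indicator_of_mem (Set.mem_singleton _), Pi.one_apply, Pi.one_apply, one_mul]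
    have h1 := Cyc90.length_fibre_closed T j q0
    have hkey : ∀ w : Cyc90.cl v, w = genericPoint (Cyc90.cl v) →
        maximalIdeal ((Cyc90.cl v).presheaf.stalk w) = ⊥ := by
      rintro w rfl
      exact IsLocalRing.isField_iff_maximalIdeal_eq.1 (Field.toIsField (Cyc90.cl v).functionField)
    rw [hkey _ hsnd, Ideal.map_bot, (Submodule.quotEquivOfEqBot _ rfl).length_eq,
      show Module.length ((pullback T j).presheaf.stalk q0) ((pullback T j).presheaf.stalk q0) = 1 from
        Module.length_eq_one_iff.2 (inferInstanceAs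
          (IsSimpleModule (pullback T j).functionField (pullback T j).functionField))] at h1
    refine (congrArg (fun m : ℕ∞ => (m.toNat : ℤ)) h1.symm).trans ?_
    simp
  · rw [Set.indicator_of_notMem (fun h => hp (Set.mem_singleton_iff.1 h))]
    split_ifs with hd
    · by_cases hv : T p = v
      · exfalso
        rw [hv] at hd
        have h := (hPs.2.2 _ _ (hb p (specializes_of_eq hv.symm)) (Ne.symm hp)).1
        omega
      · rw [Set.indicator_of_notMem (fun h => hv (Set.mem_singleton_iff.1 h)), zero_mul]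
    · rfl

include hX hδ hP in
/-- A product with a vertical cycle, on a section. -/
theorem interProd_vert (n : ℤ) (hn : δ (genericPoint X) = n) (i : Fin (1 + 1)) (y v : X) (b : ↥(CohB1.ProjSpaceOver 1 X))
    (hb : Cyc.pullFun (CohB1.ProjSpaceOver.toBase 1 X) δP δ 1 (Set.indicator {v} 1) = Set.indicator {b} 1)
    (hyv : ∀ z : X, y ⤳ z → v ⤳ z → δ z ≤ δ y + δ v - n) (x : X) :
    IntMult.interProd δP (n + 1) (Set.indicator {P1.sect X i y} 1) (Set.indicator {b} 1) (P1.sect X i x) =
      IntMult.interProd δ n (Set.indicator {y} 1) (Set.indicator {v} 1) x := by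
  classical
  haveI := hX.1
  haveI := smooth_toBase f
  haveI := isIntegral_p1 f
  haveI : IsProper (CohB1.ProjSpaceOver.toBase 1 X) := isProper_toBase X
  set T := CohB1.ProjSpaceOver.toBase 1 X with hT
  have hPs : Cyc.IsSetup (CohB1.ProjSpaceOver 1 X) δP := Cyc90.isSetup_of_lft T δ hX δP hP
  haveI := hPs.1
  have hng := delta_genericPoint_p1 δ hX δP hP n hn
  have hc := Cyc90.shiftAt_of_hasRelDim T (hasRelDim_toBase f) hP
  let j' := Cyc90.clι y ≫ P1.sect X i
  have hj : j' ≫ T = Cyc90.clι y := by rw [Category.assoc, hT, sect_toBase, Category.comp_id]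
  haveI : IsClosedImmersion (j' ≫ T) := by rw [hj]; infer_instance
  haveI : IsLocallyNoetherian (Cyc90.cl y) := LocallyOfFiniteType.isLocallyNoetherian (Cyc90.clι y)
  let F := (Coh.push j').obj (Coh.structureModule (Cyc90.cl y))
  let F' := (Coh.push (j' ≫ T)).obj (Coh.structureModule (Cyc90.cl y))
  let G' := clSheaf v
  haveI : G'.IsQuasicoherent := (isCoh_clSheaf v).1
  let G := (Scheme.Modules.pullback T).obj G'
  have hFfun : Cyc.sheafFun δP (δ y) F = Set.indicator {P1.sect X i y} 1 := by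
    have h := sheafFun_push_integral δP hPs.2.2 j'
    rw [show j' (genericPoint (Cyc90.cl y)) = P1.sect X i y from
      congrArg (P1.sect X i) (Cyc90.clι_genericPoint y), delta_sect hP] at h
    exact h
  have hF'fun : Cyc.sheafFun δ (δ y) F' = Set.indicator {y} 1 := by
    have h := sheafFun_push_integral δ hX.2.2 (j' ≫ T)
    rw [show (j' ≫ T) (genericPoint (Cyc90.cl y)) = y from by rw [hj]; exact Cyc90.clι_genericPoint y] at h
    exact h
  have hvle : ∀ z, Nontrivial (G'.presheaf.stalk z) → δ z ≤ δ v := fun z hz =>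
    Cyc90.delta_le hX.2.2 (specializes_of_clSheaf hz)
  obtain ⟨hGle, hGfun⟩ := Cyc90.pullFun_sheafFun T G' hPs.2.2 hc (δ v) hvle
  rw [sheafFun_clSheaf δ hX.2.2] at hGfun
  simp only [Nat.cast_one] at hGfun hGle
  rw [hb] at hGfun
  have hFs : ∀ z, Nontrivial (F.presheaf.stalk z) → ∃ w, j' w = z := fun z h =>
    Cyc90.mem_range_of_nontrivial_push j' h
  have hF's : ∀ z, Nontrivial (F'.presheaf.stalk z) → ∃ w, (j' ≫ T) w = z := fun z h =>
    Cyc90.mem_range_of_nontrivial_push (j' ≫ T) h
  have hy : ∀ w : Cyc90.cl y, y ⤳ Cyc90.clι y w := fun w =>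
    specializes_iff_mem_closure.2 ((Cyc90.range_clι y).le ⟨w, rfl⟩)
  have hcond : ∀ z, Nontrivial (F.presheaf.stalk z) → Nontrivial (G.presheaf.stalk z) →
      δP z ≤ δ y + (δ v + 1) - (n + 1) := fun z h1 h2 => by
    obtain ⟨w, rfl⟩ := hFs z h1
    have h3 := specializes_of_clSheaf (Cyc90.nontrivial_stalk_of_pullback T G' _ h2)
    rw [show T (j' w) = Cyc90.clι y w from toBase_sect i _] at h3
    have := hyv _ (hy w) h3
    change δP (P1.sect X i (Cyc90.clι y w)) ≤ _
    rw [delta_sect hP]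
    omega
  obtain ⟨-, hv1⟩ := interProd_sheafFun (CohB1.ProjSpaceOver 1 X) (T ≫ f) δP hPs (deltaCompat_trans hP hδ)
    (n + 1) hng F G (Cyc90.isCoh_push_of_isFinite _ _ QC70.isCoh_unit)
    (ConsProp93.isCoh_pullback T (isCoh_clSheaf v)) (δ y) (δ v + 1)
    (fun z hz => by
      obtain ⟨w, rfl⟩ := hFs z hz
      change δP (P1.sect X i (Cyc90.clι y w)) ≤ _
      rw [delta_sect hP]
      exact Cyc90.delta_le hX.2.2 (hy w)) hGle hcond
  obtain ⟨-, hv2⟩ := interProd_sheafFun X f δ hX hδ n hn F' G' (Cyc90.isCoh_push_of_isFinite _ _ QC70.isCoh_unit)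
    (isCoh_clSheaf v) (δ y) (δ v)
    (fun z hz => by
      obtain ⟨w, rfl⟩ := hF's z hz
      rw [hj]
      exact Cyc90.delta_le hX.2.2 (hy w)) hvle
    (fun z h1 h2 => by
      obtain ⟨w, rfl⟩ := hF's z h1
      rw [hj]
      exact hyv _ (hy w) (by have := specializes_of_clSheaf h2; rwa [hj] at this))
  rw [hFfun, ← hGfun] at hv1
  rw [hF'fun, sheafFun_clSheaf δ hX.2.2] at hv2
  rw [hv1, hv2, delta_sect hP]
  by_cases hd : δ x = δ y + δ v - n
  swap
  · rw [if_neg (by omega), if_neg hd]
  rw [if_pos (by omega), if_pos hd]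
  haveI hreg : IsRegularLocalRing ((CohB1.ProjSpaceOver 1 X).presheaf.stalk (P1.sect X i x)) :=
    VarGal.isRegularLocalRing_stalk_of_smooth (T ≫ f) _
  haveI : IsRegularLocalRing (X.presheaf.stalk x) := VarGal.isRegularLocalRing_stalk_of_smooth f x
  haveI := finite_stalk F (Cyc90.isCoh_push_of_isFinite _ _ QC70.isCoh_unit) (P1.sect X i x)
  haveI := finite_stalk G (ConsProp93.isCoh_pullback T (isCoh_clSheaf v)) (P1.sect X i x)
  haveI := finite_stalk F' (Cyc90.isCoh_push_of_isFinite _ _ QC70.isCoh_unit) x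
  haveI := finite_stalk G' (isCoh_clSheaf v) x
  by_cases hyx : y ⤳ x
  swap
  · haveI : Subsingleton (F.presheaf.stalk (P1.sect X i x)) := not_nontrivial_iff_subsingleton.1 fun h => by
      obtain ⟨w, hw⟩ := hFs _ h
      exact hyx ((P1.sect X i).isClosedEmbedding.injective (show P1.sect X i (Cyc90.clι y w) = _ from hw) ▸ hy w)
    haveI : Subsingleton (F'.presheaf.stalk x) := not_nontrivial_iff_subsingleton.1 fun h => by
      obtain ⟨w, hw⟩ := hF's _ h
      rw [hj] at hw
      exact hyx (hw ▸ hy w)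
    rw [chi_subsingleton_left (A := (CohB1.ProjSpaceOver 1 X).presheaf.stalk (P1.sect X i x)) (F.presheaf.stalk _)
      (G.presheaf.stalk _), chi_subsingleton_left (A := X.presheaf.stalk x) (F'.presheaf.stalk x) (G'.presheaf.stalk x)]
  obtain ⟨w, hw⟩ : ∃ w, Cyc90.clι y w = x := (Cyc90.range_clι y).ge (specializes_iff_mem_closure.1 hyx)
  have hgen : ∀ (p : ↥(CohB1.ProjSpaceOver 1 X)) (x' : X), j' w = p → (j' ≫ T) w = x' →
      IntMult.chi ((CohB1.ProjSpaceOver 1 X).presheaf.stalk p) (F.presheaf.stalk p) (G.presheaf.stalk p) =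
        IntMult.chi (X.presheaf.stalk x') (F'.presheaf.stalk x') (G'.presheaf.stalk x') := by
    rintro p x' rfl rfl
    haveI : IsRegularLocalRing (X.presheaf.stalk ((j' ≫ T) w)) := VarGal.isRegularLocalRing_stalk_of_smooth f _
    haveI : IsRegularLocalRing (X.presheaf.stalk (T (j' w))) := VarGal.isRegularLocalRing_stalk_of_smooth f _
    haveI := finite_stalk G' (isCoh_clSheaf v) ((j' ≫ T) w)
    haveI := finite_stalk G' (isCoh_clSheaf v) (T (j' w))
    have hTs : T (P1.sect X i (Cyc90.clι y w)) = Cyc90.clι y w := toBase_sect i _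
    let R := (CohB1.ProjSpaceOver 1 X).presheaf.stalk (j' w)
    letI algAR : Algebra (X.presheaf.stalk (T (j' w))) ((CohB1.ProjSpaceOver 1 X).presheaf.stalk (j' w)) :=
      (T.stalkMap (j' w)).hom.toAlgebra
    letI algRB : Algebra ((CohB1.ProjSpaceOver 1 X).presheaf.stalk (j' w)) ((Cyc90.cl y).presheaf.stalk w) :=
      (j'.stalkMap w).hom.toAlgebra
    letI algAB : Algebra (X.presheaf.stalk (T (j' w))) ((Cyc90.cl y).presheaf.stalk w) :=
      ((j' ≫ T).stalkMap w).hom.toAlgebra
    haveI : IsScalarTower (X.presheaf.stalk (T (j' w))) ((CohB1.ProjSpaceOver 1 X).presheaf.stalk (j' w))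
        ((Cyc90.cl y).presheaf.stalk w) := IsScalarTower.of_algebraMap_eq fun r => by
      show ((j' ≫ T).stalkMap w).hom r = _
      rw [Scheme.Hom.stalkMap_comp]
      rfl
    haveI : Module.Flat (X.presheaf.stalk (T (j' w))) ((CohB1.ProjSpaceOver 1 X).presheaf.stalk (j' w)) :=
      Flat.stalkMap T (j' w)
    let E1 : F.presheaf.stalk (j' w) ≃ₗ[(CohB1.ProjSpaceOver 1 X).presheaf.stalk (j' w)]
        (Cyc90.cl y).presheaf.stalk w :=
      { Cyc90.pushUnitEquiv j' w with map_smul' := fun r m => Cyc90.pushUnitEquiv_smul j' w r m }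
    let E2 : F'.presheaf.stalk (T (j' w)) ≃ₗ[X.presheaf.stalk (T (j' w))] (Cyc90.cl y).presheaf.stalk w :=
      { Cyc90.pushUnitEquiv (j' ≫ T) w with map_smul' := fun r m => Cyc90.pushUnitEquiv_smul (j' ≫ T) w r m }
    obtain ⟨EG⟩ := FlatMor68.PullbackStalk.nonempty_stalkPullbackEquiv T G' (j' w)
    show IntMult.chi ((CohB1.ProjSpaceOver 1 X).presheaf.stalk (j' w)) (F.presheaf.stalk (j' w))
      (G.presheaf.stalk (j' w)) = IntMult.chi (X.presheaf.stalk (T (j' w))) (F'.presheaf.stalk (T (j' w)))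
      (G'.presheaf.stalk (T (j' w)))
    rw [chi_congr_left _ E1, chi_congr_right _ EG]
    refine Eq.trans ?_ (chi_congr_left (A := X.presheaf.stalk (T (j' w))) _ E2).symm
    let τ : X.presheaf.stalk (Cyc90.clι y w) ⟶ X.presheaf.stalk (T (j' w)) :=
      X.presheaf.stalkSpecializes (specializes_of_eq hTs)
    have hback : T.stalkMap (j' w) ≫ (P1.sect X i).stalkMap (Cyc90.clι y w) ≫ τ = 𝟙 _ := by
      have h1 := Scheme.Hom.stalkMap_congr_hom (P1.sect X i ≫ T) (𝟙 X) (sect_toBase X i) (Cyc90.clι y w)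
      rw [Scheme.Hom.stalkMap_comp, Scheme.Hom.stalkMap_id] at h1
      refine (Category.assoc _ _ _).symm.trans ((congrArg (· ≫ τ) h1).trans ?_)
      simp only [TopCat.Presheaf.stalkCongr, τ]
      erw [Category.comp_id, TopCat.Presheaf.stalkSpecializes_comp]
      exact TopCat.Presheaf.stalkSpecializes_refl _ _
    let π : ((CohB1.ProjSpaceOver 1 X).presheaf.stalk (j' w)) →ₐ[X.presheaf.stalk (T (j' w))]
        X.presheaf.stalk (T (j' w)) :=
      { ((P1.sect X i).stalkMap (Cyc90.clι y w) ≫ τ).hom with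
        commutes' := fun r => congr($(hback).hom r) }
    refine chi_tor_retract (A := X.presheaf.stalk (T (j' w))) π ((Cyc90.cl y).presheaf.stalk w) (fun r hr z => ?_)
      (G'.presheaf.stalk (T (j' w)))
    have h1 : ((P1.sect X i).stalkMap (Cyc90.clι y w)).hom r = 0 := by
      have hinj : Function.Injective τ.hom := fun a c hac => by
        have hid : τ ≫ X.presheaf.stalkSpecializes (specializes_of_eq hTs.symm) = 𝟙 _ := by
          simp only [τ, TopCat.Presheaf.stalkSpecializes_comp]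
          exact TopCat.Presheaf.stalkSpecializes_refl _ _
        exact ((congr($(hid).hom a)).symm.trans (congrArg
          (X.presheaf.stalkSpecializes (specializes_of_eq hTs.symm)).hom hac)).trans congr($(hid).hom c)
      exact hinj (hr.trans (map_zero _).symm)
    change (j'.stalkMap w).hom r * z = 0
    rw [Scheme.Hom.stalkMap_comp]
    change ((Cyc90.clι y).stalkMap w).hom (((P1.sect X i).stalkMap (Cyc90.clι y w)).hom r) * z = 0
    rw [h1, map_zero, zero_mul]
  exact hgen _ _ (congrArg (P1.sect X i) hw) (by rw [hj]; exact hw)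

end Groth.Agent.IntMult12
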