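import Groth.Agent.IntMult12.PushPoint
import Groth.Agent.Cyc90.RatPush

/-!
# The projection formula
-/

set_option autoImplicit false
set_option linter.style.haveILetI false
set_option linter.unusedSectionVars false

universe u

open CategoryTheory CategoryTheory.Limits AlgebraicGeometry IsLocalRing TensorProduct

attribute [local instance] HasDerivedCategory.standard

namespace Groth.Agent.IntMult12

theorem finite_generalizations {X : Scheme.{u}} (γ : AlgebraicCycle X ℤ) (x : X) :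
    {z | z ⤳ x ∧ γ z ≠ 0}.Finite := by
  obtain ⟨t, ht, hfin⟩ := γ.supportLocallyFiniteWithinDomain' x trivial
  obtain ⟨o, hot, ho, hxo⟩ := mem_nhds_iff.1 ht
  exact hfin.subset fun z hz => ⟨hot (hz.1.mem_open ho hxo), hz.2⟩

theorem finite_image_generalizations {X Y : Scheme.{u}} (f : X ⟶ Y) [QuasiCompact f]
    (α : AlgebraicCycle X ℤ) (y : Y) : {x | f x ⤳ y ∧ α x ≠ 0}.Finite := by
  obtain ⟨V, hV, hyV, -⟩ := exists_isAffineOpen_mem_and_subset (X := Y) (x := y) (U := ⊤) trivial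
  exact ((LocallyFiniteSupport.finite_inter_support_of_isCompact (f := (α : X → ℤ))
      (fun z => α.supportLocallyFiniteWithinDomain' z trivial)
      (f.isCompact_preimage hV.isCompact))).subset
    fun x hx => ⟨(hx.1.mem_open V.isOpen hyV : f x ∈ V), hx.2⟩

variable {K : Type u} [Field K] {X Y : Scheme.{u}} (gX : X ⟶ Spec (CommRingCat.of K))
  (gY : Y ⟶ Spec (CommRingCat.of K)) [Smooth gX] [IsSeparated gX]
  [IsIntegral X] [Smooth gY] [IsSeparated gY] [IsIntegral Y] (f : X ⟶ Y) [Flat f] [IsProper f]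
  (δX : X → ℤ) (δY : Y → ℤ) (hX : Cyc.IsSetup X δX) (hY : Cyc.IsSetup Y δY)
  (hδX : Cyc.DeltaCompat gX δX (fun _ => 0)) (hδY : Cyc.DeltaCompat gY δY (fun _ => 0))
  (hδ : Cyc.DeltaCompat f δX δY) (n m : ℤ) (hn : δX (genericPoint X) = n) (hm : δY (genericPoint Y) = m)
  (e : ℕ) (he : (e : ℤ) = n - m) (hrel : Cyc.HasRelDim f e)

include hX hY hδX hδY hδ hn hm he hrel in
set_option maxHeartbeats 1600000 in
open Classical in
/-- `f_*α · β = f_*(α · f^*β)`. -/
theorem push_formula (r s : ℤ) (α : AlgebraicCycle X ℤ) (β : AlgebraicCycle Y ℤ)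
    (hα : α ∈ Cyc.Zk X δX r) (hβ : β ∈ Cyc.Zk Y δY s)
    (hprop : IntMult.IntersectProperly δX n ⇑α (Cyc.pullFun f δX δY e ⇑β)) (γ : AlgebraicCycle X ℤ)
    (hγ : ⇑γ = IntMult.interProd δX n ⇑α (Cyc.pullFun f δX δY e ⇑β)) :
    IntMult.IntersectProperly δY m ⇑(AlgebraicCycle.map f δX δY α) ⇑β ∧
      IntMult.interProd δY m ⇑(AlgebraicCycle.map f δX δY α) ⇑β = ⇑(AlgebraicCycle.map f δX δY γ) := by
  haveI := hX.1
  haveI := hY.1
  have hc := Cyc90.shiftAt_of_hasRelDim f hrel hδ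
  have hge : ∀ x, δY (f x) ≤ δX x := fun x => by
    obtain ⟨k, -, hk⟩ := hδ x; omega
  let wt : X → ℤ := fun x => if δX x = δY (f x) then (f.residueDegree x : ℤ) else 0
  have hαr : ∀ ξ, α ξ ≠ 0 → δX ξ = r := fun ξ h => by_contra fun h' => h (hα ξ h')
  have hβs : ∀ η, β η ≠ 0 → δY η = s := fun η h => by_contra fun h' => h (hβ η h')
  have hmeet : ∀ ξ η x, α ξ ≠ 0 → β η ≠ 0 → ξ ⤳ x → η ⤳ f x → δX x ≤ r + s - m := by
    intro ξ η x hξ hη hξx hηx
    obtain ⟨z, hzx, -, hzδ, hz0⟩ := exists_pullFun_ne_zero f hY.2.2 hc ⇑β η hη x hηx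
    have := hprop ξ z x hξ hz0 hξx hzx
    rw [hαr ξ hξ, hzδ, hβs η hη] at this
    omega
  have hsupp : ∀ y, AlgebraicCycle.map f δX δY α y ≠ 0 → ∃ ξ, f ξ = y ∧ α ξ ≠ 0 ∧ δY y = r := by
    intro y hy
    rw [Cyc90.map_apply_eq] at hy
    obtain ⟨ξ, hξ, hne⟩ := exists_ne_zero_of_finsum_mem_ne_zero hy
    refine ⟨ξ, hξ, left_ne_zero_of_mul hne, ?_⟩
    split_ifs at hne with h
    · rw [← hαr ξ (left_ne_zero_of_mul hne), h, show f ξ = y from hξ]
    · simp at hne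
  refine ⟨fun y η ζ hy hη hyζ hηζ => ?_, funext fun ζ => ?_⟩
  · obtain ⟨ξ, rfl, hξ, hr⟩ := hsupp y hy
    obtain ⟨x, hx, rfl⟩ : ∃ x, ξ ⤳ x ∧ f x = ζ := by
      have h1 : IsClosed (f '' closure {ξ}) := f.isClosedMap _ isClosed_closure
      obtain ⟨x, hx, hxy⟩ := h1.stableUnderSpecialization hyζ ⟨ξ, subset_closure rfl, rfl⟩
      exact ⟨x, specializes_iff_mem_closure.2 hx, hxy⟩
    rw [hr, hβs η hη]
    exact (hge x).trans (hmeet ξ η x hξ hη hx hηζ)
  rw [Cyc90.map_apply_eq, hγ]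
  by_cases hζ : δY ζ = r + s - m
  swap
  · rw [finsum_mem_eq_zero_of_forall_eq_zero fun x hx => ?_]
    · refine finsum_eq_zero_of_forall_eq_zero fun p => ?_
      by_contra hne
      obtain ⟨ξ, -, -, hr⟩ := hsupp _ (left_ne_zero_of_mul (left_ne_zero_of_mul hne))
      have hs := hβs _ (right_ne_zero_of_mul (left_ne_zero_of_mul hne))
      exact hζ (by rw [← p.2.2.2, hr, hs])
    · by_contra hne
      have h2 := right_ne_zero_of_mul hne
      simp only [ne_eq, ite_eq_right_iff, not_forall] at h2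
      obtain ⟨h2, -⟩ := h2
      obtain ⟨p, hp⟩ := not_forall.1 fun hall =>
        left_ne_zero_of_mul hne (finsum_eq_zero_of_forall_eq_zero hall)
      have h3 := hαr _ (left_ne_zero_of_mul (left_ne_zero_of_mul hp))
      have h4 := right_ne_zero_of_mul (left_ne_zero_of_mul hp)
      simp only [Cyc.pullFun, ne_eq, ite_eq_right_iff, not_forall] at h4
      obtain ⟨h4, h5⟩ := h4
      have h6 := hβs _ (left_ne_zero_of_mul h5)
      have h7 := p.2.2.2
      rw [show f x = ζ from hx] at h2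
      omega
  let A₀ := (finite_image_generalizations f α ζ).toFinset
  let B₀ := (finite_generalizations β ζ).toFinset
  have hA : ∀ ξ ∈ A₀, f ξ ⤳ ζ ∧ α ξ ≠ 0 := fun ξ h => (finite_image_generalizations f α ζ).mem_toFinset.1 h
  have hB : ∀ η ∈ B₀, η ⤳ ζ ∧ β η ≠ 0 := fun η h => (finite_generalizations β ζ).mem_toFinset.1 h
  have hdecY : ∀ z : Y, z ⤳ ζ →
      β z = ∑ η ∈ B₀, β η * Set.indicator ({η} : Set Y) 1 z := fun z hz => by
    simp only [Set.indicator_apply, Set.mem_singleton_iff, Pi.one_apply, mul_ite, mul_one, mul_zero,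
      Finset.sum_ite_eq, B₀, Set.Finite.mem_toFinset, Set.mem_setOf_eq, hz, true_and]
    by_cases h : β z = 0 <;> simp [h]
  have hdecA : ∀ z : X, f z ⤳ ζ →
      α z = ∑ ξ ∈ A₀, α ξ * Set.indicator ({ξ} : Set X) 1 z := fun z hz => by
    simp only [Set.indicator_apply, Set.mem_singleton_iff, Pi.one_apply, mul_ite, mul_one, mul_zero,
      Finset.sum_ite_eq, A₀, Set.Finite.mem_toFinset, Set.mem_setOf_eq, hz, true_and]
    by_cases h : α z = 0 <;> simp [h]
  have hdecP : ∀ z : X, f z ⤳ ζ → Cyc.pullFun f δX δY e ⇑β z =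
      ∑ η ∈ B₀, β η * Cyc.pullFun f δX δY e (Set.indicator ({η} : Set Y) 1) z := fun z hz => by
    simp only [Cyc.pullFun]
    split_ifs
    · rw [hdecY (f z) hz, Finset.sum_mul]
      exact Finset.sum_congr rfl fun _ _ => mul_assoc _ _ _
    · simp
  have hdecM : ∀ y, y ⤳ ζ → AlgebraicCycle.map f δX δY α y =
      ∑ ξ ∈ A₀, α ξ * wt ξ * Set.indicator ({f ξ} : Set Y) 1 y := fun y hy => by
    rw [Cyc90.map_apply_eq, finsum_mem_eq_sum_of_inter_support_eq _ (t := A₀.filter fun ξ => f ξ = y),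
      Finset.sum_filter]
    · refine Finset.sum_congr rfl fun ξ _ => ?_
      simp only [Set.indicator_apply, Set.mem_singleton_iff, Pi.one_apply, mul_ite, mul_one, mul_zero,
        eq_comm (a := y), wt]
    · refine Set.ext fun x => ⟨fun hx => ⟨?_, hx.2⟩, fun hx => ⟨?_, hx.2⟩⟩
      · rw [Finset.coe_filter]
        exact ⟨(Set.Finite.mem_toFinset _).2 ⟨(show f x = y from hx.1).symm ▸ hy, left_ne_zero_of_mul hx.2⟩, hx.1⟩
      · exact (Finset.mem_filter.1 hx.1).2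
  have hpfin : ∀ η z, {w | w ⤳ z ∧ Cyc.pullFun f δX δY e (Set.indicator ({η} : Set Y) 1) w ≠ 0}.Finite :=
    fun η z => by
    haveI : (clSheaf η).IsQuasicoherent := (isCoh_clSheaf η).1
    have hcl : ∀ v, Nontrivial ((clSheaf η).presheaf.stalk v) → δY v ≤ δY η := fun v h => by
      by_cases he : η = v
      · rw [he]
      · exact (hY.2.2 η v (specializes_of_clSheaf h) he).1.le
    obtain ⟨h1, h2⟩ := Cyc90.pullFun_sheafFun f (clSheaf η) hX.2.2 hc (δY η) hcl
    rw [sheafFun_clSheaf δY hY.2.2 η] at h2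
    rw [h2]
    exact finite_sheafFun δX hX.2.2 _ _ (ConsProp93.isCoh_pullback f (isCoh_clSheaf η)) h1 z
  -- the two sides
  rw [interProd_bilinear δY m _ _ ζ A₀ B₀ (fun ξ => α ξ * wt ξ) β
    (fun ξ => Set.indicator ({f ξ} : Set Y) 1) (fun η => Set.indicator ({η} : Set Y) 1)
    (fun ξ _ => (Set.finite_singleton (f ξ)).subset fun z hz => Set.mem_of_indicator_ne_zero hz.2)
    (fun η _ => (Set.finite_singleton η).subset fun z hz => Set.mem_of_indicator_ne_zero hz.2)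
    hdecM hdecY]
  let G : X → Y → X → ℤ := fun ξ η => IntMult.interProd δX n (Set.indicator ({ξ} : Set X) 1)
    (Cyc.pullFun f δX δY e (Set.indicator ({η} : Set Y) 1))
  have hγ' : ∀ x, f x = ζ → IntMult.interProd δX n ⇑α (Cyc.pullFun f δX δY e ⇑β) x =
      ∑ ξ ∈ A₀, ∑ η ∈ B₀, α ξ * β η * G ξ η x := fun x hx => by
    have hsp : ∀ z, z ⤳ x → f z ⤳ ζ := fun z hz => hx ▸ hz.map f.continuous
    exact interProd_bilinear δX n _ _ x A₀ B₀ α β (fun ξ => Set.indicator ({ξ} : Set X) 1)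
      (fun η => Cyc.pullFun f δX δY e (Set.indicator ({η} : Set Y) 1))
      (fun ξ _ => (Set.finite_singleton ξ).subset fun z hz => Set.mem_of_indicator_ne_zero hz.2)
      (fun η _ => hpfin η x) (fun z hz => hdecA z (hsp z hz)) (fun z hz => hdecP z (hsp z hz))
  have hloc : ∀ ξ ∈ A₀, ∀ η ∈ B₀, ∃ T : Finset X, (∀ x ∈ T, f x = ζ) ∧
      (∀ x, f x = ζ → x ∉ T → G ξ η x = 0) ∧
      wt ξ * IntMult.interProd δY m (Set.indicator {f ξ} 1) (Set.indicator {η} 1) ζ =
        ∑ x ∈ T, G ξ η x * wt x := fun ξ hξ η hη =>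
    push_formula_point gX gY f δX δY hX hY hδX hδY hδ n m hn hm e he hc r s ξ η ζ
      (hαr ξ (hA ξ hξ).2) (hβs η (hB η hη).2) (hA ξ hξ).1 (hB η hη).1 hζ
      (fun x => hmeet ξ η x (hA ξ hξ).2 (hB η hη).2)
  choose! T hTf hTsupp hTeq using hloc
  let U := A₀.biUnion fun ξ => B₀.biUnion fun η => T ξ η
  have hUf : ∀ x ∈ U, f x = ζ := fun x hx => by
    obtain ⟨ξ, hξ, hx⟩ := Finset.mem_biUnion.1 hx
    obtain ⟨η, hη, hx⟩ := Finset.mem_biUnion.1 hx
    exact hTf ξ hξ η hη x hx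
  have hzero : ∀ x, f x = ζ → x ∉ U → IntMult.interProd δX n ⇑α (Cyc.pullFun f δX δY e ⇑β) x = 0 :=
    fun x hx hxU => by
    rw [hγ' x hx]
    refine Finset.sum_eq_zero fun ξ hξ => Finset.sum_eq_zero fun η hη => ?_
    rw [hTsupp ξ hξ η hη x hx fun h => hxU (Finset.mem_biUnion.2 ⟨ξ, hξ, Finset.mem_biUnion.2 ⟨η, hη, h⟩⟩),
      mul_zero]
  rw [finsum_mem_eq_sum_of_inter_support_eq _ (t := U)]
  swap
  · refine Set.ext fun x => ⟨fun hx => ⟨?_, hx.2⟩, fun hx => ⟨hUf x hx.1, hx.2⟩⟩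
    by_contra hxU
    exact hx.2 (mul_eq_zero_of_left (hzero x hx.1 hxU) _)
  rw [Finset.sum_congr rfl fun x hx => congrArg (· * _) (hγ' x (hUf x hx))]
  simp only [Finset.sum_mul]
  rw [Finset.sum_comm (s := U)]
  refine Finset.sum_congr rfl fun ξ hξ => ?_
  rw [Finset.sum_comm (s := U)]
  refine Finset.sum_congr rfl fun η hη => ?_
  rw [← Finset.sum_subset (s₁ := T ξ η)
    (fun x hx => Finset.mem_biUnion.2 ⟨ξ, hξ, Finset.mem_biUnion.2 ⟨η, hη, hx⟩⟩)
    (fun x hx hxT => by rw [hTsupp ξ hξ η hη x (hUf x hx) hxT, mul_zero, zero_mul])]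
  calc α ξ * wt ξ * β η * IntMult.interProd δY m (Set.indicator {f ξ} 1) (Set.indicator {η} 1) ζ
      = α ξ * β η * (wt ξ *
          IntMult.interProd δY m (Set.indicator {f ξ} 1) (Set.indicator {η} 1) ζ) := by ring
    _ = α ξ * β η * ∑ x ∈ T ξ η, G ξ η x * wt x := by rw [hTeq ξ hξ η hη]
    _ = _ := by
      rw [Finset.mul_sum]
      exact Finset.sum_congr rfl fun x _ => by rw [← mul_assoc]

end Groth.Agent.IntMult12
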