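import Groth.Agent.IntMult12.FinFibre
import Groth.Agent.IntMult12.PullProd
import Groth.Agent.Div89.UFD
import Groth.Agent.Div89.RatPush
import Groth.Agent.Cyc90.MayerVietoris
import Groth.Agent.Cyc90.EnvelopeSeq
import Groth.Agent.VarGal.SmoothReg

/-!
# Local computations for the projection formula
-/

set_option autoImplicit false
set_option linter.style.haveILetI false
set_option linter.unusedSectionVars false

universe u

open CategoryTheory CategoryTheory.Limits AlgebraicGeometry IsLocalRing TensorProduct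

attribute [local instance] HasDerivedCategory.standard

namespace Groth.Agent.IntMult12

variable {X Y : Scheme.{u}}

/-- The stalk of `O_{ξ̄}` at a point of the closure is the local ring modulo the ideal of `ξ̄`. -/
theorem nonempty_stalk_clSheaf (ξ x : X) (h : ξ ⤳ x) :
    Nonempty ((clSheaf ξ).presheaf.stalk x ≃ₗ[X.presheaf.stalk x]
      X.presheaf.stalk x ⧸ IntMult.stalkIdeal (IntMult.ptIdeal ξ) x) := by
  obtain ⟨z, rfl⟩ : x ∈ Set.range (Cyc90.clι ξ) :=
    (Cyc90.range_clι ξ).ge (specializes_iff_mem_closure.1 h)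
  let H := Coh.structureModule (Cyc90.cl ξ)
  let A : Type u := X.presheaf.stalk (Cyc90.clι ξ z)
  let E : (clSheaf ξ).presheaf.stalk (Cyc90.clι ξ z) ≃+ (Cyc90.cl ξ).presheaf.stalk z :=
    (AddEquiv.ofBijective (QC70.pushStalk (Cyc90.clι ξ) H z) (QC70.bijective_pushStalk _ H z)).trans
      (QC70.unitStalkEquiv z).symm.toAddEquiv
  have hE : ∀ (a : A) m, E (a • m) = ((Cyc90.clι ξ).stalkMap z).hom a * E m := fun a m => by
    show (QC70.unitStalkEquiv z).symm (QC70.pushStalk (Cyc90.clι ξ) H z (a • m)) = _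
    erw [QC70.pushStalk_smul]
    exact LinearEquiv.map_smul (QC70.unitStalkEquiv z).symm _ _
  let l : A →ₗ[A] (clSheaf ξ).presheaf.stalk (Cyc90.clι ξ z) := LinearMap.toSpanSingleton A _ (E.symm 1)
  have hl : ∀ a, E (l a) = ((Cyc90.clι ξ).stalkMap z).hom a := fun a => by
    show E (a • E.symm 1) = _
    rw [hE, AddEquiv.apply_symm_apply, mul_one]
  have hsurj : Function.Surjective l := fun m => by
    obtain ⟨a, ha⟩ := (Cyc90.clι ξ).stalkMap_surjective z (E m)
    exact ⟨a, E.injective ((hl a).trans ha)⟩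
  refine ⟨((Submodule.quotEquivOfEq _ _ ?_).trans (l.quotKerEquivOfSurjective hsurj)).symm⟩
  rw [stalkIdeal_eq]
  ext a
  rw [LinearMap.mem_ker]
  refine (Div89.stalkMap_subschemeι_eq_zero_iff (IntMult.ptIdeal ξ) z a).symm.trans ?_
  rw [← E.map_eq_zero_iff, hl]
  rfl

/-- The stalk of `f^* O_{η̄}`. -/
theorem nonempty_stalk_pullback_clSheaf [IsLocallyNoetherian Y] (f : X ⟶ Y) (η : Y) (x : X) (ζ : Y) (h : f x = ζ) (hη : η ⤳ ζ)
    [iA : Algebra (Y.presheaf.stalk ζ) (X.presheaf.stalk x)]
    (halg : ∀ a, algebraMap (Y.presheaf.stalk ζ) (X.presheaf.stalk x) a =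
      f.stalkMap x ((Y.presheaf.stalkCongr (.of_eq h.symm)).hom a)) :
    Nonempty (((Scheme.Modules.pullback f).obj (clSheaf η)).presheaf.stalk x ≃ₗ[X.presheaf.stalk x]
      X.presheaf.stalk x ⊗[Y.presheaf.stalk ζ]
        (Y.presheaf.stalk ζ ⧸ IntMult.stalkIdeal (IntMult.ptIdeal η) ζ)) := by
  subst h
  haveI : (clSheaf η).IsQuasicoherent := (isCoh_clSheaf η).1
  obtain rfl : iA = (f.stalkMap x).hom.toAlgebra := Algebra.algebra_ext _ _ fun a => by
    refine (halg a).trans ?_
    simp [RingHom.algebraMap_toAlgebra]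
  obtain ⟨E⟩ := FlatMor68.PullbackStalk.nonempty_stalkPullbackEquiv f (clSheaf η) x
  obtain ⟨Q⟩ := nonempty_stalk_clSheaf η (f x) hη
  letI : Algebra (Y.presheaf.stalk (f x)) (X.presheaf.stalk x) := (f.stalkMap x).hom.toAlgebra
  exact ⟨E.trans (AlgebraTensorModule.congr (LinearEquiv.refl (X.presheaf.stalk x) (X.presheaf.stalk x)) Q)⟩

/-- Components of the inverse image of a closure have nonzero coefficient in the flat pullback. -/
theorem exists_pullFun_ne_zero [IsLocallyNoetherian X] [IsLocallyNoetherian Y] (f : X ⟶ Y) [Flat f]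
    {δX : X → ℤ} {δY : Y → ℤ} (hY : Cyc.IsDimFun Y δY) {c : ℤ} (hc : Cyc90.ShiftAt f δX δY c)
    (β : Y → ℤ) (η : Y) (hβ : β η ≠ 0) (x : X) (h : η ⤳ f x) :
    ∃ z, z ⤳ x ∧ f z = η ∧ δX z = δY η + c ∧ Cyc.pullFun f δX δY c β z ≠ 0 := by
  obtain ⟨w, hw, rfl⟩ := Flat.generalizingMap f h
  obtain ⟨z, hzw, hfz, hmax⟩ := Cyc90.exists_fibre_max f w
  have hz : δX z = δY (f w) + c := by rw [hc z hmax, hfz]
  refine ⟨z, hzw.trans hw, hfz, hz, ?_⟩
  haveI : (clSheaf (f w)).IsQuasicoherent := (isCoh_clSheaf (f w)).1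
  let F := (Scheme.Modules.pullback f).obj (clSheaf (f w))
  have hlen := Cyc90.length_stalk_pullback f (clSheaf (f w)) z
  have hone : Module.length (Y.presheaf.stalk (f z)) ((clSheaf (f w)).presheaf.stalk (f z)) = 1 := by
    rw [hfz]
    have h1 := congrFun (sheafFun_clSheaf δY hY (f w)) (f w)
    simp only [Cyc.sheafFun, Set.indicator_of_mem (Set.mem_singleton _), if_true, Pi.one_apply] at h1
    exact (ENat.toNat_eq_iff one_ne_zero).1 (by exact_mod_cast h1)
  rw [hone, one_mul] at hlen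
  have hnt : Module.length (X.presheaf.stalk z)
      (X.presheaf.stalk z ⧸ (maximalIdeal (Y.presheaf.stalk (f z))).map (f.stalkMap z).hom) ≠ ⊤ := by
    rw [← hlen]
    refine Cyc90.length_stalk_ne_top F (ConsProp93.isCoh_pullback f (isCoh_clSheaf _)) z fun z' hz' hspec => ?_
    have h1 := specializes_of_clSheaf (Cyc90.nontrivial_stalk_of_pullback f (clSheaf (f w)) z' hz')
    have h2 : f z' ⤳ f w := hfz ▸ hspec.map f.continuous
    exact hmax z' ((h2.antisymm h1).eq.trans hfz.symm) hspec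
  have hne : Module.length (X.presheaf.stalk z)
      (X.presheaf.stalk z ⧸ (maximalIdeal (Y.presheaf.stalk (f z))).map (f.stalkMap z).hom) ≠ 0 := by
    rw [Ne, Module.length_eq_zero_iff, Ideal.Quotient.subsingleton_iff]
    exact ne_top_of_le_ne_top (maximalIdeal.isMaximal _).ne_top
      (Ideal.map_le_iff_le_comap.2 (IsLocalRing.maximalIdeal_comap _).ge)
  simp only [Cyc.pullFun]
  rw [if_pos (by rw [hfz]; exact hz)]
  refine mul_ne_zero (by rw [hfz]; exact hβ) ?_
  exact_mod_cast fun h0 => hne ((ENat.toNat_eq_zero.1 h0).resolve_right hnt)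

/-- Lengths at a prime via any model of the local ring. -/
theorem locLen_eq_length_tensor {S : Type u} [CommRing S] (P : Ideal S) [P.IsPrime] (A : Type u) [CommRing A]
    [Algebra S A] [IsLocalization.AtPrime A P] (M : Type u) [AddCommGroup M] [Module S M] :
    Len90.locLen P M = Module.length A (A ⊗[S] M) := by
  let σ := IsLocalization.algEquiv P.primeCompl (Localization.AtPrime P) A
  let e1 := (IsLocalizedModule.isBaseChange P.primeCompl (Localization.AtPrime P)
    (LocalizedModule.mkLinearMap P.primeCompl M)).equiv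
  let t : Localization.AtPrime P ⊗[S] M ≃ₗ[S] A ⊗[S] M :=
    TensorProduct.congr σ.toLinearEquiv (LinearEquiv.refl S M)
  rw [Len90.locLen, ← e1.length_eq]
  refine Cyc90.length_eq_of_semilinear σ.toRingEquiv.toRingHom σ.surjective t.toAddEquiv fun a z => ?_
  show t (a • z) = σ a • t z
  induction z using TensorProduct.induction_on with
  | zero => simp
  | tmul c h =>
    rw [TensorProduct.smul_tmul', TensorProduct.congr_tmul, TensorProduct.congr_tmul, TensorProduct.smul_tmul',
      smul_eq_mul]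
    exact congrArg (· ⊗ₜ[S] h) (map_mul σ a c)
  | add c d hc hd => rw [smul_add, map_add, map_add, hc, hd, smul_add]

theorem residueDegree_clι_comp (f : X ⟶ Y) (ξ : X) (z : ↥(Cyc90.cl ξ)) :
    (Cyc90.clι ξ ≫ f).residueDegree z = f.residueDegree (Cyc90.clι ξ z) := by
  rw [Div89.residueDegree_comp,
    Cyc90.residueDegree_of_surjective _ _ (Cyc90.residueFieldMap_surjective (Cyc90.clι ξ) z), mul_one]

end Groth.Agent.IntMult12
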