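import Groth.Agent.IntMult12.Dim
import Groth.Agent.WC97.Cycles
import Groth.Prelude.Def_RegImm
import Mathlib.RingTheory.Ideal.KrullsHeightTheorem

/-!
# Components of preimages under regular immersions
-/

set_option autoImplicit false
set_option linter.style.haveILetI false

universe u

open CategoryTheory CategoryTheory.Limits AlgebraicGeometry

namespace Groth.Agent.IntMult12

variable {K : Type u} [Field K]

theorem pdim_immersion {P Y : Scheme.{u}} (g : P ⟶ Y) [IsImmersion g] (fY : Y ⟶ Spec (CommRingCat.of K))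
    [LocallyOfFiniteType fY] (t : P) : WeilCoh.pdim Y (g t) = WeilCoh.pdim P t := by
  refine WC97.pdim_eq_of_residueDegree_ne_zero (g ≫ fY) (fY := fY) rfl t ?_
  have hs : Function.Surjective (g.residueFieldMap t).hom := by
    intro z
    obtain ⟨a, rfl⟩ := P.residue_surjective t z
    obtain ⟨b, rfl⟩ := g.stalkMap_surjective t a
    exact ⟨Y.residue (g t) b, congr($(Scheme.residue_residueFieldMap g t) b)⟩
  letI := (g.residueFieldMap t).hom.toAlgebra
  show Module.finrank _ _ ≠ 0
  rw [← (LinearEquiv.ofBijective (Algebra.linearMap (Y.residueField (g t)) (P.residueField t))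
    ⟨RingHom.injective _, hs⟩).finrank_eq, Module.finrank_self]
  exact one_ne_zero

/-- Components of the preimage of a subvariety under a regular immersion of codimension `c`. -/
theorem le_dim_preimage (X Y Z : Scheme.{u}) (gX : X ⟶ Spec (CommRingCat.of K))
    (gY : Y ⟶ Spec (CommRingCat.of K)) [QuasiCompact gX] [IsSeparated gY] [LocallyOfFiniteType gY]
    (f : X ⟶ Y) (hf : f ≫ gY = gX) (c : ℕ)
    (hreg : RegImm.IsRegularImmersionOfCodim RegImm.Kind.regular c f) (ι : Z ⟶ Y) [IsClosedImmersion ι]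
    [IsIntegral Z] (d : ℕ) (hd : topologicalKrullDim Z = d) (T : Set ↥(pullback f ι))
    (hT : T ∈ irreducibleComponents ↥(pullback f ι)) :
    ((d : ℕ) : WithBot ℕ∞) ≤ topologicalKrullDim ↥T + c := by
  haveI : IsImmersion f := hreg.1
  haveI : QuasiCompact (f ≫ gY) := hf ▸ inferInstance
  haveI : QuasiCompact f := QuasiCompact.of_comp f gY
  let π : pullback f ι ⟶ Y := pullback.snd f ι ≫ ι
  have hπ1 : pullback.fst f ι ≫ f = π := pullback.condition
  haveI : IsImmersion (pullback.snd f ι) := inferInstance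
  haveI : IsImmersion π := inferInstance
  -- the generic point of `T`
  have hTg := hT.1.isGenericPoint_genericPoint (isClosed_of_mem_irreducibleComponents T hT)
  set t := hT.1.genericPoint
  have hmax : ∀ t' : ↥(pullback f ι), t' ⤳ t → t' = t := by
    intro t' hs
    have h1 : T ⊆ closure {t'} := by
      rw [← hTg.def]; exact specializes_iff_closure_subset.1 hs
    have h2 : closure {t'} = T := (hT.2 isIrreducible_singleton.closure h1).antisymm h1
    exact IsGenericPoint.eq (show IsGenericPoint t' T from h2) hTg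
  obtain ⟨U, hzU0, hcl, rs, hlen, -, hker⟩ := hreg.2 (pullback.fst f ι t)
  let z : Y := π t
  have hzU : z ∈ U.1 := by
    show π t ∈ U.1
    rw [← hπ1]
    exact hzU0
  let η : Y := ι (genericPoint Z)
  have hηz : η ⤳ z := (genericPoint_specializes (pullback.snd f ι t)).map ι.continuous
  have hηU : η ∈ U.1 := hηz.mem_open U.1.isOpen hzU
  letI : Algebra K Γ(Y, U.1) := (WC97.kSec gY U.2).toAlgebra
  haveI : Algebra.FiniteType K Γ(Y, U.1) := WC97.kSec_finiteType gY U.2
  haveI : IsNoetherianRing Γ(Y, U.1) := Algebra.FiniteType.isNoetherianRing K _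
  let q := Div89.primeAt U η hηU
  let w := Div89.primeAt U z hzU
  have hqw : q ≤ w := (Div89.specializes_iff_primeAt_le U hzU hηU).1 hηz
  let J : Ideal Γ(Y, U.1) := Ideal.ofList rs
  have hJker : f.ker.ideal U = J := (Scheme.Hom.ker_apply f U).trans hker
  have hJrange : ∀ (y : Y) (hy : y ∈ U.1), J ≤ Div89.primeAt U y hy ↔ y ∈ Set.range f := by
    intro y hy
    rw [← hJker, ← Div89.mem_support_iff_le f.ker U y hy]
    refine ⟨fun h => ?_, fun h => f.range_subset_ker_support h⟩
    have h' : y ∈ closure (Set.range f) := by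
      have h2 := Scheme.Hom.support_ker f
      have h3 : y ∈ (f.ker.support : Set Y) := h
      rw [h2] at h3
      exact h3
    by_contra hy'
    haveI := hcl
    let O : Set U.1.toScheme := (Set.range (f ∣_ U.1))ᶜ
    have hO : IsOpen O := (f ∣_ U.1).isClosedEmbedding.isClosed_range.isOpen_compl
    obtain ⟨_, ⟨y', hy'O, rfl⟩, ⟨x, hx⟩⟩ := mem_closure_iff.1 h' (U.1.ι '' O)
      (U.1.ι.isOpenEmbedding.isOpenMap O hO) ⟨⟨y, hy⟩, fun ⟨x, hx⟩ => hy' ⟨_, by
        have := congr(($(morphismRestrict_ι f U.1)).base x)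
        simp only [Scheme.Hom.comp_base, TopCat.comp_app] at this
        rw [hx] at this
        exact this.symm⟩, rfl⟩
    refine hy'O ⟨⟨x, show f x ∈ U.1 from hx ▸ y'.2⟩, U.1.ι.isOpenEmbedding.injective ?_⟩
    have h3 := congr(($(morphismRestrict_ι f U.1)).base (⟨x, show f x ∈ U.1 from hx ▸ y'.2⟩ : (f ⁻¹ᵁ U.1).toScheme))
    simp only [Scheme.Hom.comp_base, TopCat.comp_app] at h3
    exact h3.trans hx
  have hwmin : w ∈ (q ⊔ J).minimalPrimes := by
    refine ⟨⟨inferInstance, sup_le hqw ((hJrange z hzU).2 ⟨pullback.fst f ι t, by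
      show _ = π t; rw [← hπ1]; rfl⟩)⟩, ?_⟩
    rintro v ⟨hv, hle⟩ hvw
    obtain ⟨y, hy, rfl⟩ := Div89.exists_point U v
    obtain ⟨x', hx'⟩ := (hJrange y hy).1 (le_sup_right.trans hle)
    have hηy : η ⤳ y := (Div89.specializes_iff_primeAt_le U hy hηU).2 (le_sup_left.trans hle)
    obtain ⟨z', hz'⟩ : y ∈ Set.range ι := hηy.mem_closed ι.isClosedEmbedding.isClosed_range ⟨_, rfl⟩
    obtain ⟨p', hp1, hp2⟩ := Scheme.Pullback.exists_preimage_pullback (f := f) (g := ι) x' z' (hx'.trans hz'.symm)
    have hpy : π p' = y := by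
      rw [← hπ1]
      show f (pullback.fst f ι p') = y
      rw [hp1, hx']
    have hs : p' ⤳ t := π.isEmbedding.isInducing.specializes_iff.1
      (by rw [hpy]; exact (Div89.specializes_iff_primeAt_le U hzU hy).2 hvw)
    obtain rfl := hmax p' hs
    exact le_of_eq (by simp only [w, z, hpy])
  -- Krull
  haveI := Ideal.isPrime_map_quotientMk_of_isPrime hqw
  have hht : (w.map (Ideal.Quotient.mk q)).height ≤ c := by
    classical
    let s : Set (Γ(Y, U.1) ⧸ q) := Ideal.Quotient.mk q '' {a | a ∈ rs}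
    have hs : Ideal.span s = J.map (Ideal.Quotient.mk q) := by
      rw [Ideal.map_span]
    have hmin : w.map (Ideal.Quotient.mk q) ∈ (Ideal.span s).minimalPrimes := by
      rw [hs]
      refine ⟨⟨inferInstance, Ideal.map_mono (le_sup_right.trans hwmin.1.2)⟩, fun v hv hvw => ?_⟩
      haveI := hv.1
      have h1 := hwmin.2 (y := v.comap (Ideal.Quotient.mk q)) ⟨Ideal.IsPrime.comap _, sup_le
        (fun a ha => by rw [Ideal.mem_comap, Ideal.Quotient.eq_zero_iff_mem.2 ha]; exact zero_mem _)
        (Ideal.map_le_iff_le_comap.1 hv.2)⟩ ((Ideal.comap_mono hvw).trans (by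
          rw [Ideal.comap_map_of_surjective _ Ideal.Quotient.mk_surjective, ← RingHom.ker_eq_comap_bot,
            Ideal.mk_ker]
          exact sup_le le_rfl hqw))
      exact (Ideal.map_mono h1).trans Ideal.map_comap_le
    have hfin : ({a | a ∈ rs} : Set Γ(Y, U.1)).Finite := List.finite_toSet rs
    refine (Ideal.height_le_card_of_mem_minimalPrimes_span (hfin.image _) hmin).trans ?_
    have h1 := Set.ncard_image_le (f := Ideal.Quotient.mk q) hfin
    rw [show {a | a ∈ rs} = (rs.toFinset : Set Γ(Y, U.1)) by ext; simp, Set.ncard_coe_finset] at h1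
    refine Nat.cast_le.2 (le_trans ?_ ((List.toFinset_card_le rs).trans hlen.le))
    simpa [s] using h1
  have hh := CAlgH2.height_add_trdegQuot K q w hqw
  -- dimensions
  have hdT : topologicalKrullDim ↥T = (CAlgH2.trdegQuot K w : ℕ) := by
    rw [show T = closure {t} from hTg.def.symm, WC97.topologicalKrullDim_closure (π ≫ gY),
      ← WC97.pdim_eq (π ≫ gY), ← pdim_immersion π gY t, WC97.pdim_eq gY, tdegN_eq_trdegQuot gY U hzU]
  have hdZ : d = CAlgH2.trdegQuot K q := by
    have h1 : topologicalKrullDim ↥(closure ({genericPoint Z} : Set Z)) = d := by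
      rw [(genericPoint_spec Z).def, IsHomeomorph.topologicalKrullDim_eq _ (Homeomorph.Set.univ Z).isHomeomorph, hd]
    rw [WC97.topologicalKrullDim_closure (ι ≫ gY), ← WC97.pdim_eq (ι ≫ gY),
      ← pdim_immersion ι gY (genericPoint Z), WC97.pdim_eq gY, tdegN_eq_trdegQuot gY U hηU] at h1
    exact_mod_cast h1.symm
  rw [hdT, hdZ, ← Nat.cast_add, Nat.cast_le]
  obtain ⟨m, hm⟩ := ENat.ne_top_iff_exists.1 (ne_top_of_le_ne_top (ENat.natCast_ne_top c) hht)
  rw [← hm] at hh hht
  have e1 : m + CAlgH2.trdegQuot K w = CAlgH2.trdegQuot K q := by exact_mod_cast hh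
  have e2 : m ≤ c := by exact_mod_cast hht
  omega

end Groth.Agent.IntMult12
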