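import Groth.Agent.IntMult12.ChiAdd
import Groth.Agent.LA18.GrKoszul

/-!
# The Koszul characteristic of a derived tensor product
-/

set_option autoImplicit false
set_option linter.style.haveILetI false
set_option linter.unusedSectionVars false

universe u

open CategoryTheory CategoryTheory.Limits MonoidalCategory IsLocalRing
open scoped Pointwise

attribute [local instance] HasDerivedCategory.standard

namespace Groth.Agent.IntMult12

namespace Theta

variable {R : Type u} [CommRing R]

/-- `Tor_i(X, N)`, computed with the chosen projective resolution of `N` -/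
noncomputable abbrev TH (X N : Type u) [AddCommGroup X] [Module R X] [AddCommGroup N] [Module R N] (i : ℕ) :
    ModuleCat.{u} R :=
  (TorBal94.cx (ModuleCat.of R X) (ModuleCat.of R N)).homology i

theorem nonempty_tor_equiv (X N : Type u) [AddCommGroup X] [Module R X] [AddCommGroup N] [Module R N] (i : ℕ) :
    Nonempty (DRing.Tor R i X N ≃ₗ[R] TH (R := R) X N i) :=
  ⟨((projectiveResolution (ModuleCat.of R N)).isoLeftDerivedObj ((tensoringLeft (ModuleCat.{u} R)).obj
      (ModuleCat.of R X)) i).toLinearEquiv⟩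

/-- the support condition for `χ(l; Tor(X, N))` -/
def TGood (l : List R) (X N : Type u) [AddCommGroup X] [Module R X] [AddCommGroup N] [Module R N] : Prop :=
  ∀ p ∈ Module.support R X, p ∈ Module.support R N → Ideal.ofList l ≤ p.asIdeal → p.asIdeal.IsMaximal

/-- `Σ (-1)^i χ(l; Tor_i(X, N))` -/
noncomputable def theta (l : List R) (X N : Type u) [AddCommGroup X] [Module R X] [AddCommGroup N]
    [Module R N] : ℤ :=
  ∑ᶠ i : ℕ, (-1 : ℤ) ^ i * LC17.chi l (DRing.Tor R i X N)

variable {N : Type u} [AddCommGroup N] [Module R N]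
variable {X : Type u} [AddCommGroup X] [Module R X]

theorem TGood.mono {l : List R} (h : TGood l X N) {Y : Type u} [AddCommGroup Y] [Module R Y]
    (hs : Module.support R Y ⊆ Module.support R X) : TGood l Y N := fun p hp => h p (hs hp)

theorem TGood.tail {f : R} {l : List R} (h : TGood (f :: l) X N) {Y : Type u} [AddCommGroup Y] [Module R Y]
    (hs : Module.support R Y ⊆ Module.support R X) (n : ℕ) (hf : ∀ y : Y, f ^ n • y = 0) : TGood l Y N :=
  fun p hp hpN hl => h p (hs hp) hpN (by
    rw [Ideal.ofList_cons, sup_le_iff, Ideal.span_singleton_le_iff_mem]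
    exact ⟨p.2.mem_of_pow_mem _ (LA18.mem_of_smul_eq_zero_of_mem_support hf hp), hl⟩)

theorem TGood.quotSMulTop {f : R} {l : List R} (h : TGood (f :: l) X N) :
    TGood l (QuotSMulTop f X) N :=
  h.tail (Module.support_subset_of_surjective (Submodule.mkQ (f • ⊤ : Submodule R X))
    (Submodule.mkQ_surjective _)) 1 fun y => by
      rw [pow_one]
      exact Module.mem_annihilator.1 (QuotSMulTop.mem_annihilator X f) y

variable [IsRegularLocalRing R]

theorem good_tor [Module.Finite R X] [Module.Finite R N] {l : List R} (h : TGood l X N) (i : ℕ) :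
    LC17.Good l (DRing.Tor R i X N) := fun p hp =>
  h p (mem_support_of_tor X N i hp).1 (mem_support_of_tor X N i hp).2

theorem finite_TH [Module.Finite R X] [Module.Finite R N] (i : ℕ) : Module.Finite R (TH (R := R) X N i) := by
  haveI : Module.Finite R (DRing.Tor R i X N) := S6315.result R X N i
  exact Module.Finite.equiv (nonempty_tor_equiv X N i).some

theorem good_TH [Module.Finite R X] [Module.Finite R N] {l : List R} (h : TGood l X N) (i : ℕ) :
    LC17.Good l (TH (R := R) X N i) :=
  (good_tor h i).mono (nonempty_tor_equiv X N i).some.support_eq.ge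

theorem theta_eq_sum {d : ℕ} (hd : ringKrullDim R = d) (l : List R) (n : ℕ) (hn : d ≤ n) :
    theta l X N = ∑ i ∈ Finset.range (n + 1), (-1 : ℤ) ^ i * LC17.chi l (TH (R := R) X N i) := by
  rw [show (∑ i ∈ Finset.range (n + 1), (-1 : ℤ) ^ i * LC17.chi l (TH (R := R) X N i)) =
      ∑ i ∈ Finset.range (n + 1), (-1 : ℤ) ^ i * LC17.chi l (DRing.Tor R i X N) from
    Finset.sum_congr rfl fun i _ => by rw [LC17.chi_congr l (nonempty_tor_equiv X N i).some]]
  refine finsum_eq_sum_of_support_subset _ fun i hi => ?_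
  rw [Finset.coe_range, Set.mem_Iio]
  by_contra hc
  refine hi ?_
  haveI := subsingleton_tor_of_lt hd X N i (by omega)
  show (-1 : ℤ) ^ i * _ = 0
  rw [LC17.chi_subsingleton, mul_zero]

theorem exists_dim : ∃ d : ℕ, ringKrullDim R = d :=
  ⟨_, (IsRegularLocalRing.spanFinrank_maximalIdeal (R := R)).symm⟩

omit [IsRegularLocalRing R] in
theorem theta_congr (l : List R) {Y : Type u} [AddCommGroup Y] [Module R Y] (e : X ≃ₗ[R] Y) :
    theta l X N = theta l Y N :=
  finsum_congr fun i => by
    rw [LC17.chi_congr l (((CategoryTheory.Tor (ModuleCat.{u} R) i).mapIso e.toModuleIso).app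
      (ModuleCat.of R N)).toLinearEquiv]

section LES

variable [Module.Finite R N]
variable {X₁ X₂ X₃ : Type u} [AddCommGroup X₁] [Module R X₁] [AddCommGroup X₂] [Module R X₂]
  [AddCommGroup X₃] [Module R X₃] [Module.Finite R X₁] [Module.Finite R X₂] [Module.Finite R X₃]
  (f : X₁ →ₗ[R] X₂) (g : X₂ →ₗ[R] X₃)

/-- the maps of the long exact sequence -/
theorem exists_les (hf : Function.Injective f) (hfg : Function.Exact f g) (hg : Function.Surjective g) :
    ∃ (gi : ∀ i, TH (R := R) X₂ N i →ₗ[R] TH (R := R) X₃ N i)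
      (di : ∀ i, TH (R := R) X₃ N (i + 1) →ₗ[R] TH (R := R) X₁ N i),
      (∀ i, LinearMap.range (di i) =
        LinearMap.ker (HomologicalComplex.homologyMap
          (TorBal94.cxMap (ModuleCat.ofHom f) (ModuleCat.of R N)) i).hom) ∧
      (∀ i, LinearMap.range (HomologicalComplex.homologyMap
          (TorBal94.cxMap (ModuleCat.ofHom f) (ModuleCat.of R N)) i).hom = LinearMap.ker (gi i)) ∧
      (∀ i, LinearMap.range (gi (i + 1)) = LinearMap.ker (di i)) ∧ Function.Surjective (gi 0) := by
  let S := ModuleCat.of R N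
  let T := ShortComplex.mk (TorBal94.cxMap (ModuleCat.ofHom f) S) (TorBal94.cxMap (ModuleCat.ofHom g) S)
    (TorBal94.cxMap_comp_eq_zero f g hfg.linearMap_comp_eq_zero S)
  have hT : T.ShortExact := TorBal94.shortExact_cx f g hf hfg hg S
  refine ⟨fun i => (HomologicalComplex.homologyMap T.g i).hom, fun i => (hT.δ (i + 1) i rfl).hom, fun i => ?_,
    fun i => ?_, fun i => ?_, ?_⟩
  · exact (ShortComplex.moduleCat_exact_iff_range_eq_ker _).1 (hT.homology_exact₁ (i + 1) i rfl)
  · exact (ShortComplex.moduleCat_exact_iff_range_eq_ker _).1 (hT.homology_exact₂ i)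
  · exact (ShortComplex.moduleCat_exact_iff_range_eq_ker _).1 (hT.homology_exact₃ (i + 1) i rfl)
  · haveI : Epi (HomologicalComplex.homologyMap T.g 0) := by
      haveI : IsIso (T.X₂.iCycles 0) := T.X₂.isIso_iCycles 0 _ rfl (T.X₂.shape _ _ (by simp))
      haveI : IsIso (T.X₃.iCycles 0) := T.X₃.isIso_iCycles 0 _ rfl (T.X₃.shape _ _ (by simp))
      haveI : Epi (T.g.f 0) := by
        rw [ModuleCat.epi_iff_surjective]
        exact LinearMap.rTensor_surjective _ hg
      have hc : HomologicalComplex.cyclesMap T.g 0 = T.X₂.iCycles 0 ≫ T.g.f 0 ≫ inv (T.X₃.iCycles 0) := by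
        rw [← Category.assoc, IsIso.eq_comp_inv, HomologicalComplex.cyclesMap_i]
      haveI : Epi (HomologicalComplex.cyclesMap T.g 0) := by rw [hc]; infer_instance
      haveI : Epi (T.X₂.homologyπ 0 ≫ HomologicalComplex.homologyMap T.g 0) := by
        rw [HomologicalComplex.homologyπ_naturality]
        infer_instance
      exact epi_of_epi (T.X₂.homologyπ 0) _
    exact (ModuleCat.epi_iff_surjective _).1 this

omit [IsRegularLocalRing R] in
theorem chi_ker_range [IsNoetherianRing R] {B C : Type u} [AddCommGroup B] [Module R B] [Module.Finite R B]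
    [AddCommGroup C] [Module R C] (l : List R) (φ : B →ₗ[R] C) (h : LC17.Good l B) :
    LC17.chi l B = LC17.chi l (LinearMap.ker φ) + LC17.chi l (LinearMap.range φ) :=
  LC17.chi_exact l (LinearMap.ker φ).subtype φ.rangeRestrict Subtype.val_injective
    φ.surjective_rangeRestrict
    (LinearMap.exact_iff.2 (by rw [LinearMap.ker_rangeRestrict, Submodule.range_subtype])) h

/-- `theta` is additive in short exact sequences. -/
theorem theta_add (hf : Function.Injective f) (hfg : Function.Exact f g) (hg : Function.Surjective g)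
    (l : List R) (h : TGood l X₂ N) : theta l X₂ N = theta l X₁ N + theta l X₃ N := by
  obtain ⟨d, hd⟩ := exists_dim (R := R)
  obtain ⟨gi, di, e1, e2, e3, e0⟩ := exists_les (N := N) f g hf hfg hg
  have hs := Module.support_of_exact hfg hf hg
  have h1 : TGood l X₁ N := h.mono (hs ▸ Set.subset_union_left)
  have h3 : TGood l X₃ N := h.mono (hs ▸ Set.subset_union_right)
  haveI := fun i => finite_TH (R := R) (X := X₁) (N := N) i
  haveI := fun i => finite_TH (R := R) (X := X₂) (N := N) i
  haveI := fun i => finite_TH (R := R) (X := X₃) (N := N) i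
  let fi := fun i => (HomologicalComplex.homologyMap
    (TorBal94.cxMap (ModuleCat.ofHom f) (ModuleCat.of R N)) i).hom
  rw [theta_eq_sum hd l (d + 1) (by omega), theta_eq_sum hd l (d + 1) (by omega),
    theta_eq_sum hd l (d + 1) (by omega)]
  refine alt_sum_eq_zero (D := fun i => LC17.chi l (LinearMap.range (di i)))
    (F := fun i => LC17.chi l (LinearMap.range (fi i)))
    (G := fun i => LC17.chi l (LinearMap.range (gi i))) (d + 1) (fun i => ?_) (fun i => ?_) (fun i => ?_) ?_ ?_
  · rw [chi_ker_range l (fi i) (good_TH h1 i)]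
    exact congrArg (· + _) (LC17.chi_congr l (LinearEquiv.ofEq _ _ (e1 i).symm))
  · rw [chi_ker_range l (gi i) (good_TH h i)]
    exact congrArg (· + _) (LC17.chi_congr l (LinearEquiv.ofEq _ _ (e2 i).symm))
  · rw [chi_ker_range l (di i) (good_TH h3 (i + 1))]
    exact congrArg (· + _) (LC17.chi_congr l (LinearEquiv.ofEq _ _ (e3 i).symm))
  · exact (LC17.chi_congr l ((LinearEquiv.ofEq _ _ (LinearMap.range_eq_top.2 e0)).trans
      Submodule.topEquiv)).symm
  · haveI : Subsingleton (TH (R := R) X₁ N (d + 1)) :=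
      haveI := subsingleton_tor_of_lt hd X₁ N (d + 1) (by omega)
      (nonempty_tor_equiv X₁ N (d + 1)).some.symm.toEquiv.subsingleton
    show LC17.chi l (LinearMap.range (di (d + 1))) = 0
    rw [LC17.chi_subsingleton]

end LES

variable [Module.Finite R X] [Module.Finite R N]

theorem theta_cons_smul_zero {f : R} {l : List R} (h : TGood (f :: l) X N) (hf : ∀ x : X, f • x = 0) :
    theta (f :: l) X N = 0 := by
  refine (finsum_congr fun i => ?_).trans finsum_zero
  haveI : Module.Finite R (DRing.Tor R i X N) := S6315.result R X N i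
  rw [LC17.chi_cons_smul_zero (good_tor h i) fun t => ?_, mul_zero]
  let e := (LA18.tor_symm (A := R) X N i).some
  exact e.injective (by rw [map_smul, map_zero, smul_tor_eq_zero (V := N) hf i])

omit [Module.Finite R X] [Module.Finite R N] in
theorem cxMap_lsmul (a : R) :
    TorBal94.cxMap (ModuleCat.ofHom (LinearMap.lsmul R X a)) (ModuleCat.of R N) =
      a • 𝟙 (TorBal94.cx (ModuleCat.of R X) (ModuleCat.of R N)) := by
  refine HomologicalComplex.hom_ext _ _ fun j => ?_
  rw [HomologicalComplex.smul_f_apply, HomologicalComplex.id_f]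
  apply ModuleCat.hom_ext
  refine TensorProduct.ext' fun x y => ?_
  show (a • x) ⊗ₜ[R] y = a • (x ⊗ₜ[R] y)
  rw [TensorProduct.smul_tmul']

theorem theta_cons_regular {f : R} {l : List R} (h : TGood (f :: l) X N) (hreg : IsSMulRegular X f) :
    theta (f :: l) X N = theta l (QuotSMulTop f X) N := by
  obtain ⟨d, hd⟩ := exists_dim (R := R)
  let μ : X →ₗ[R] X := LinearMap.lsmul R X f
  let q : X →ₗ[R] QuotSMulTop f X := Submodule.mkQ (f • ⊤ : Submodule R X)
  have hq : Function.Surjective q := Submodule.mkQ_surjective _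
  have hex : Function.Exact μ q := fun m => by
    show Submodule.Quotient.mk m = 0 ↔ _
    rw [Submodule.Quotient.mk_eq_zero, Submodule.mem_smul_pointwise_iff_exists]
    simp [μ]
  obtain ⟨gi, di, e1, e2, e3, e0⟩ := exists_les (N := N) μ q hreg hex hq
  haveI := fun i => finite_TH (R := R) (X := X) (N := N) i
  haveI := fun i => finite_TH (R := R) (X := QuotSMulTop f X) (N := N) i
  have hmu : ∀ i, (HomologicalComplex.homologyMap
      (TorBal94.cxMap (ModuleCat.ofHom μ) (ModuleCat.of R N)) i).hom =
      LinearMap.lsmul R (TH (R := R) X N i) f := fun i => by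
    rw [cxMap_lsmul, homologyMap_smul_id]
    ext x
    rfl
  -- the two pieces
  let P : ℕ → ℤ := fun i => LC17.chi l (LC17.Cok f (TH (R := R) X N i))
  let Q : ℕ → ℤ := fun i => LC17.chi l (LC17.Ker f (TH (R := R) X N i))
  have hP : ∀ i, LC17.chi l (LinearMap.range (gi i)) = P i := fun i => by
    refine LC17.chi_congr l ((gi i).quotKerEquivRange.symm.trans (Submodule.quotEquivOfEq _ _ ?_))
    rw [← e2 i, hmu]
  have hQ : ∀ i, LC17.chi l (LinearMap.range (di i)) = Q i := fun i =>
    LC17.chi_congr l (LinearEquiv.ofEq _ _ (by rw [e1 i, hmu]))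
  have h0 : LC17.chi l (TH (R := R) (QuotSMulTop f X) N 0) = P 0 := by
    rw [← hP 0]
    exact (LC17.chi_congr l ((LinearEquiv.ofEq _ _ (LinearMap.range_eq_top.2 e0)).trans
      Submodule.topEquiv)).symm
  have hs : ∀ i, LC17.chi l (TH (R := R) (QuotSMulTop f X) N (i + 1)) = P (i + 1) + Q i := fun i => by
    rw [chi_ker_range l (di i) (good_TH h.quotSMulTop (i + 1)), ← hP, ← hQ,
      LC17.chi_congr l (LinearEquiv.ofEq _ _ (e3 i))]
  rw [theta_eq_sum hd (f :: l) (d + 1) (by omega), theta_eq_sum hd l (d + 1) (by omega)]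
  refine (Finset.sum_congr rfl fun i _ => ?_).trans (?_ : ∑ i ∈ Finset.range (d + 1 + 1),
    (-1 : ℤ) ^ i * (P i - Q i) = _)
  · rw [LA18.chi_cons_split (good_TH h i)]
  have key : ∀ n, ∑ i ∈ Finset.range (n + 1), (-1 : ℤ) ^ i * (P i - Q i) =
      ∑ i ∈ Finset.range (n + 1), (-1 : ℤ) ^ i * LC17.chi l (TH (R := R) (QuotSMulTop f X) N i) -
        (-1 : ℤ) ^ n * Q n := by
    intro n
    induction n with
    | zero => simp [h0]
    | succ n ih => rw [Finset.sum_range_succ, ih, Finset.sum_range_succ _ (n + 1), hs]; ring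
  haveI : Subsingleton (TH (R := R) X N (d + 1)) :=
    haveI := subsingleton_tor_of_lt hd X N (d + 1) (by omega)
    (nonempty_tor_equiv X N (d + 1)).some.symm.toEquiv.subsingleton
  rw [key, show Q (d + 1) = 0 from LC17.chi_subsingleton _ _, mul_zero, sub_zero]

theorem theta_cons_pow_smul_zero {f : R} {l : List R} (h : TGood (f :: l) X N) (n : ℕ)
    (hf : ∀ x : X, f ^ (n + 1) • x = 0) : theta (f :: l) X N = 0 := by
  refine (finsum_congr fun i => ?_).trans finsum_zero
  haveI : Module.Finite R (DRing.Tor R i X N) := S6315.result R X N i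
  have hkill : ∀ t : DRing.Tor R i X N, f ^ (n + 1) • t = 0 := fun t =>
    (LA18.tor_symm (A := R) X N i).some.injective (by rw [map_smul, map_zero, smul_tor_eq_zero (V := N) hf i])
  have hG := good_tor h i
  have hpow := LC17.chi_pow hG (n + 1)
  rw [LC17.chi_cons_smul_zero (hG.of_le fun p hp => by
    rw [Ideal.ofList_cons, sup_le_iff, Ideal.span_singleton_le_iff_mem] at hp ⊢
    exact ⟨p.2.mem_of_pow_mem _ hp.1, hp.2⟩) hkill] at hpow
  rw [(mul_eq_zero.1 hpow.symm).resolve_left (by exact_mod_cast Nat.succ_ne_zero n), mul_zero]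

/-- one more element -/
theorem theta_cons {f : R} {l : List R} (h : TGood (f :: l) X N) :
    theta (f :: l) X N = theta l (LC17.Cok f X) N - theta l (LC17.Ker f X) N := by
  obtain ⟨n, hn⟩ := monotone_stabilizes_iff_noetherian.2 (inferInstance : IsNoetherian R X)
    ⟨fun k : ℕ => LinearMap.ker (LinearMap.lsmul R X (f ^ k)), fun a b hab x hx => by
      obtain ⟨c, rfl⟩ := Nat.exists_eq_add_of_le hab
      simp only [LinearMap.mem_ker, LinearMap.lsmul_apply] at hx ⊢
      rw [pow_add, mul_comm, mul_smul, hx, smul_zero]⟩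
  let T : Submodule R X := LinearMap.ker (LinearMap.lsmul R X (f ^ (n + 1)))
  have hT1 : ∀ x : T, f ^ (n + 1) • x = 0 := fun x => Subtype.ext (LinearMap.mem_ker.1 x.2)
  have hreg : IsSMulRegular (X ⧸ T) f := by
    rw [isSMulRegular_iff_right_eq_zero_of_smul]
    intro y hy
    obtain ⟨x, rfl⟩ := T.mkQ_surjective y
    have hx : f • x ∈ T := (Submodule.Quotient.mk_eq_zero T).1 hy
    refine (Submodule.Quotient.mk_eq_zero T).2 ?_
    have hx' : x ∈ LinearMap.ker (LinearMap.lsmul R X (f ^ (n + 2))) := by
      have := LinearMap.mem_ker.1 hx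
      simp only [LinearMap.mem_ker, LinearMap.lsmul_apply] at this ⊢
      rwa [pow_succ, mul_smul]
    have e1 := hn (n + 1) (by omega)
    have e2 := hn (n + 2) (by omega)
    change x ∈ LinearMap.ker (LinearMap.lsmul R X (f ^ (n + 1)))
    exact (le_of_eq (e2.symm.trans e1)) hx'
  have hsub : Module.support R T ⊆ Module.support R X :=
    Module.support_subset_of_injective T.subtype T.subtype_injective
  have hGT : TGood l T N := h.tail hsub (n + 1) hT1
  have hG3 : TGood (f :: l) (X ⧸ T) N :=
    h.mono (Module.support_subset_of_surjective T.mkQ T.mkQ_surjective)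
  rw [theta_add T.subtype T.mkQ T.subtype_injective (LinearMap.exact_subtype_mkQ T) T.mkQ_surjective
      (f :: l) h, theta_cons_pow_smul_zero (h.mono hsub) n hT1, zero_add, theta_cons_regular hG3 hreg]
  let μ : T →ₗ[R] T := LinearMap.lsmul R T f
  have e1 := theta_add (N := N) (LinearMap.ker μ).subtype μ.rangeRestrict Subtype.val_injective
    (LinearMap.exact_iff.2 (by rw [LinearMap.ker_rangeRestrict, Submodule.range_subtype]))
    μ.surjective_rangeRestrict l hGT
  have e2 := theta_add (N := N) (LinearMap.range μ).subtype (LinearMap.range μ).mkQ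
    Subtype.val_injective (LinearMap.exact_subtype_mkQ _) (Submodule.mkQ_surjective _) l hGT
  have hker : theta l (LinearMap.ker μ) N = theta l (LC17.Ker f X) N :=
    theta_congr l
      { toFun := fun x => ⟨((x : T) : X), congrArg Subtype.val (LinearMap.mem_ker.1 x.2)⟩
        invFun := fun x => ⟨⟨(x : X), by
            have := LinearMap.mem_ker.1 x.2
            simp only [T, LinearMap.mem_ker, LinearMap.lsmul_apply] at this ⊢
            rw [pow_succ, mul_smul, this, smul_zero]⟩, Subtype.ext (LinearMap.mem_ker.1 x.2)⟩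
        left_inv := fun _ => rfl
        right_inv := fun _ => rfl
        map_add' := fun _ _ => rfl
        map_smul' := fun _ _ => rfl }
  have hinj : Function.Injective (QuotSMulTop.map f T.subtype) := by
    have he : Function.Exact (0 : PUnit.{u + 1} →ₗ[R] T) T.subtype := by
      rw [LinearMap.exact_iff, LinearMap.range_zero]; exact T.ker_subtype
    have := QuotSMulTop.map_first_exact_on_four_term_exact_of_isSMulRegular_last he
      (LinearMap.exact_subtype_mkQ T) hreg
    rw [map_zero, LinearMap.exact_iff, LinearMap.range_zero] at this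
    exact LinearMap.ker_eq_bot.1 this
  have e3 := theta_add (N := N) (QuotSMulTop.map f T.subtype) (QuotSMulTop.map f T.mkQ) hinj
    (QuotSMulTop.map_exact f (LinearMap.exact_subtype_mkQ T) T.mkQ_surjective)
    (QuotSMulTop.map_surjective f T.mkQ_surjective) l h.quotSMulTop
  have c1 : theta l (QuotSMulTop f X) N = theta l (LC17.Cok f X) N :=
    theta_congr l (Submodule.quotEquivOfEq _ _ (LA18.quotSMulTop_eq f X))
  have c2 : theta l (QuotSMulTop f T) N = theta l (T ⧸ LinearMap.range μ) N :=
    theta_congr l (Submodule.quotEquivOfEq _ _ (LA18.quotSMulTop_eq f T))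
  rw [c1, c2] at e3
  linarith

end Theta

end Groth.Agent.IntMult12
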